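/-
An elementary abelian normal two-subgroup `A` of a subgroup `H` which meets its other conjugates in subgroups
of order prime to three: `A` is strongly closed.

* `Rich`, `Meet`, `Meet.fusion` : elements of `H` centralised by an element of order three are fused inside `H`;
* `Facts` : what is needed about the action of `H` on `A`;
* `Facts.closed` : every conjugate in `H` of an element of `A` lies in `A`.
-/
import Cfsg.Agent.EqLemmas

set_option autoImplicit false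

namespace Cfsg.Agent.U62Module

open Subgroup
open scoped Pointwise

variable {X : Type*} [Group X]

/-- An element commuting with an element of order three of `H`. -/
def Rich (H : Subgroup X) (t : X) : Prop := ∃ x ∈ H, orderOf x = 3 ∧ Commute x t

/-- `H` meets its other conjugates in subgroups of order prime to three. -/
def Meet (H : Subgroup X) : Prop :=
  ∀ g x : X, x ∈ H → orderOf x = 3 → g * x * g⁻¹ ∈ H → g ∈ H

theorem orderOf_conj' (g x : X) : orderOf (g * x * g⁻¹) = orderOf x := by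
  exact orderOf_injective (MulAut.conj g).toMonoidHom (MulAut.conj g).injective x

theorem Rich.conj {H : Subgroup X} {t : X} (h : Rich H t) {g : X} (hg : g ∈ H) : Rich H (g * t * g⁻¹) := by
  obtain ⟨x, hx, h3, hc⟩ := h
  refine ⟨g * x * g⁻¹, H.mul_mem (H.mul_mem hg hx) (H.inv_mem hg), (orderOf_conj' g x).trans h3, ?_⟩
  show g * x * g⁻¹ * (g * t * g⁻¹) = g * t * g⁻¹ * (g * x * g⁻¹)
  rw [show g * x * g⁻¹ * (g * t * g⁻¹) = g * (x * t) * g⁻¹ by group, hc.eq]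
  group

theorem Meet.cent_le {H : Subgroup X} (hH : Meet H) {x : X} (hx : x ∈ H) (h3 : orderOf x = 3) {g : X}
    (hg : Commute g x) : g ∈ H :=
  hH g x hx h3 (by rw [hg.eq, mul_inv_cancel_right]; exact hx)

variable [Finite X]

/-- A Sylow three-subgroup of the centraliser in `H` is one of the whole centraliser. -/
theorem Meet.fusion {H : Subgroup X} (hH : Meet H) {t t' : X} (hr : Rich H t) (hr' : Rich H t')
    {g : X} (hg : g * t * g⁻¹ = t') : ∃ h ∈ H, h * t * h⁻¹ = t' := by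
  have : Fact (Nat.Prime 3) := ⟨Nat.prime_three⟩
  obtain ⟨x, hx, hx3, hxt⟩ := hr
  obtain ⟨y, hy, hy3, hyt⟩ := hr'
  set C : Subgroup X := centralizer ({t'} : Set X) with hC
  have memC : ∀ z, z ∈ C ↔ Commute z t' := fun z => mem_centralizer_singleton_iff.trans Iff.rfl
  -- a Sylow three-subgroup of `C` inside `H`
  obtain ⟨P, hP⟩ : ∃ P : Sylow 3 ↥C, (P : Subgroup ↥C) ≤ H.subgroupOf C := by
    obtain ⟨P⟩ : Nonempty (Sylow 3 ↥(H.subgroupOf C)) := Sylow.nonempty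
    set R : Subgroup ↥C := (P : Subgroup ↥(H.subgroupOf C)).map (H.subgroupOf C).subtype with hR
    have hRH : R ≤ H.subgroupOf C := map_subtype_le _
    have hRp : IsPGroup 3 ↥R := P.isPGroup'.map _
    obtain ⟨Q, hQ⟩ := hRp.exists_le_sylow
    have hy' : (⟨y, (memC y).2 hyt⟩ : ↥C) ∈ H.subgroupOf C := hy
    have hRne : R ≠ ⊥ := by
      intro e
      rw [hR, map_eq_bot_iff_of_injective _ (subtype_injective _)] at e
      refine P.ne_bot_of_dvd_card ?_ e
      have h3 : orderOf (⟨⟨y, (memC y).2 hyt⟩, hy'⟩ : ↥(H.subgroupOf C)) = 3 := by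
        rw [← orderOf_submonoid, ← orderOf_submonoid]; exact hy3
      exact h3 ▸ orderOf_dvd_natCard _
    refine ⟨Q, ?_⟩
    by_contra hcon
    -- the normaliser of `R` in `Q` lies in `H`
    have hnorm : (Q : Subgroup ↥C) ⊓ normalizer (R : Set ↥C) ≤ H.subgroupOf C := by
      intro n hn
      have : Nontrivial ↥R := (nontrivial_iff_ne_bot R).2 hRne
      obtain ⟨k, hk, hcard⟩ := hRp.nontrivial_iff_card.1 ‹_›
      obtain ⟨r, hr⟩ := exists_prime_orderOf_dvd_card' (G := ↥R) 3 (hcard ▸ dvd_pow_self 3 hk.ne')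
      refine hH _ ((r : ↥C) : X) (hRH r.2) ?_ ?_
      · rw [← hr, orderOf_submonoid, orderOf_submonoid]
      · exact hRH ((mem_normalizer_iff.1 hn.2 (r : ↥C)).1 r.2)
    have hlt : R < (Q : Subgroup ↥C) := lt_of_le_of_ne hQ fun e => hcon (e ▸ hRH)
    have : Group.IsNilpotent ↥(Q : Subgroup ↥C) := Q.isPGroup'.isNilpotent
    have hlt' : R.subgroupOf (Q : Subgroup ↥C) < ⊤ := by
      rw [lt_top_iff_ne_top, Ne, subgroupOf_eq_top]
      exact not_le_of_gt hlt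
    obtain ⟨n, hn, hnR⟩ := SetLike.exists_of_lt (Group.normalizerCondition_of_isNilpotent _ hlt')
    have hnN : (n : ↥C) ∈ normalizer (R : Set ↥C) := by
      rw [mem_normalizer_iff] at hn ⊢
      intro z
      by_cases hz : z ∈ (Q : Subgroup ↥C)
      · exact hn ⟨z, hz⟩
      · constructor
        · intro h; exact absurd (hQ h) hz
        · intro h
          refine absurd ?_ hz
          have := (Q : Subgroup ↥C).mul_mem ((Q : Subgroup ↥C).mul_mem ((Q : Subgroup ↥C).inv_mem n.2) (hQ h)) n.2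
          simpa [mul_assoc] using this
    -- so it is in the Sylow subgroup of the intersection
    have hsub : IsPGroup 3 ↥(((Q : Subgroup ↥C) ⊓ H.subgroupOf C).subgroupOf (H.subgroupOf C)) :=
      (Q.isPGroup'.to_le inf_le_left).of_equiv (subgroupOfEquivOfLe inf_le_right).symm
    have heq := P.is_maximal' hsub fun p hp => by
      rw [mem_subgroupOf]
      exact ⟨hQ ⟨p, hp, rfl⟩, p.2⟩
    apply hnR
    rw [mem_subgroupOf]
    refine ⟨⟨(n : ↥C), hnorm ⟨n.2, hnN⟩⟩, ?_, rfl⟩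
    rw [SetLike.mem_coe, ← heq, mem_subgroupOf]
    exact ⟨n.2, hnorm ⟨n.2, hnN⟩⟩
  -- move the conjugate of `x` into it
  have hx' : g * x * g⁻¹ ∈ C := (memC _).2 <| by
    show g * x * g⁻¹ * t' = t' * (g * x * g⁻¹)
    rw [← hg, show g * x * g⁻¹ * (g * t * g⁻¹) = g * (x * t) * g⁻¹ by group, hxt.eq]
    group
  have hp : IsPGroup 3 ↥(zpowers (⟨g * x * g⁻¹, hx'⟩ : ↥C)) := by
    refine IsPGroup.of_card (n := 1) ?_
    rw [Nat.card_zpowers, pow_one, ← orderOf_submonoid, orderOf_conj', hx3]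
  obtain ⟨Q, hQ⟩ := hp.exists_le_sylow
  obtain ⟨c, hc⟩ := MulAction.exists_smul_eq ↥C Q P
  have hmem : c * ⟨g * x * g⁻¹, hx'⟩ * c⁻¹ ∈ H.subgroupOf C := hP <| by
    have := Subgroup.smul_mem_pointwise_smul _ (MulAut.conj c) (Q : Subgroup ↥C) (hQ (mem_zpowers _))
    rw [show MulAut.conj c • (Q : Subgroup ↥C) = ((c • Q : Sylow 3 ↥C) : Subgroup ↥C) from rfl, hc] at this
    exact this
  have hcg : (c : X) * g ∈ H := hH _ x hx hx3 <| by
    have : (c : X) * (g * x * g⁻¹) * (c : X)⁻¹ ∈ H := hmem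
    convert this using 1
    group
  refine ⟨(c : X) * g, hcg, ?_⟩
  have h1 : Commute (c : X) t' := (memC _).1 c.2
  rw [show (c : X) * g * t * ((c : X) * g)⁻¹ = (c : X) * (g * t * g⁻¹) * (c : X)⁻¹ by group, hg, h1.eq,
    mul_inv_cancel_right]

/-- What is needed about the action of `H` on `A`. -/
structure Facts (A H : Subgroup X) (t₀ : X) : Prop where
  normalizer : H = Subgroup.normalizer (A : Set X)
  meet : Meet H
  comm : ∀ a ∈ A, ∀ b ∈ A, Commute a b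
  sq : ∀ a ∈ A, a * a = 1
  rich : ∀ a ∈ A, a ≠ 1 → Rich H a
  t₀_mem : t₀ ∈ H
  t₀_nmem : t₀ ∉ A
  t₀_sq : t₀ * t₀ = 1
  classes : ∀ t ∈ H, t ∉ A → t * t = 1 → Rich H t ∨ ∃ h ∈ H, t = h * t₀ * h⁻¹
  two : ∃ u v : X, u ∈ A ∧ v ∈ A ∧ Commute u t₀ ∧ Commute v t₀ ∧ Rich H (t₀ * u) ∧ Rich H (t₀ * v) ∧
    u ≠ 1 ∧ v ≠ 1 ∧ ∀ h ∈ H, h * u * h⁻¹ ≠ v
  irred : ∀ B : Subgroup X, B ≤ A → (∀ h ∈ H, ∀ b ∈ B, h * b * h⁻¹ ∈ B) → B = ⊥ ∨ B = A

namespace Facts

variable {A H : Subgroup X} {t₀ : X} (Φ : Facts A H t₀)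
include Φ

theorem A_le : A ≤ H := Φ.normalizer ▸ le_normalizer

theorem conj_A {h : X} (hh : h ∈ H) {a : X} (ha : a ∈ A) : h * a * h⁻¹ ∈ A := by
  rw [Φ.normalizer] at hh
  exact (mem_normalizer_iff.1 hh a).1 ha

/-- A conjugate of an element of `A` which is centralised by an element of order three lies in `A`. -/
theorem mem_of_rich {a : X} (ha : a ∈ A) (ha1 : a ≠ 1) {g : X} (hr : Rich H (g * a * g⁻¹)) :
    g * a * g⁻¹ ∈ A := by
  obtain ⟨h, hh, he⟩ := Φ.meet.fusion (Φ.rich a ha ha1) hr rfl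
  rw [← he]
  exact Φ.conj_A hh ha

theorem conj_cases {a : X} (ha : a ∈ A) (ha1 : a ≠ 1) {g : X} (hH : g * a * g⁻¹ ∈ H) :
    g * a * g⁻¹ ∈ A ∨ IsConj a t₀ := by
  by_cases hA : g * a * g⁻¹ ∈ A
  · exact Or.inl hA
  have hsq : g * a * g⁻¹ * (g * a * g⁻¹) = 1 := by
    rw [show g * a * g⁻¹ * (g * a * g⁻¹) = g * (a * a) * g⁻¹ by group, Φ.sq a ha, mul_one, mul_inv_cancel]
  rcases Φ.classes _ hH hA hsq with hr | ⟨h, -, he⟩
  · exact absurd (Φ.mem_of_rich ha ha1 hr) hA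
  · refine Or.inr (isConj_iff.2 ⟨h⁻¹ * g, ?_⟩)
    rw [show h⁻¹ * g * a * (h⁻¹ * g)⁻¹ = h⁻¹ * (g * a * g⁻¹) * h by group, he]
    group

/-- `A` is weakly closed in `H`. -/
theorem weakly {g : X} (hg : ∀ a ∈ A, g * a * g⁻¹ ∈ H) : g ∈ H := by
  obtain ⟨u, v, hu, hv, -, -, -, -, hu1, hv1, huv⟩ := Φ.two
  -- not both of `u`, `v` are conjugate to `t₀`
  obtain ⟨w, hw, hw1, hwt⟩ : ∃ w ∈ A, w ≠ 1 ∧ ¬ IsConj w t₀ := by
    by_contra! hcon
    obtain ⟨c, hc⟩ := isConj_iff.1 ((hcon u hu hu1).trans (hcon v hv hv1).symm)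
    obtain ⟨h, hh, he⟩ := Φ.meet.fusion (Φ.rich u hu hu1) (Φ.rich v hv hv1) hc
    exact huv h hh he
  set B : Subgroup X := closure {x | ∃ h ∈ H, h * w * h⁻¹ = x} with hB
  have hBA : B ≤ A := (closure_le _).2 <| by
    rintro _ ⟨h, hh, rfl⟩
    exact Φ.conj_A hh hw
  have hBH : ∀ h ∈ H, ∀ b ∈ B, h * b * h⁻¹ ∈ B := by
    intro h hh b hb
    have hle : B ≤ B.comap (MulAut.conj h).toMonoidHom := (closure_le _).2 <| by
      rintro _ ⟨k, hk, rfl⟩
      exact subset_closure ⟨h * k, H.mul_mem hh hk, by simp [mul_assoc]⟩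
    exact hle hb
  have hwB : w ∈ B := subset_closure ⟨1, H.one_mem, by group⟩
  have hBeq : B = A := (Φ.irred B hBA hBH).resolve_left fun e => hw1 (by rwa [e, mem_bot] at hwB)
  have hmap : ∀ a ∈ A, g * a * g⁻¹ ∈ A := by
    intro a ha
    have hle : B ≤ A.comap (MulAut.conj g).toMonoidHom := (closure_le _).2 <| by
      rintro _ ⟨h, hh, rfl⟩
      have hmem := Φ.conj_A hh hw
      refine (Φ.conj_cases hmem ?_ (hg _ hmem)).resolve_right fun hc => hwt ?_
      · intro e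
        exact hw1 (conj_eq_one_iff.1 e)
      · exact ((isConj_iff.2 ⟨h, rfl⟩ : IsConj w (h * w * h⁻¹))).trans hc
    exact hle (hBeq ▸ ha)
  rw [Φ.normalizer]
  exact mem_normalizer_fintype hmap

theorem exists_sylow : ∃ S : Sylow 2 X, (S : Subgroup X) ≤ H ∧ A ≤ S := by
  have : Fact (Nat.Prime 2) := ⟨Nat.prime_two⟩
  have hAp : IsPGroup 2 ↥A := fun a => ⟨1, Subtype.ext (by simp [pow_two, Φ.sq a a.2])⟩
  obtain ⟨P, hP⟩ := (hAp.of_equiv (subgroupOfEquivOfLe Φ.A_le).symm).exists_le_sylow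
  set R : Subgroup X := (P : Subgroup ↥H).map H.subtype with hR
  obtain ⟨S, hS⟩ := (P.isPGroup'.map H.subtype : IsPGroup 2 ↥R).exists_le_sylow
  have hAR : A ≤ R := fun a ha => ⟨⟨a, Φ.A_le ha⟩, hP ha, rfl⟩
  refine ⟨S, ?_, hAR.trans hS⟩
  by_contra hcon
  have hRH : R ≤ H := map_subtype_le _
  have hlt : R < (S : Subgroup X) := lt_of_le_of_ne hS fun e => hcon (e ▸ hRH)
  have : Group.IsNilpotent ↥(S : Subgroup X) := S.isPGroup'.isNilpotent
  have hlt' : R.subgroupOf (S : Subgroup X) < ⊤ := by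
    rw [lt_top_iff_ne_top, Ne, subgroupOf_eq_top]
    exact not_le_of_gt hlt
  obtain ⟨n, hn, hnR⟩ := SetLike.exists_of_lt (Group.normalizerCondition_of_isNilpotent _ hlt')
  have hnH : (n : X) ∈ H := Φ.weakly fun a ha =>
    hRH ((mem_normalizer_iff.1 hn ⟨a, hS (hAR ha)⟩).1 (hAR ha))
  have hsub : IsPGroup 2 ↥(((S : Subgroup X) ⊓ H).subgroupOf H) :=
    (S.isPGroup'.to_le inf_le_left).of_equiv (subgroupOfEquivOfLe inf_le_right).symm
  have heq := P.is_maximal' hsub fun p hp => by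
    rw [mem_subgroupOf]
    exact ⟨hS ⟨p, hp, rfl⟩, p.2⟩
  apply hnR
  rw [mem_subgroupOf]
  refine ⟨⟨(n : X), hnH⟩, ?_, rfl⟩
  rw [SetLike.mem_coe, ← heq, mem_subgroupOf]
  exact ⟨n.2, hnH⟩

/-- A two-subgroup of the centraliser of an element of `A` can be moved into `H`, fixing the element. -/
theorem move {a : X} (ha : a ∈ A) {P : Subgroup X} (hP : IsPGroup 2 ↥P)
    (hPa : ∀ p ∈ P, Commute p a) : ∃ c : X, Commute c a ∧ ∀ p ∈ P, c * p * c⁻¹ ∈ H := by
  have : Fact (Nat.Prime 2) := ⟨Nat.prime_two⟩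
  set C : Subgroup X := centralizer ({a} : Set X) with hC
  have memC : ∀ z, z ∈ C ↔ Commute z a := fun z => mem_centralizer_singleton_iff.trans Iff.rfl
  have hAC : A ≤ C := fun b hb => (memC b).2 (Φ.comm b hb a ha)
  have hAp : IsPGroup 2 ↥A := fun a => ⟨1, Subtype.ext (by simp [pow_two, Φ.sq a a.2])⟩
  obtain ⟨T, hT⟩ := ((hAp.of_equiv (subgroupOfEquivOfLe (le_inf Φ.A_le hAC)).symm :
    IsPGroup 2 ↥(A.subgroupOf (H ⊓ C)))).exists_le_sylow
  set R : Subgroup ↥C := ((T : Subgroup ↥(H ⊓ C)).map (H ⊓ C).subtype).subgroupOf C with hR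
  have hRH : R ≤ H.subgroupOf C := by
    rintro r ⟨p, -, hp⟩
    show (r : X) ∈ H
    rw [show (r : X) = (p : X) from hp.symm]
    exact p.2.1
  have hRp : IsPGroup 2 ↥R :=
    (T.isPGroup'.map _).of_equiv (subgroupOfEquivOfLe
      (show (T : Subgroup ↥(H ⊓ C)).map (H ⊓ C).subtype ≤ C by rintro _ ⟨p, -, rfl⟩; exact p.2.2)).symm
  have hAR : A.subgroupOf C ≤ R := fun b hb => ⟨⟨b, Φ.A_le hb, b.2⟩, hT hb, rfl⟩
  obtain ⟨Q, hQ⟩ := hRp.exists_le_sylow
  have hQH : (Q : Subgroup ↥C) ≤ H.subgroupOf C := by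
    by_contra hcon
    have hlt : R < (Q : Subgroup ↥C) := lt_of_le_of_ne hQ fun e => hcon (e ▸ hRH)
    have : Group.IsNilpotent ↥(Q : Subgroup ↥C) := Q.isPGroup'.isNilpotent
    have hlt' : R.subgroupOf (Q : Subgroup ↥C) < ⊤ := by
      rw [lt_top_iff_ne_top, Ne, subgroupOf_eq_top]
      exact not_le_of_gt hlt
    obtain ⟨n, hn, hnR⟩ := SetLike.exists_of_lt (Group.normalizerCondition_of_isNilpotent _ hlt')
    have hnH : ((n : ↥C) : X) ∈ H := Φ.weakly fun b hb => by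
      have hb' : (⟨b, hAC hb⟩ : ↥C) ∈ R := hAR hb
      exact hRH ((mem_normalizer_iff.1 hn ⟨⟨b, hAC hb⟩, hQ hb'⟩).1 hb')
    have hsub : IsPGroup 2
        ↥((((Q : Subgroup ↥C) ⊓ H.subgroupOf C).map C.subtype).subgroupOf (H ⊓ C)) := by
      refine ((Q.isPGroup'.to_le inf_le_left).map _).of_equiv (subgroupOfEquivOfLe ?_).symm
      rintro _ ⟨q, hq, rfl⟩
      exact ⟨hq.2, q.2⟩
    have heq := T.is_maximal' hsub fun p hp => by
      have hpR : (⟨p, p.2.2⟩ : ↥C) ∈ R := ⟨p, hp, rfl⟩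
      rw [mem_subgroupOf]
      exact ⟨⟨p, p.2.2⟩, ⟨hQ hpR, p.2.1⟩, rfl⟩
    apply hnR
    rw [mem_subgroupOf]
    refine ⟨⟨((n : ↥C) : X), hnH, (n : ↥C).2⟩, ?_, rfl⟩
    rw [SetLike.mem_coe, ← heq, mem_subgroupOf]
    exact ⟨(n : ↥C), ⟨n.2, hnH⟩, rfl⟩
  have hPC : P ≤ C := fun p hp => (memC p).2 (hPa p hp)
  obtain ⟨Q', hQ'⟩ := (hP.of_equiv (subgroupOfEquivOfLe hPC).symm).exists_le_sylow
  obtain ⟨c, hc⟩ := MulAction.exists_smul_eq ↥C Q' Q
  refine ⟨c, (memC _).1 c.2, fun p hp => ?_⟩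
  have : c * ⟨p, hPC hp⟩ * c⁻¹ ∈ H.subgroupOf C := hQH <| by
    have := Subgroup.smul_mem_pointwise_smul _ (MulAut.conj c) (Q' : Subgroup ↥C) (hQ' (x := ⟨p, hPC hp⟩) hp)
    rw [show MulAut.conj c • (Q' : Subgroup ↥C) = ((c • Q' : Sylow 2 ↥C) : Subgroup ↥C) from rfl, hc] at this
    exact this
  exact this

/-- The exceptional involution is not conjugate to an element of `A`. -/
theorem t₀_not_conj {a : X} (ha : a ∈ A) (hc : IsConj t₀ a) : False := by
  obtain ⟨g, hg⟩ := isConj_iff.1 hc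
  have ha1 : a ≠ 1 := fun e => Φ.t₀_nmem (by
    have := hg.trans e
    rw [conj_eq_one_iff] at this
    rw [this]; exact A.one_mem)
  set C₀ : Subgroup X := closure (insert t₀ {u | u ∈ A ∧ Commute u t₀}) with hC₀
  have hcommgen : ∀ x ∈ insert t₀ {u | u ∈ A ∧ Commute u t₀}, ∀ y ∈ insert t₀ {u | u ∈ A ∧ Commute u t₀},
      x * y = y * x := by
    rintro x (rfl | hx) y (rfl | hy)
    · rfl
    · exact hy.2.symm.eq
    · exact hx.2.eq
    · exact (Φ.comm x hx.1 y hy.1).eq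
  have hP2 : IsPGroup 2 ↥C₀ := by
    have := Subgroup.isMulCommutative_closure hcommgen
    intro p
    refine ⟨1, Subtype.ext ?_⟩
    have : ∀ x ∈ C₀, x * x = 1 := by
      intro x hx
      refine closure_induction (fun y hy => ?_) (mul_one 1) (fun y z hy hz ey ez => ?_) (fun y _ ey => ?_) hx
      · rcases hy with rfl | hy
        · exact Φ.t₀_sq
        · exact Φ.sq y hy.1
      · have hyz : y * z = z * y := congrArg Subtype.val (mul_comm' (⟨y, hy⟩ : ↥C₀) ⟨z, hz⟩)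
        rw [show y * z * (y * z) = y * (z * y) * z by group, ← hyz,
          show y * (y * z) * z = y * y * (z * z) by group, ey, ez, mul_one]
      · rw [← mul_inv_rev, ey, inv_one]
    simp [pow_two, this p p.2]
  obtain ⟨c, hca, hcH⟩ := Φ.move ha (hP2.map (MulAut.conj g).toMonoidHom) (by
    rintro _ ⟨p, hp, rfl⟩
    have hpt : Commute p t₀ := by
      have := Subgroup.isMulCommutative_closure hcommgen
      exact congrArg Subtype.val (mul_comm' (⟨p, hp⟩ : ↥C₀) ⟨t₀, subset_closure (Set.mem_insert _ _)⟩)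
    rw [← hg]
    show (MulAut.conj g p) * MulAut.conj g t₀ = MulAut.conj g t₀ * MulAut.conj g p
    rw [← map_mul, hpt.eq, map_mul])
  set g' := c * g with hg'
  have hg't : g' * t₀ * g'⁻¹ = a := by
    rw [hg', show c * g * t₀ * (c * g)⁻¹ = c * (g * t₀ * g⁻¹) * c⁻¹ by group, hg, hca.eq, mul_inv_cancel_right]
  have key : ∀ u ∈ A, u ≠ 1 → Commute u t₀ → Rich H (t₀ * u) → IsConj u t₀ := by
    intro u hu hu1 hut hr
    have hmem : g' * u * g'⁻¹ ∈ H := by
      have := hcH _ ⟨u, subset_closure (Set.mem_insert_of_mem _ ⟨hu, hut⟩), rfl⟩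
      rw [hg', show c * g * u * (c * g)⁻¹ = c * (g * u * g⁻¹) * c⁻¹ by group]
      exact this
    refine (Φ.conj_cases hu hu1 hmem).resolve_left fun hA => ?_
    set b := g' * (t₀ * u) * g'⁻¹ with hb
    have hbA : b ∈ A := by
      rw [hb, show g' * (t₀ * u) * g'⁻¹ = g' * t₀ * g'⁻¹ * (g' * u * g'⁻¹) by group, hg't]
      exact A.mul_mem ha hA
    have hb1 : b ≠ 1 := fun e => Φ.t₀_nmem (by
      rw [hb, conj_eq_one_iff] at e
      rw [eq_inv_of_mul_eq_one_left e]; exact A.inv_mem hu)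
    have hback : g'⁻¹ * b * g'⁻¹⁻¹ = t₀ * u := by rw [hb]; group
    have := Φ.mem_of_rich hbA hb1 (g := g'⁻¹) (hback ▸ hr)
    rw [hback] at this
    exact Φ.t₀_nmem ((A.mul_mem_cancel_right hu).1 this)
  obtain ⟨u, v, hu, hv, hut, hvt, hru, hrv, hu1, hv1, huv⟩ := Φ.two
  obtain ⟨d, hd⟩ := isConj_iff.1 ((key u hu hu1 hut hru).trans (key v hv hv1 hvt hrv).symm)
  obtain ⟨h, hh, he⟩ := Φ.meet.fusion (Φ.rich u hu hu1) (Φ.rich v hv hv1) hd
  exact huv h hh he

/-- Every conjugate in `H` of an element of `A` lies in `A`. -/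
theorem closed {a : X} (ha : a ∈ A) {g : X} (hH : g * a * g⁻¹ ∈ H) : g * a * g⁻¹ ∈ A := by
  by_cases ha1 : a = 1
  · rw [ha1, mul_one, mul_inv_cancel]; exact A.one_mem
  exact (Φ.conj_cases ha ha1 hH).resolve_right fun hc => Φ.t₀_not_conj ha hc.symm

end Facts

end Cfsg.Agent.U62Module
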