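/-
Linear maps of bit vectors given by the images of the unit vectors.

* `ev cols x` : the sum of the `cols` over the digits one of `x`;
* `ev_xor`, `ev_lt` : additivity, bounds;
* `eq_ev` : an additive map is the evaluation of its values on the unit vectors;
* `comp` : composition.
-/
import Cfsg.Agent.EqLemmas

set_option autoImplicit false

namespace Cfsg.Agent.U62Module

/-- The sum of the entries of `cols` at the digits one of `x`. -/
def ev : List ℕ → ℕ → ℕ
  | [], _ => 0
  | c :: cs, x => (if Nat.beq (x % 2) 0 then 0 else c) ^^^ ev cs (x / 2)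

/-- The composite: first `N`, then `M`. -/
def comp (M N : List ℕ) : List ℕ := N.map (ev M)

/-- The unit vectors. -/
def unitCols : List ℕ := (List.range 20).map fun i => 2 ^ i

theorem ev_zero : ∀ cols : List ℕ, ev cols 0 = 0
  | [] => rfl
  | c :: cs => by show (0 : ℕ) ^^^ ev cs 0 = 0; rw [ev_zero cs, Nat.xor_zero]

theorem ev_xor : ∀ (cols : List ℕ) (x y : ℕ), ev cols (x ^^^ y) = ev cols x ^^^ ev cols y
  | [], _, _ => by simp [ev]
  | c :: cs, x, y => by
    simp only [ev, Nat.xor_div_two, ev_xor cs]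
    have h : (x ^^^ y) % 2 = (x % 2) ^^^ (y % 2) := Nat.xor_mod_two_pow (n := 1)
    rw [h]
    rcases Nat.mod_two_eq_zero_or_one x with hx | hx <;> rcases Nat.mod_two_eq_zero_or_one y with hy | hy <;>
      simp [hx, hy, Nat.xor_assoc, Nat.xor_left_comm]

theorem ev_lt {n : ℕ} : ∀ {cols : List ℕ}, (∀ c ∈ cols, c < 2 ^ n) → ∀ x, ev cols x < 2 ^ n
  | [], _, _ => Nat.two_pow_pos n
  | c :: cs, h, x => by
    refine Nat.xor_lt_two_pow ?_ (ev_lt (fun d hd => h d (List.mem_cons_of_mem _ hd)) _)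
    split
    · exact Nat.two_pow_pos n
    · exact h c List.mem_cons_self

theorem eq_ev_aux : ∀ (n : ℕ) (f : ℕ → ℕ), (∀ x y, x < 2 ^ n → y < 2 ^ n → f (x ^^^ y) = f x ^^^ f y) →
    ∀ x, x < 2 ^ n → f x = ev ((List.range n).map fun i => f (2 ^ i)) x
  | 0, f, hf, x, hx => by
    obtain rfl : x = 0 := by omega
    have h := hf 0 0 hx hx
    simpa [ev] using h
  | n + 1, f, hf, x, hx => by
    have hsplit : x = (x % 2) ^^^ (2 * (x / 2)) := by
      rcases Nat.mod_two_eq_zero_or_one x with h | h <;> rw [h]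
      · rw [Nat.zero_xor]; omega
      · have : (1 : ℕ) ^^^ 2 * (x / 2) = 2 * (x / 2) + 1 := by
          rw [Nat.xor_comm]
          exact Nat.xor_one_of_even ⟨x / 2, by ring⟩
        omega
    have hd : 2 * (x / 2) < 2 ^ (n + 1) := by omega
    have h1 : x % 2 < 2 ^ (n + 1) := by
      have := Nat.two_pow_pos n
      rw [pow_succ]; omega
    have hf0 : f 0 = 0 := by
      have h := hf 0 0 (Nat.two_pow_pos _) (Nat.two_pow_pos _)
      simpa using h
    have ih := eq_ev_aux n (fun z => f (2 * z)) (fun a b ha hb => by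
      rw [← hf _ _ (by rw [pow_succ]; omega) (by rw [pow_succ]; omega)]
      congr 1
      exact Nat.shiftLeft_xor_distrib (i := 1) ▸ (by simp [Nat.shiftLeft_eq, mul_comm]))
      (x / 2) (by rw [pow_succ] at hx; omega)
    conv_lhs => rw [hsplit, hf _ _ h1 hd]
    rw [List.range_succ_eq_map, List.map_cons, List.map_map, ev]
    congr 1
    · rcases Nat.mod_two_eq_zero_or_one x with h | h <;> simp [h, hf0]
    · rw [ih]
      congr 1
      refine List.map_congr_left fun i _ => ?_
      simp only [Function.comp, pow_succ]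
      rw [mul_comm]

/-- An additive map is the evaluation of its values on the unit vectors. -/
theorem eq_ev {n : ℕ} {f : ℕ → ℕ} (hf : ∀ x y, x < 2 ^ n → y < 2 ^ n → f (x ^^^ y) = f x ^^^ f y)
    {x : ℕ} (hx : x < 2 ^ n) : f x = ev ((List.range n).map fun i => f (2 ^ i)) x :=
  eq_ev_aux n f hf x hx

theorem ev_unit {x : ℕ} (hx : x < 2 ^ 20) : ev unitCols x = x :=
  (eq_ev (f := id) (fun _ _ _ _ => rfl) hx).symm

/-- Two additive maps which agree on the unit vectors agree. -/
theorem ext_unit {f g : ℕ → ℕ} (hf : ∀ x y, f (x ^^^ y) = f x ^^^ f y) (hg : ∀ x y, g (x ^^^ y) = g x ^^^ g y)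
    (h : ∀ i < 20, f (2 ^ i) = g (2 ^ i)) {x : ℕ} (hx : x < 2 ^ 20) : f x = g x := by
  rw [eq_ev (fun a b _ _ => hf a b) hx, eq_ev (fun a b _ _ => hg a b) hx,
    List.map_congr_left fun i hi => h i (List.mem_range.1 hi)]

theorem ev_comp (M : List ℕ) : ∀ (N : List ℕ) (x : ℕ), ev (comp M N) x = ev M (ev N x)
  | [], _ => (ev_zero M).symm
  | c :: cs, x => by
    show (if Nat.beq (x % 2) 0 then 0 else ev M c) ^^^ ev (comp M cs) (x / 2) = _
    rw [ev_comp M cs, ev, ev_xor]
    split <;> simp [ev_zero]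

end Cfsg.Agent.U62Module
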