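/-
Six by six matrices over the field with four elements by their rows, and words in transvections.

* `tmat`, `mmul`, `wmat` : transvections, products, words;
* `wsu` : the element of SU(6,2) of a word; `mt_wsu` : its matrix;
* `wsu_eq` : two words with the same matrix give the same element;
* `cjm`, `cjSU` : conjugation of the entries.
-/
import Cfsg.Agent.Lib.U62Module.Bits
import Cfsg.Agent.Lib.U62Rec.Space

set_option autoImplicit false

namespace Cfsg.Agent.U62Module

open Cfsg.Agent.U62Cover Cfsg.Agent.ThreeTransSU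
open scoped Matrix

/-- The field with four elements. -/
abbrev K : Type := Cfsg.Agent.SU32.K4

/-- The group. -/
abbrev U6 : Type := ↥(Cfsg.SU 6 K 2)

theorem cardK : Fintype.card K = 4 := Cfsg.Agent.SU32.K4.card_eq

/-- The digit in base four. -/
def g4 (r j : ℕ) : ℕ := (r >>> (2 * j)) &&& 3

/-- The product of two digits. -/
def m4 (a b : ℕ) : ℕ := (2625168384 >>> (2 * (4 * a + b))) &&& 3

/-- The conjugate of a digit. -/
def c4 (a : ℕ) : ℕ := (180 >>> (2 * a)) &&& 3

/-- A digit as an element of the field. -/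
def k4 : ℕ → K
  | 1 => .o
  | 2 => .w
  | 3 => .w2
  | _ => .z

/-- A multiple of a row of six digits. -/
def smulRow (a r : ℕ) : ℕ :=
  match a with
  | 1 => r % 4096
  | 2 => (((r % 4096) >>> 1 &&& 1365) ^^^ (r % 4096 &&& 1365)) <<< 1 ^^^ ((r % 4096) >>> 1 &&& 1365)
  | 3 => (r % 4096 &&& 1365) <<< 1 ^^^ (((r % 4096) >>> 1 &&& 1365) ^^^ (r % 4096 &&& 1365))
  | _ => 0

/-- The conjugate of a row. -/
def cjRow (r : ℕ) : ℕ :=
  ((r % 4096) >>> 1 &&& 1365) <<< 1 ^^^ (((r % 4096) >>> 1 &&& 1365) ^^^ (r % 4096 &&& 1365))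

/-- The identity. -/
def idMat : List ℕ := [1, 4, 16, 64, 256, 1024]

/-- The entrywise conjugate. -/
def cjm (A : List ℕ) : List ℕ := A.map cjRow

/-- The row of a product. -/
def rowMul (a : ℕ) (B : List ℕ) : ℕ :=
  smulRow (g4 a 0) (B.getD 0 0) ^^^ smulRow (g4 a 1) (B.getD 1 0) ^^^ smulRow (g4 a 2) (B.getD 2 0) ^^^
    smulRow (g4 a 3) (B.getD 3 0) ^^^ smulRow (g4 a 4) (B.getD 4 0) ^^^ smulRow (g4 a 5) (B.getD 5 0)

/-- The product. -/
def mmul (A B : List ℕ) : List ℕ := A.map fun a => rowMul a B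

/-- The transvection with centre `v`. -/
def tmat (v : ℕ) : List ℕ := (List.range 6).map fun i => (1 <<< (2 * i)) ^^^ smulRow (g4 v i) (cjRow v)

/-- The transvection applied to the rows of a matrix. -/
def tapp (v : ℕ) (A : List ℕ) : List ℕ :=
  let s := rowMul (cjRow v) A
  [A.getD 0 0 ^^^ smulRow (g4 v 0) s, A.getD 1 0 ^^^ smulRow (g4 v 1) s, A.getD 2 0 ^^^ smulRow (g4 v 2) s,
    A.getD 3 0 ^^^ smulRow (g4 v 3) s, A.getD 4 0 ^^^ smulRow (g4 v 4) s, A.getD 5 0 ^^^ smulRow (g4 v 5) s]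

/-- The matrix of a word. -/
def wmat (w : List ℕ) : List ℕ := w.foldr tapp idMat

/-- The matrix of the rows. -/
def toMat (A : List ℕ) : Matrix (Fin 6) (Fin 6) K := fun i j => k4 (g4 (A.getD i.val 0) j.val)

/-- The vector of a row. -/
def centre (v : ℕ) : Fin 6 → K := fun i => k4 (g4 v i.val)

/-- An isotropic centre. -/
def iso (v : ℕ) : Bool :=
  Nat.beq (m4 (g4 v 0) (c4 (g4 v 0)) ^^^ m4 (g4 v 1) (c4 (g4 v 1)) ^^^ m4 (g4 v 2) (c4 (g4 v 2)) ^^^
    m4 (g4 v 3) (c4 (g4 v 3)) ^^^ m4 (g4 v 4) (c4 (g4 v 4)) ^^^ m4 (g4 v 5) (c4 (g4 v 5))) 0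

/-- The element of a word. -/
noncomputable def wsu (w : List ℕ) : U6 := (w.map fun v => tv cardK (centre v)).prod

theorem g4_lt (r j : ℕ) : g4 r j < 4 := Nat.lt_succ_of_le Nat.and_le_right

theorem g4_xor (x y j : ℕ) : g4 (x ^^^ y) j = g4 x j ^^^ g4 y j := by
  show ((x ^^^ y) >>> _) &&& 3 = (x >>> _ &&& 3) ^^^ (y >>> _ &&& 3)
  rw [Nat.shiftRight_xor_distrib, Nat.and_xor_distrib_right]

theorem m4_lt (a b : ℕ) : m4 a b < 4 := Nat.lt_succ_of_le Nat.and_le_right

theorem c4_lt (a : ℕ) : c4 a < 4 := Nat.lt_succ_of_le Nat.and_le_right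

theorem k4_facts : (∀ a b : Fin 4, k4 (a.val ^^^ b.val) = k4 a.val + k4 b.val) ∧
    (∀ a b : Fin 4, k4 (m4 a.val b.val) = k4 a.val * k4 b.val) ∧
    (∀ a : Fin 4, k4 (c4 a.val) = k4 a.val ^ 2) ∧ (∀ a : Fin 4, k4 a.val = 0 → a.val = 0) := by
  decide +kernel

theorem k4_xor {a b : ℕ} (ha : a < 4) (hb : b < 4) : k4 (a ^^^ b) = k4 a + k4 b :=
  k4_facts.1 ⟨a, ha⟩ ⟨b, hb⟩

theorem k4_mul {a b : ℕ} (ha : a < 4) (hb : b < 4) : k4 (m4 a b) = k4 a * k4 b :=
  k4_facts.2.1 ⟨a, ha⟩ ⟨b, hb⟩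

theorem k4_sq {a : ℕ} (ha : a < 4) : k4 (c4 a) = k4 a ^ 2 := k4_facts.2.2.1 ⟨a, ha⟩

theorem g4_shift_all : ∀ x : Fin 4, ∀ i j : Fin 6,
    g4 (x.val <<< (2 * i.val)) j.val = if i = j then x.val else 0 := by decide +kernel

theorem g4_shift {x : ℕ} (hx : x < 4) (i j : Fin 6) :
    g4 (x <<< (2 * i.val)) j.val = if i = j then x else 0 := g4_shift_all ⟨x, hx⟩ i j

theorem g4_mod (r : ℕ) (j : Fin 6) : g4 (r % 4096) j.val = g4 r j.val := by
  simp only [g4, Nat.shiftRight_eq_div_pow]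
  rw [show (3 : ℕ) = 2 ^ 2 - 1 from rfl, Nat.and_two_pow_sub_one_eq_mod, Nat.and_two_pow_sub_one_eq_mod]
  fin_cases j <;> simp <;> omega

theorem smulRow_facts : (List.range 4096).all (fun r => (List.range 4).all fun a => (List.range 6).all fun j =>
    Nat.beq (g4 (smulRow a r) j) (m4 a (g4 r j))) = true := by decide +kernel

theorem cjRow_facts : (List.range 4096).all (fun r => (List.range 6).all fun j =>
    Nat.beq (g4 (cjRow r) j) (c4 (g4 r j))) = true := by decide +kernel

theorem g4_smulRow {a : ℕ} (ha : a < 4) (r : ℕ) (j : Fin 6) : g4 (smulRow a r) j.val = m4 a (g4 r j.val) := by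
  have h : smulRow a r = smulRow a (r % 4096) := by
    simp only [smulRow, Nat.mod_mod]
  rw [h, ← g4_mod r j]
  exact Nat.eq_of_beq_eq_true (List.all_eq_true.1 (List.all_eq_true.1 (List.all_eq_true.1 smulRow_facts
    (r % 4096) (List.mem_range.2 (Nat.mod_lt _ (by norm_num)))) a (List.mem_range.2 ha)) j.val
    (List.mem_range.2 j.isLt))

theorem g4_cjRow (r : ℕ) (j : Fin 6) : g4 (cjRow r) j.val = c4 (g4 r j.val) := by
  have h : cjRow r = cjRow (r % 4096) := by simp only [cjRow, Nat.mod_mod]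
  rw [h, ← g4_mod r j]
  exact Nat.eq_of_beq_eq_true (List.all_eq_true.1 (List.all_eq_true.1 cjRow_facts
    (r % 4096) (List.mem_range.2 (Nat.mod_lt _ (by norm_num)))) j.val (List.mem_range.2 j.isLt))

theorem getD_map {α : Type*} (A : List ℕ) (f : ℕ → α) (d : α) (h0 : f 0 = d) (i : ℕ) :
    (A.map f).getD i d = f (A.getD i 0) := by
  rcases lt_or_ge i A.length with h | h
  · rw [List.getD_eq_getElem _ _ (by simpa using h), List.getD_eq_getElem _ _ h, List.getElem_map]
  · rw [List.getD_eq_default _ _ (by simpa using h), List.getD_eq_default _ _ h, h0]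

theorem toMat_mmul (A B : List ℕ) : toMat (mmul A B) = toMat A * toMat B := by
  funext i j
  have hm : ∀ b : Fin 4, m4 0 b.val = 0 := by decide +kernel
  have hs : ∀ r, smulRow 0 r = 0 := fun r => by
    rfl
  have h0 : rowMul 0 B = 0 := by
    simp [rowMul, show ∀ k, g4 0 k = 0 from fun k => by simp [g4], hs]
  simp only [toMat, mmul]
  rw [getD_map A (fun a => rowMul a B) 0 h0]
  simp only [rowMul, Matrix.mul_apply, Fin.sum_univ_six]
  simp only [g4_xor, g4_smulRow (g4_lt _ _)]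
  repeat rw [k4_xor]
  · simp only [k4_mul (g4_lt _ _) (g4_lt _ _)]
    rfl
  all_goals
    first
    | exact m4_lt _ _
    | repeat refine Nat.xor_lt_two_pow (n := 2) ?_ (m4_lt _ _)
      exact m4_lt _ _

theorem toMat_id : toMat idMat = 1 := by decide +kernel

theorem toMat_cjm (A : List ℕ) (i j : Fin 6) : toMat (cjm A) i j = toMat A i j ^ 2 := by
  have h0 : cjRow 0 = 0 := by decide +kernel
  simp only [toMat, cjm]
  rw [getD_map A cjRow 0 h0, g4_cjRow, k4_sq (g4_lt _ _)]

theorem iso_spec {v : ℕ} (h : iso v = true) : hf (centre v) (centre v) = 0 := by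
  have h' := congrArg k4 (Nat.eq_of_beq_eq_true h)
  repeat rw [k4_xor] at h'
  · simp only [k4_mul (g4_lt _ _) (c4_lt _), k4_sq (g4_lt _ _)] at h'
    show ∑ i : Fin 6, _ = _
    rw [Fin.sum_univ_six]
    exact h'
  all_goals
    first
    | exact m4_lt _ _
    | repeat refine Nat.xor_lt_two_pow (n := 2) ?_ (m4_lt _ _)
      exact m4_lt _ _

theorem mt_tv {v : ℕ} (h : iso v = true) : mt (tv cardK (centre v)) = toMat (tmat v) := by
  refine Matrix.ext_iff_mulVec.2 fun x => ?_
  rw [tv_mulVec cardK (iso_spec h)]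
  funext i
  have he : ∀ j : Fin 6, toMat (tmat v) i j
      = (if i = j then 1 else 0) + centre v i * centre v j ^ 2 := by
    intro j
    have hi : (tmat v).getD i.val 0 = (1 <<< (2 * i.val)) ^^^ smulRow (g4 v i.val) (cjRow v) := by
      rw [tmat, List.getD_eq_getElem _ _ (by simp), List.getElem_map, List.getElem_range]
    simp only [toMat, hi, g4_xor, g4_smulRow (g4_lt _ _), g4_cjRow]
    rw [g4_shift (by norm_num), k4_xor (by split <;> norm_num) (m4_lt _ _), k4_mul (g4_lt _ _) (c4_lt _),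
      k4_sq (g4_lt _ _)]
    split <;> rfl
  simp only [Matrix.mulVec, dotProduct, he, add_mul, Finset.sum_add_distrib, ite_mul, one_mul, zero_mul,
    Finset.sum_ite_eq, Finset.mem_univ, if_true, Pi.add_apply, Pi.smul_apply, smul_eq_mul]
  congr 1
  simp only [Cfsg.hermForm, Finset.sum_mul]
  refine Finset.sum_congr rfl fun j _ => ?_
  ring

theorem wsu_nil : wsu [] = 1 := rfl

theorem wsu_cons (v : ℕ) (w : List ℕ) : wsu (v :: w) = tv cardK (centre v) * wsu w := List.prod_cons

theorem wsu_append (a b : List ℕ) : wsu (a ++ b) = wsu a * wsu b := by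
  simp [wsu, List.map_append, List.prod_append]

theorem mt_mul' (a b : U6) : mt (a * b) = mt a * mt b := rfl

theorem toMat_tapp (v : ℕ) (A : List ℕ) : toMat (tapp v A) = toMat (mmul (tmat v) A) := by
  rw [toMat_mmul]
  funext i j
  have hr : ∀ k : ℕ, k4 (g4 (rowMul k A) j.val) = ∑ l : Fin 6, k4 (g4 k l.val) * toMat A l j := by
    intro k
    have h : toMat (mmul [k] A) 0 j = (toMat [k] * toMat A) 0 j := by rw [toMat_mmul]
    rw [Matrix.mul_apply] at h
    exact h
  have hi : ∀ k : Fin 6, toMat (tmat v) i k = (if i = k then 1 else 0) + centre v i * k4 (g4 (cjRow v) k.val) := by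
    intro k
    have hg : (tmat v).getD i.val 0 = (1 <<< (2 * i.val)) ^^^ smulRow (g4 v i.val) (cjRow v) := by
      rw [tmat, List.getD_eq_getElem _ _ (by simp), List.getElem_map, List.getElem_range]
    simp only [toMat, hg, g4_xor, g4_smulRow (g4_lt _ _)]
    rw [g4_shift (by norm_num), k4_xor (by split <;> norm_num) (m4_lt _ _), k4_mul (g4_lt _ _) (g4_lt _ _)]
    split <;> rfl
  have hl : toMat (tapp v A) i j
      = toMat A i j + centre v i * k4 (g4 (rowMul (cjRow v) A) j.val) := by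
    fin_cases i <;>
    · simp only [toMat, tapp, List.getD_cons_zero, List.getD_cons_succ, g4_xor, g4_smulRow (g4_lt _ _)]
      rw [k4_xor (g4_lt _ _) (m4_lt _ _), k4_mul (g4_lt _ _) (g4_lt _ _)]
      rfl
  rw [hl, hr, Matrix.mul_apply]
  simp only [hi, add_mul, Finset.sum_add_distrib, ite_mul, one_mul, zero_mul, Finset.sum_ite_eq,
    Finset.mem_univ, if_true, Finset.mul_sum, mul_assoc]

theorem mt_wsu : ∀ {w : List ℕ}, w.all iso = true → mt (wsu w) = toMat (wmat w)
  | [], _ => by rw [wsu_nil]; exact toMat_id.symm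
  | v :: w, h => by
    simp only [List.all_cons, Bool.and_eq_true] at h
    rw [wsu_cons, mt_mul', mt_tv h.1, mt_wsu h.2]
    exact ((toMat_tapp _ _).trans (toMat_mmul _ _)).symm

theorem mt_injective : Function.Injective (mt : U6 → Matrix (Fin 6) (Fin 6) K) :=
  fun _ _ h => Subtype.ext (Subtype.ext h)

/-- Equality of rows. -/
def meq (A B : List ℕ) : Bool := A == B

/-- Two words with the same matrix give the same element. -/
theorem wsu_eq {a b : List ℕ} (ha : a.all iso = true) (hb : b.all iso = true)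
    (h : meq (wmat a) (wmat b) = true) : wsu a = wsu b := by
  refine mt_injective ?_
  rw [mt_wsu ha, mt_wsu hb, eq_of_beq h]

theorem wsu_eq_one {a : List ℕ} (ha : a.all iso = true) (h : meq (wmat a) idMat = true) : wsu a = 1 :=
  wsu_eq (b := []) ha rfl h

theorem wsu_reverse : ∀ w : List ℕ, w.all iso = true → (wsu w)⁻¹ = wsu w.reverse
  | [], _ => by simp [wsu_nil]
  | v :: w, h => by
    simp only [List.all_cons, Bool.and_eq_true] at h
    rw [wsu_cons, mul_inv_rev, wsu_reverse w h.2, List.reverse_cons, wsu_append, wsu_cons, wsu_nil, mul_one,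
      inv_eq_of_mul_eq_one_left (tv_sq cardK (iso_spec h.1))]

end Cfsg.Agent.U62Module
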