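/-
The diagonal subgroup: words, weights and the decisions about them.

* `dig`, `dot`, `ewIdx`, `ew` : exponents, pairing, words;
* `diag_facts` ... : the checks on matrices and exponents.
-/
import Cfsg.Agent.Lib.U62Module.Mat
import Cfsg.Agent.Lib.U62Module.Data

set_option autoImplicit false

namespace Cfsg.Agent.U62Module

open Data

/-- The digit in base three. -/
def dig (n i : ℕ) : ℕ := n / 3 ^ i % 3

/-- The pairing of exponents and weights. -/
def dot (n c : ℕ) : ℕ :=
  (dig n 0 * dig c 0 + dig n 1 * dig c 1 + dig n 2 * dig c 2 + dig n 3 * dig c 3 + dig n 4 * dig c 4) % 3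

/-- The diagonal generator. -/
def dwd (i : ℕ) : List ℕ := dw.getD i []

/-- The indices of the diagonal word of exponents. -/
def ewIdx (n : ℕ) : List ℕ := (List.range 5).flatMap fun i => List.replicate (dig n i) i

/-- The diagonal word of exponents. -/
def ew (n : ℕ) : List ℕ := (ewIdx n).flatMap dwd

/-- The centres of the adjacent transpositions. -/
def trc (k : ℕ) : ℕ := gens.getD k 0

theorem dw_iso : ((List.range 5).all fun i => (dwd i).all iso) = true := by decide +kernel

theorem trc_iso : ((List.range 5).all fun k => iso (trc k)) = true := by decide +kernel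

theorem dw_comm : ((List.range 5).all fun i => (List.range 5).all fun j =>
    meq (wmat (dwd i ++ dwd j)) (wmat (dwd j ++ dwd i))) = true := by decide +kernel

theorem dw_cube : ((List.range 5).all fun i => meq (wmat (dwd i ++ dwd i ++ dwd i)) idMat) = true := by
  decide +kernel

theorem dw_nonscalar : (List.range 5).all (fun i => !meq (wmat (dwd i)) idMat) = true := by decide +kernel

theorem ew_iso : ((List.range 243).all fun n => (ew n).all iso) = true := by
  rw [List.all_eq_true]
  intro n _
  rw [ew, List.all_flatMap, List.all_eq_true]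
  intro i hi
  obtain ⟨j, hj, hi⟩ := List.mem_flatMap.1 hi
  rw [List.eq_of_mem_replicate hi]
  exact List.all_eq_true.1 dw_iso j hj

theorem ew_basis : ((List.range 5).all fun i => decide (ewIdx (3 ^ i) = [i]) &&
    (List.range 243).all fun c => Nat.beq (dot (3 ^ i) c) (dig c i)) = true := by decide +kernel

theorem dot_sum (n c : ℕ) : ((ewIdx n).map fun i => dig c i).sum % 3 = dot n c := by
  simp [ewIdx, dot, List.range_succ, add_assoc]

theorem scal_facts : (meq (wmat (ew scalExp)) [2, 8, 32, 128, 512, 2048] && decide (scalExp < 243)) = true := by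
  decide +kernel

theorem toMat_scal (i j : Fin 6) : toMat [2, 8, 32, 128, 512, 2048] i j = if i = j then k4 2 else 0 := by
  fin_cases i <;> fin_cases j <;> rfl

/-- The exponent of the diagonal entry. -/
def dexp (n i : ℕ) : ℕ :=
  match i with
  | 0 => dig n 0 % 3
  | i + 1 => (dig n (i + 1) + 2 * dig n i) % 3

/-- The diagonal matrix of exponents. -/
def dmat (n : ℕ) : List ℕ := (List.range 6).map fun i => (dexp n i + 1) <<< (2 * i)

theorem dw_dmat : ((List.range 5).all fun i => meq (wmat (dwd i)) (dmat (3 ^ i))) = true := by decide +kernel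

/-- The exponent of a product. -/
def dexpL (L : List ℕ) (i : ℕ) : ℕ := ((L.map fun l => dexp (3 ^ l) i).sum) % 3

theorem dexpL_facts : ((List.range 243).all fun n => (List.range 6).all fun i =>
    Nat.beq (dexpL (ewIdx n) i) (dexp n i)) = true := by decide +kernel

theorem toMat_dmat (n : ℕ) (i j : Fin 6) : toMat (dmat n) i j = if i = j then k4 (dexp n i.val + 1) else 0 := by
  have hlt : dexp n i.val + 1 < 4 := by
    have : dexp n i.val < 3 := by unfold dexp; split <;> exact Nat.mod_lt _ (by norm_num)
    omega
  rw [toMat, dmat, List.getD_eq_getElem _ _ (by simp), List.getElem_map, List.getElem_range, g4_shift hlt]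
  split <;> rfl

theorem mt_dlist : ∀ {L : List ℕ}, (∀ l ∈ L, l < 5) →
    U62Cover.mt (wsu (L.flatMap dwd)) = Matrix.diagonal fun i : Fin 6 => k4 (dexpL L i.val + 1)
  | [], _ => by
    rw [List.flatMap_nil, wsu_nil]
    exact Matrix.diagonal_one.symm
  | l :: L, h => by
    have hl := h l List.mem_cons_self
    have hiso : (dwd l).all iso = true := List.all_eq_true.1 dw_iso l (List.mem_range.2 hl)
    rw [List.flatMap_cons, wsu_append, mt_mul', mt_wsu hiso,
      eq_of_beq (List.all_eq_true.1 dw_dmat l (List.mem_range.2 hl)),
      mt_dlist fun m hm => h m (List.mem_cons_of_mem _ hm)]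
    funext i j
    rw [Matrix.mul_diagonal, toMat_dmat, Matrix.diagonal_apply]
    split
    case isTrue hij =>
      subst hij
      have key : ∀ a b : Fin 3, k4 (a.val + 1) * k4 (b.val + 1) = k4 ((a.val + b.val) % 3 + 1) := by decide +kernel
      have ha : dexp (3 ^ l) i.val < 3 := by unfold dexp; split <;> exact Nat.mod_lt _ (by norm_num)
      have hb : dexpL L i.val < 3 := Nat.mod_lt _ (by norm_num)
      rw [key ⟨_, ha⟩ ⟨_, hb⟩]
      simp only [dexpL, List.map_cons, List.sum_cons, Nat.add_mod_mod]
    case isFalse hij => rw [zero_mul]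

theorem mt_ew {n : ℕ} (hn : n < 243) : U62Cover.mt (wsu (ew n)) = toMat (dmat n) := by
  rw [ew, mt_dlist (L := ewIdx n) (fun l hl => by
    obtain ⟨j, hj, hl⟩ := List.mem_flatMap.1 hl
    rw [List.eq_of_mem_replicate hl]
    exact List.mem_range.1 hj)]
  funext i j
  rw [toMat_dmat, Matrix.diagonal_apply, Nat.eq_of_beq_eq_true (List.all_eq_true.1 (List.all_eq_true.1 dexpL_facts n
    (List.mem_range.2 hn)) i.val (List.mem_range.2 i.isLt))]

theorem conj_facts : ((List.range 5).all fun k => (List.range 243).all fun n =>
    decide ((conjT.getD k []).getD n 999 < 243) &&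
      meq (mmul (tmat (trc k)) (mmul (dmat n) (tmat (trc k)))) (dmat ((conjT.getD k []).getD n 999))) = true := by
  decide +kernel

theorem tr_facts : ((List.range 5).all fun k => (List.range 243).all fun c =>
    decide ((trT.getD k []).getD c 999 < 243)) = true := by decide +kernel

/-- The transpositions act linearly on the exponents. -/
theorem conj_lin : ((List.range 5).all fun k => (List.range 243).all fun n => (List.range 5).all fun j =>
    Nat.beq (dig ((conjT.getD k []).getD n 999) j)
      ((dig n 0 * dig ((conjT.getD k []).getD 1 999) j + dig n 1 * dig ((conjT.getD k []).getD 3 999) j +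
        dig n 2 * dig ((conjT.getD k []).getD 9 999) j + dig n 3 * dig ((conjT.getD k []).getD 27 999) j +
        dig n 4 * dig ((conjT.getD k []).getD 81 999) j) % 3)) = true := by
  decide +kernel

/-- The transposed action on the weights. -/
theorem tr_lin : ((List.range 5).all fun k => (List.range 243).all fun c => (List.range 5).all fun i =>
    Nat.beq (dig ((trT.getD k []).getD c 999) i) (dot ((conjT.getD k []).getD (3 ^ i) 999) c)) = true := by
  decide +kernel

theorem tr_dot' {k c n : ℕ} (hk : k < 5) (hc : c < 243) (hn : n < 243) :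
    dot ((conjT.getD k []).getD n 999) c = dot n ((trT.getD k []).getD c 999) := by
  have h1 := fun j (hj : j < 5) => Nat.eq_of_beq_eq_true (List.all_eq_true.1 (List.all_eq_true.1
    (List.all_eq_true.1 conj_lin k (List.mem_range.2 hk)) n (List.mem_range.2 hn)) j (List.mem_range.2 hj))
  have h2 := fun i (hi : i < 5) => Nat.eq_of_beq_eq_true (List.all_eq_true.1 (List.all_eq_true.1
    (List.all_eq_true.1 tr_lin k (List.mem_range.2 hk)) c (List.mem_range.2 hc)) i (List.mem_range.2 hi))
  have key : (dot ((conjT.getD k []).getD n 999) c : ZMod 3) = (dot n ((trT.getD k []).getD c 999) : ZMod 3) := by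
    simp only [dot, ZMod.natCast_mod, Nat.cast_add, Nat.cast_mul,
      h1 0 (by norm_num), h1 1 (by norm_num), h1 2 (by norm_num), h1 3 (by norm_num), h1 4 (by norm_num),
      h2 0 (by norm_num), h2 1 (by norm_num), h2 2 (by norm_num), h2 3 (by norm_num), h2 4 (by norm_num),
      pow_zero, pow_one, show (3 : ℕ) ^ 2 = 9 from rfl, show (3 : ℕ) ^ 3 = 27 from rfl,
      show (3 : ℕ) ^ 4 = 81 from rfl]
    ring
  have := (ZMod.natCast_eq_natCast_iff' _ _ 3).1 key
  have hd : ∀ a b : ℕ, dot a b % 3 = dot a b := fun a b => Nat.mod_mod _ _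
  rwa [hd, hd] at this

/-- The image of a weight under a word of adjacent transpositions, the last letter first. -/
def trW : List ℕ → ℕ → ℕ
  | [], c => c
  | k :: w, c => (trT.getD k []).getD (trW w c) 999

/-- Two weights with the same kernel. -/
def sameKer (c c' : ℕ) : Bool :=
  (List.range 5).all (fun i => Nat.beq (dig c i) (dig c' i)) ||
    (List.range 5).all (fun i => Nat.beq ((dig c i + dig c' i) % 3) 0)

theorem dot_sameKer {c c' : ℕ} (h : sameKer c c' = true) (n : ℕ) : dot n c = 0 ↔ dot n c' = 0 := by
  simp only [sameKer, Bool.or_eq_true, List.all_eq_true, Nat.beq_eq, List.mem_range] at h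
  rcases h with h | h
  · simp only [dot, h 0 (by norm_num), h 1 (by norm_num), h 2 (by norm_num), h 3 (by norm_num), h 4 (by norm_num)]
  · have key : ((dot n c : ZMod 3)) = -(dot n c' : ZMod 3) := by
      rw [eq_neg_iff_add_eq_zero]
      have e := fun i hi => congrArg (fun x : ℕ => (x : ZMod 3)) (h i hi)
      simp only [ZMod.natCast_mod, Nat.cast_add, Nat.cast_zero] at e
      simp only [dot, ZMod.natCast_mod, Nat.cast_add, Nat.cast_mul]
      linear_combination (dig n 0 : ZMod 3) * e 0 (by norm_num) + (dig n 1 : ZMod 3) * e 1 (by norm_num) +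
        (dig n 2 : ZMod 3) * e 2 (by norm_num) + (dig n 3 : ZMod 3) * e 3 (by norm_num) +
        (dig n 4 : ZMod 3) * e 4 (by norm_num)
    have h0 : ∀ a, (dot n a : ZMod 3) = 0 ↔ dot n a = 0 := fun a => by
      rw [ZMod.natCast_eq_zero_iff]
      have : dot n a < 3 := Nat.mod_lt _ (by norm_num)
      omega
    rw [← h0, ← h0, key, neg_eq_zero]

/-- Two weights with different kernels, witnessed. -/
def sepKer (c c' : ℕ) : Bool :=
  (List.range 243).any fun n => Nat.beq (dot n c) 0 && !Nat.beq (dot n c') 0

/-- A list of weights with pairwise different kernels. -/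
def sepList : List ℕ → Bool
  | [] => true
  | c :: L => L.all (fun c' => sepKer c c' && sepKer c' c) && sepList L

/-- The representative of a kind. -/
def repW : ℕ → ℕ
  | 0 => wt0
  | 1 => wtA
  | _ => wtB

/-- Every admissible weight is moved to one of the three representatives. -/
theorem toRep_facts : ((List.range 243).all fun c =>
    Nat.beq c 0 || !Nat.beq (dot scalExp c) 0 ||
      (let e := toRep.getD c (3, [])
       decide (e.1 < 3) && e.2.all (fun k => decide (k < 5)) &&
         sameKer (trW e.2.reverse c) (repW e.1))) = true := by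
  decide +kernel

theorem orbA_facts : (orbA.all (fun e => e.2.all (fun k => decide (k < 5)) && Nat.beq (trW e.2.reverse wtA) e.1) &&
    sepList (orbA.map Prod.fst) && decide (wtA < 243) && decide (orbA.length = 15)) = true := by decide +kernel

theorem orbB_facts : (orbB.all (fun e => e.2.all (fun k => decide (k < 5)) && Nat.beq (trW e.2.reverse wtB) e.1) &&
    sepList (orbB.map Prod.fst) && decide (wtB < 243) && decide (orbB.length = 15)) = true := by decide +kernel

theorem pi_facts : ((List.range 10).all (fun i => (piK.getD i []).all (fun k => decide (k < 5)) &&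
    Nat.beq (trW (piK.getD i []) wt0) (piC.getD i 999)) &&
    sepList piC && decide (wt0 < 243) && decide (piC.length = 10) && decide (piK.getD 0 [9] = [])) = true := by
  decide +kernel

theorem q_facts : (decide (qExp < 243) && Nat.beq (dot qExp wt0) 1) = true := by decide +kernel

theorem s0_facts : (s0w.all iso &&
    meq (wmat (s0w ++ ew qExp ++ s0w)) (wmat (ew qExp ++ ew qExp)) &&
    meq (wmat (s0w ++ s0w)) idMat) = true := by decide +kernel

/-- Conjugation of the scalar on the first line by the transpositions fixing the triple. -/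
theorem stab_facts : ([0, 1, 3, 4].all fun k =>
    Nat.beq (dot ((conjT.getD k []).getD qExp 999) wt0) 1 &&
      Nat.beq ((trT.getD k []).getD wt0 999) wt0) = true := by decide +kernel

end Cfsg.Agent.U62Module
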