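/-
The decisions behind the coordinates: the stabiliser of the first triple, the monomial generators.
-/
import Cfsg.Agent.Lib.U62Module.Diag

set_option autoImplicit false

namespace Cfsg.Agent.U62Module

open Data

/-- The word of the scalar on the first line. -/
def qWord : List ℕ := ew qExp

/-- The letters of the stabiliser of the first triple. -/
def stabLetter : ℕ → List ℕ
  | 0 => [trc 0]
  | 1 => [trc 1]
  | 2 => [trc 3]
  | 3 => [trc 4]
  | 4 => s0w
  | 5 => dwd 0
  | 6 => dwd 1
  | 7 => dwd 3
  | 8 => dwd 4
  | _ => qWord

/-- The action of a letter on the exponent. -/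
def letterAct (l e : ℕ) : ℕ :=
  if Nat.beq l 4 then 2 * e % 3 else if Nat.ble 9 l then (e + 1) % 3 else e

/-- The action of a word, the last letter first. -/
def stabAct : List ℕ → ℕ → ℕ
  | [], e => e
  | l :: w, e => letterAct l (stabAct w e)

/-- The word of the permutation to a triple. -/
def piW (i : ℕ) : List ℕ := (piK.getD i []).map trc

/-- The centre of a generator. -/
def genc (k : ℕ) : ℕ := gens.getD k 0

/-- The entry of the table of steps. -/
def stepEntry (k b : ℕ) : ℕ × List ℕ := (stepT.getD k []).getD b (99, [])

/-- The map of a monomial generator. -/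
def monCols (k : ℕ) : List ℕ := (List.range 20).map fun b =>
  (stabAct (stepEntry k b).2 0 + 1) <<< (2 * (stepEntry k b).1)

/-- The exponents of the difference to the scalar. -/
def subQ (m : ℕ) : ℕ :=
  (dig m 0 + 2 * dig qExp 0) % 3 + 3 * ((dig m 1 + 2 * dig qExp 1) % 3) + 9 * ((dig m 2 + 2 * dig qExp 2) % 3) +
    27 * ((dig m 3 + 2 * dig qExp 3) % 3) + 81 * ((dig m 4 + 2 * dig qExp 4) % 3)

/-- The target of the scalar under a transposition. -/
def conjQ (k : ℕ) : ℕ := (conjT.getD k []).getD qExp 999

theorem subQ_facts : ([0, 1, 3, 4].all fun k => decide (subQ (conjQ k) < 243) && decide (conjQ k < 243) &&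
    Nat.beq (dot (subQ (conjQ k)) wt0) 0 &&
      meq (mmul (dmat qExp) (dmat (subQ (conjQ k)))) (dmat (conjQ k))) = true := by decide +kernel

theorem letter_iso : ((List.range 10).all fun l => (stabLetter l).all iso) = true := by decide +kernel

theorem pi_iso : ((List.range 10).all fun i => (piW i).all iso) = true := by decide +kernel

theorem s0K_facts : (s0K.all (fun k => decide (k < 5)) && sameKer (trW s0K wt0) wt0 &&
    meq (wmat s0w) (wmat (s0K.map trc))) = true := by decide +kernel

theorem dig_wt0 : ([0, 1, 3, 4].all fun i => Nat.beq (dig wt0 i) 0) = true := by decide +kernel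

theorem step_facts : ((List.range 6).all fun k => iso (genc k) && (List.range 20).all fun b =>
    decide ((stepEntry k b).1 < 10) && (stepEntry k b).2.all (fun l => decide (l < 10)) &&
      meq (wmat ([genc k] ++ piW (b / 2) ++ (if Nat.beq (b % 2) 0 then [] else qWord)))
        (wmat (piW (stepEntry k b).1 ++ (stepEntry k b).2.flatMap stabLetter))) = true := by
  decide +kernel

end Cfsg.Agent.U62Module
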