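/-
Weights of the diagonal subgroup on an elementary abelian group of order 2^20 with a faithful action of PSU(6,2).

* `Rep` : the action;
* `Rep.comp` : the weight spaces; `kill` : they are independent;
* `Rep.exists_moved` : the weight space of the first triple is nontrivial;
* `Rep.card_comp` : it has order four.
-/
import Cfsg.Agent.Lib.U62Module.Diag
import Cfsg.Agent.Lib.Unitary.Simple

set_option autoImplicit false

namespace Cfsg.Agent.U62Module

open Data Cfsg.Agent.U62Cover

/-- A faithful action of PSU(6,2) on a group of order 2^20 and exponent two. -/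
structure Rep (V : Type*) [CommGroup V] where
  α : U6 →* MulAut V
  sq : ∀ x : V, x * x = 1
  card : Nat.card V = 2 ^ 20
  ker : ∀ g, α g = 1 ↔ g ∈ Subgroup.center U6

namespace Rep

variable {V : Type*} [CommGroup V] (R : Rep V)

/-- The action of a word. -/
noncomputable abbrev op (w : List ℕ) (x : V) : V := R.α (wsu w) x

/-- The action of the diagonal element of exponents. -/
noncomputable abbrev eop (n : ℕ) (x : V) : V := R.op (ew n) x

theorem op_append (a b : List ℕ) (x : V) : R.op (a ++ b) x = R.op a (R.op b x) := by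
  simp [op, wsu_append]

theorem op_nil (x : V) : R.op [] x = x := by simp [op, wsu_nil]

theorem op_mul (w : List ℕ) (x y : V) : R.op w (x * y) = R.op w x * R.op w y := map_mul _ _ _

theorem op_one (w : List ℕ) : R.op w 1 = 1 := map_one _

theorem op_congr {a b : List ℕ} (ha : a.all iso = true) (hb : b.all iso = true)
    (h : meq (wmat a) (wmat b) = true) (x : V) : R.op a x = R.op b x := by
  simp [op, wsu_eq ha hb h]

theorem op_of_mat {a : List ℕ} (ha : a.all iso = true) (h : meq (wmat a) idMat = true) (x : V) :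
    R.op a x = x := by simp [op, wsu_eq_one ha h]

include R in
theorem inv_self (x : V) : x⁻¹ = x := inv_eq_of_mul_eq_one_left (R.sq x)

theorem eop_mul (n : ℕ) (x y : V) : R.eop n (x * y) = R.eop n x * R.eop n y := R.op_mul _ x y

theorem eop_one (n : ℕ) : R.eop n 1 = 1 := R.op_one _

/-- The scalar acts trivially. -/
theorem eop_scal (x : V) : R.eop scalExp x = x := by
  have h := scal_facts
  simp only [Bool.and_eq_true, decide_eq_true_eq] at h
  have hiso : (ew scalExp).all iso = true := List.all_eq_true.1 ew_iso _ (List.mem_range.2 h.2)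
  have hc : wsu (ew scalExp) ∈ Subgroup.center U6 := by
    rw [Subgroup.mem_center_iff]
    intro g
    refine mt_injective ?_
    have hm : mt (wsu (ew scalExp)) = Matrix.scalar (Fin 6) (k4 2) := by
      rw [mt_wsu hiso, eq_of_beq h.1]
      funext i j
      rw [toMat_scal, Matrix.scalar_apply, Matrix.diagonal_apply]
    rw [mt_mul', mt_mul', hm]
    exact (Matrix.scalar_commute (k4 2) (fun r => Commute.all _ _) _).symm.eq
  show R.α _ x = x
  rw [(R.ker _).2 hc, MulAut.one_apply]

theorem dwd_iso {i : ℕ} (hi : i < 5) : (dwd i).all iso = true :=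
  List.all_eq_true.1 dw_iso i (List.mem_range.2 hi)

theorem ew_isoN {n : ℕ} (hn : n < 243) : (ew n).all iso = true :=
  List.all_eq_true.1 ew_iso n (List.mem_range.2 hn)

theorem all_flatMap : ∀ {L : List ℕ}, (∀ i ∈ L, i < 5) → (L.flatMap dwd).all iso = true
  | [], _ => rfl
  | i :: L, h => by
    rw [List.flatMap_cons, List.all_append, dwd_iso (h i List.mem_cons_self),
      all_flatMap fun j hj => h j (List.mem_cons_of_mem _ hj)]
    rfl

theorem ewIdx_lt (n : ℕ) : ∀ i ∈ ewIdx n, i < 5 := by
  intro i hi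
  obtain ⟨j, hj, hi⟩ := List.mem_flatMap.1 hi
  rw [List.eq_of_mem_replicate hi]
  exact List.mem_range.1 hj

theorem comm_gen {i j : ℕ} (hi : i < 5) (hj : j < 5) (x : V) :
    R.op (dwd i) (R.op (dwd j) x) = R.op (dwd j) (R.op (dwd i) x) := by
  rw [← op_append, ← op_append]
  exact R.op_congr (by rw [List.all_append, dwd_iso hi, dwd_iso hj]; rfl)
    (by rw [List.all_append, dwd_iso hi, dwd_iso hj]; rfl)
    (List.all_eq_true.1 (List.all_eq_true.1 dw_comm i (List.mem_range.2 hi)) j (List.mem_range.2 hj)) x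

theorem comm_list {i : ℕ} (hi : i < 5) : ∀ {L : List ℕ}, (∀ j ∈ L, j < 5) → ∀ x : V,
    R.op (dwd i) (R.op (L.flatMap dwd) x) = R.op (L.flatMap dwd) (R.op (dwd i) x)
  | [], _, x => by simp [op_nil]
  | j :: L, h, x => by
    have h' : ∀ k ∈ L, k < 5 := fun k hk => h k (List.mem_cons_of_mem _ hk)
    rw [List.flatMap_cons, op_append, op_append, R.comm_gen hi (h j List.mem_cons_self),
      comm_list hi h']

theorem eop_comm : ∀ (n m : ℕ) (x : V), R.eop n (R.eop m x) = R.eop m (R.eop n x) := by
  have aux : ∀ {L : List ℕ}, (∀ j ∈ L, j < 5) → ∀ (m : ℕ) (x : V),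
      R.op (L.flatMap dwd) (R.eop m x) = R.eop m (R.op (L.flatMap dwd) x) := by
    intro L
    induction L with
    | nil => intro _ m x; simp [op_nil]
    | cons i L ih =>
      intro h m x
      have hm : ∀ y, R.op (dwd i) (R.eop m y) = R.eop m (R.op (dwd i) y) := fun y =>
        R.comm_list (h i List.mem_cons_self) (ewIdx_lt m) y
      rw [List.flatMap_cons, op_append, op_append, ih (fun k hk => h k (List.mem_cons_of_mem _ hk)), hm]
  exact fun n m x => aux (ewIdx_lt n) m x

theorem gen_cube {i : ℕ} (hi : i < 5) (x : V) :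
    R.op (dwd i) (R.op (dwd i) (R.op (dwd i) x)) = x := by
  rw [← op_append, ← op_append]
  refine R.op_of_mat ?_ (List.all_eq_true.1 dw_cube i (List.mem_range.2 hi)) x
  rw [List.all_append, List.all_append, dwd_iso hi]
  rfl

/-- The weight space. -/
def comp (c : ℕ) : Subgroup V where
  carrier := {b | ∀ n < 243, (dot n c = 0 → R.eop n b = b) ∧
    (dot n c ≠ 0 → b * R.eop n b * R.eop n (R.eop n b) = 1)}
  one_mem' := fun n _ => ⟨fun _ => R.eop_one _, fun _ => by simp⟩
  mul_mem' {a b} ha hb n hn := by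
    refine ⟨fun h => by simp [(ha n hn).1 h, (hb n hn).1 h], fun h => ?_⟩
    simp only [eop_mul]
    have := congrArg₂ (· * ·) ((ha n hn).2 h) ((hb n hn).2 h)
    rw [one_mul] at this
    rw [← this]
    simp only [mul_assoc, mul_comm, mul_left_comm]
  inv_mem' {a} ha := by rwa [R.inv_self a]

theorem mem_comp {c : ℕ} {b : V} : b ∈ R.comp c ↔ ∀ n < 243, (dot n c = 0 → R.eop n b = b) ∧
    (dot n c ≠ 0 → b * R.eop n b * R.eop n (R.eop n b) = 1) := Iff.rfl

theorem eop_mem {c : ℕ} {b : V} (hb : b ∈ R.comp c) (m : ℕ) : R.eop m b ∈ R.comp c := by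
  intro n hn
  refine ⟨fun h => by rw [R.eop_comm n m, (hb n hn).1 h], fun h => ?_⟩
  rw [R.eop_comm n m, R.eop_comm n m, ← eop_mul, ← eop_mul, (hb n hn).2 h, eop_one]

theorem comp_sameKer {c c' : ℕ} (h : sameKer c c' = true) {b : V} (hb : b ∈ R.comp c) : b ∈ R.comp c' := by
  intro n hn
  have e' := dot_sameKer h n
  exact ⟨fun h0 => (hb n hn).1 (e'.2 h0), fun h0 => (hb n hn).2 fun h1 => h0 (e'.1 h1)⟩

/-- A fixed element of a weight space on which some exponent is nonzero is trivial. -/
theorem eq_one_of_fixed {c n : ℕ} {b : V} (hb : b ∈ R.comp c) (hn : n < 243) (h : dot n c ≠ 0)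
    (hfix : R.eop n b = b) : b = 1 := by
  have h3 := (hb n hn).2 h
  rw [hfix, hfix, R.sq, one_mul] at h3
  exact h3

theorem kill_one {c c' : ℕ} (h : sepKer c c' = true) {b : V} (hb : b ∈ R.comp c) (hb' : b ∈ R.comp c') :
    b = 1 := by
  obtain ⟨n, hn, hc⟩ := List.any_eq_true.1 h
  simp only [Bool.and_eq_true, Nat.beq_eq, Bool.not_eq_true', ← Bool.not_eq_true] at hc
  exact R.eq_one_of_fixed hb' (List.mem_range.1 hn) hc.2 ((hb n (List.mem_range.1 hn)).1 hc.1)

/-- Elements of weight spaces with pairwise different kernels with trivial product are trivial. -/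
theorem kill : ∀ (L : List ℕ) (f : ℕ → V), sepList L = true → (∀ c ∈ L, f c ∈ R.comp c) →
    (L.map f).prod = 1 → ∀ c ∈ L, f c = 1
  | [], _, _, _, _ => fun _ h => absurd h List.not_mem_nil
  | c :: L, f, hs, hf, hp => by
    simp only [sepList, Bool.and_eq_true, List.all_eq_true] at hs
    have hrest : ∀ d ∈ L, f d = 1 := by
      intro d hd
      obtain ⟨n, hn, hc⟩ := List.any_eq_true.1 (hs.1 d hd).1
      simp only [Bool.and_eq_true, Nat.beq_eq, Bool.not_eq_true', ← Bool.not_eq_true] at hc
      have hn' := List.mem_range.1 hn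
      -- apply `1 + e(n)`
      let g : V →* V :=
        { toFun := fun x => x * R.eop n x
          map_one' := by simp
          map_mul' := fun x y => by rw [eop_mul]; simp only [mul_assoc, mul_comm, mul_left_comm] }
      have hg : (L.map fun e => g (f e)).prod = 1 := by
        have h1 := congrArg g hp
        rw [List.map_cons, List.prod_cons, map_mul, map_one, map_list_prod, List.map_map] at h1
        have h2 : g (f c) = 1 := by
          show f c * R.eop n (f c) = 1
          rw [(hf c List.mem_cons_self n hn').1 hc.1, R.sq]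
        rw [h2, one_mul] at h1
        exact h1
      have hgd : g (f d) = 1 := kill L (fun e => g (f e)) hs.2
        (fun e he => mul_mem (hf e (List.mem_cons_of_mem _ he)) (R.eop_mem (hf e (List.mem_cons_of_mem _ he)) n))
        hg d hd
      refine R.eq_one_of_fixed (hf d (List.mem_cons_of_mem _ hd)) hn' hc.2 ?_
      have h3 : f d * R.eop n (f d) = 1 := hgd
      rw [← inv_eq_of_mul_eq_one_right h3, R.inv_self]
    intro e he
    rcases List.mem_cons.1 he with rfl | he
    · rw [List.map_cons, List.prod_cons, List.prod_eq_one (l := L.map f)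
        (fun x hx => by obtain ⟨d, hd, rfl⟩ := List.mem_map.1 hx; exact hrest d hd), mul_one] at hp
      exact hp
    · exact hrest e he

/-! ### Translations -/

theorem trc_isoN {k : ℕ} (hk : k < 5) : iso (trc k) = true := List.all_eq_true.1 trc_iso k (List.mem_range.2 hk)

theorem trc_invol {k : ℕ} (hk : k < 5) (x : V) : R.op [trc k] (R.op [trc k] x) = x := by
  have h : wsu [trc k] * wsu [trc k] = 1 := by
    simp only [wsu_cons, wsu_nil, mul_one]
    exact tv_sq cardK (iso_spec (trc_isoN hk))
  show (R.α _ * R.α _) x = x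
  rw [← map_mul, h, map_one, MulAut.one_apply]

theorem eop_trc {k : ℕ} (hk : k < 5) {n : ℕ} (hn : n < 243) :
    (conjT.getD k []).getD n 999 < 243 ∧
      ∀ x : V, R.eop n (R.op [trc k] x) = R.op [trc k] (R.eop ((conjT.getD k []).getD n 999) x) := by
  have h := List.all_eq_true.1 (List.all_eq_true.1 conj_facts k (List.mem_range.2 hk)) n (List.mem_range.2 hn)
  simp only [Bool.and_eq_true, decide_eq_true_eq] at h
  obtain ⟨hm, hmat⟩ := h
  refine ⟨hm, fun x => ?_⟩
  set m := (conjT.getD k []).getD n 999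
  have he : wsu ([trc k] ++ ew n ++ [trc k]) = wsu (ew m) := by
    refine mt_injective ?_
    have hiso : ([trc k] ++ ew n ++ [trc k]).all iso = true := by
      simp [List.all_append, trc_isoN hk, ew_isoN hn]
    rw [List.append_assoc, wsu_append, wsu_append, mt_mul', mt_mul', mt_ew hn, mt_ew hm,
      mt_wsu (w := [trc k]) (by simp [trc_isoN hk]),
      show toMat (wmat [trc k]) = toMat (tmat (trc k)) from
        (toMat_tapp _ _).trans ((toMat_mmul _ _).trans (by rw [show List.foldr tapp idMat [] = idMat from rfl, toMat_id, mul_one])),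
      ← toMat_mmul, ← toMat_mmul, eq_of_beq hmat]
  have hm' : ∀ y, R.op ([trc k] ++ ew n ++ [trc k]) y = R.eop m y := fun y => by
    show R.α _ y = R.α _ y
    rw [he]
  rw [← hm' x, op_append, op_append, R.trc_invol hk]

theorem comp_trc {k c : ℕ} (hk : k < 5) (hc : c < 243) {b : V} (hb : b ∈ R.comp c) :
    R.op [trc k] b ∈ R.comp ((trT.getD k []).getD c 999) := by
  intro n hn
  obtain ⟨hm, he⟩ := R.eop_trc hk hn
  rw [← tr_dot' hk hc hn]
  refine ⟨fun h => by rw [he, (hb _ hm).1 h], fun h => ?_⟩
  rw [he, he, ← op_mul, ← op_mul, (hb _ hm).2 h, op_one]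

theorem trW_lt {c : ℕ} (hc : c < 243) : ∀ {w : List ℕ}, (∀ k ∈ w, k < 5) → trW w c < 243
  | [], _ => hc
  | k :: w, h => by
    have := List.all_eq_true.1 (List.all_eq_true.1 tr_facts k (List.mem_range.2 (h k List.mem_cons_self)))
      _ (List.mem_range.2 (trW_lt hc fun j hj => h j (List.mem_cons_of_mem _ hj)))
    simpa [trW] using this

theorem comp_word {c : ℕ} (hc : c < 243) : ∀ {w : List ℕ}, (∀ k ∈ w, k < 5) → ∀ {b : V}, b ∈ R.comp c →
    R.op (w.map trc) b ∈ R.comp (trW w c)
  | [], _, b, hb => by simpa [op_nil, trW] using hb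
  | k :: w, h, b, hb => by
    have h' : ∀ j ∈ w, j < 5 := fun j hj => h j (List.mem_cons_of_mem _ hj)
    show R.op ([trc k] ++ w.map trc) b ∈ R.comp (trW (k :: w) c)
    rw [op_append]
    exact R.comp_trc (h k List.mem_cons_self) (trW_lt hc h') (comp_word hc h' hb)

/-! ### Existence -/

theorem eop_basis {i : ℕ} (hi : i < 5) (x : V) : R.eop (3 ^ i) x = R.op (dwd i) x := by
  have h := List.all_eq_true.1 ew_basis i (List.mem_range.2 hi)
  simp only [Bool.and_eq_true, decide_eq_true_eq] at h
  simp [eop, ew, h.1]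

theorem dot_basis {i c : ℕ} (hi : i < 5) (hc : c < 243) : dot (3 ^ i) c = dig c i := by
  have h := List.all_eq_true.1 ew_basis i (List.mem_range.2 hi)
  simp only [Bool.and_eq_true, decide_eq_true_eq, List.all_eq_true, Nat.beq_eq] at h
  exact h.2 c (List.mem_range.2 hc)

/-- The weight of five exponents. -/
def enc (a : ℕ → ℕ) : ℕ := a 0 + 3 * a 1 + 9 * a 2 + 27 * a 3 + 81 * a 4

theorem enc_spec {a : ℕ → ℕ} (ha : ∀ i, a i < 3) : enc a < 243 ∧ ∀ i < 5, dig (enc a) i = a i := by
  have h0 := ha 0; have h1 := ha 1; have h2 := ha 2; have h3 := ha 3; have h4 := ha 4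
  refine ⟨by simp only [enc]; omega, fun i hi => ?_⟩
  interval_cases i <;> simp only [enc, dig] <;> omega

omit R in
/-- A moved element splits into eigenvectors of a second operator. -/
theorem refine_step (hsq : ∀ x : V, x * x = 1) (q D : V →* V) (Dq : ∀ x, D (q x) = q (D x))
    (q3 : ∀ x, q (q (q x)) = x) (D3 : ∀ x, D (D (D x)) = x) {b : V} (hb : b ≠ 1)
    (h3 : b * q b * q (q b) = 1) :
    ∃ c < 3, ∃ b' : V, b' ≠ 1 ∧ b' * q b' * q (q b') = 1 ∧ D b' = q^[c] b' ∧
      ∀ g : V →* V, (∀ x, g (q x) = q (g x)) → (∀ x, g (D x) = D (g x)) → ∀ m, g b = q^[m] b →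
        g b' = q^[m] b' := by
  classical
  let f : ℕ → V →* V := fun c => match c with
    | 0 => D
    | 1 => D.comp (q.comp q)
    | _ => D.comp q
  let P : ℕ → V := fun c => b * f c b * f c (f c b)
  have qf : ∀ c x, q (f c x) = f c (q x) := by
    intro c x
    match c with
    | 0 => exact (Dq x).symm
    | 1 => show q (D (q (q x))) = D (q (q (q x))); rw [← Dq]
    | c + 2 => show q (D (q x)) = D (q (q x)); rw [← Dq]
  have hP : P 0 * P 1 * P 2 = b := by
    have e1 : D b * q (q (D b)) * q (D b) = 1 := by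
      rw [← Dq b, ← Dq (q b), ← map_mul, ← map_mul, mul_assoc, mul_comm (q (q b)), ← mul_assoc, h3, map_one]
    have e2 : D (D b) * q (D (D b)) * q (q (D (D b))) = 1 := by
      have := congrArg (fun x => D (D x)) h3
      simp only [map_mul, map_one, Dq] at this
      exact this
    have perm : ∀ x a₁ a₂ a₃ c₁ c₂ c₃ : V, x * a₁ * c₁ * (x * a₂ * c₂) * (x * a₃ * c₃)
        = x * (x * x) * (a₁ * a₂ * a₃) * (c₁ * c₂ * c₃) := fun x a₁ a₂ a₃ c₁ c₂ c₃ => by ac_rfl
    show b * D b * D (D b) * (b * D (q (q b)) * D (q (q (D (q (q b)))))) * (b * D (q b) * D (q (D (q b)))) = b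
    simp only [Dq, q3]
    rw [perm, hsq, e1, e2, mul_one, mul_one, mul_one]
  obtain ⟨c, hc, hPc⟩ : ∃ c < 3, P c ≠ 1 := by
    by_contra! hcon
    rw [hcon 0 (by norm_num), hcon 1 (by norm_num), hcon 2 (by norm_num), one_mul, one_mul] at hP
    exact hb hP.symm
  have hfix : f c (P c) = P c := by
    have hf3 : f c (f c (f c b)) = b := by
      interval_cases c
      · exact D3 b
      · show D (q (q (D (q (q (D (q (q b)))))))) = b
        simp only [Dq, q3, D3]
      · show D (q (D (q (D (q b))))) = b
        simp only [Dq, q3, D3]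
    simp only [P, map_mul, hf3]
    ac_rfl
  have hD : D (P c) = q^[c] (P c) := by
    interval_cases c
    · exact hfix
    · have := congrArg q hfix
      change q (D (q (q (P 1)))) = q (P 1) at this
      rwa [← Dq, q3] at this
    · have := congrArg (fun x => q (q x)) hfix
      change q (q (D (q (P 2)))) = q (q (P 2)) at this
      rwa [← Dq, ← Dq, q3] at this
  refine ⟨c, hc, P c, hPc, ?_, hD, fun g hgq hgD m hg => ?_⟩
  · have perm : ∀ a₁ a₂ a₃ b₁ b₂ b₃ c₁ c₂ c₃ : V, a₁ * b₁ * c₁ * (a₂ * b₂ * c₂) * (a₃ * b₃ * c₃)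
        = a₁ * a₂ * a₃ * (b₁ * b₂ * b₃) * (c₁ * c₂ * c₃) :=
      fun a₁ a₂ a₃ b₁ b₂ b₃ c₁ c₂ c₃ => by ac_rfl
    simp only [P, map_mul, qf]
    rw [perm, ← map_mul (f c), ← map_mul (f c), ← map_mul (f c), ← map_mul (f c), ← map_mul (f c),
      ← map_mul (f c), h3, map_one, map_one, mul_one, mul_one]
  · have hgf : ∀ x, g (f c x) = f c (g x) := by
      intro x
      interval_cases c
      · exact hgD x
      · show g (D (q (q x))) = D (q (q (g x))); rw [hgD, hgq, hgq]
      · show g (D (q x)) = D (q (g x)); rw [hgD, hgq]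
    have hfq : ∀ (m : ℕ) x, q^[m] (f c x) = f c (q^[m] x) := fun m x => by
      have h : Function.Semiconj (f c) q q := fun y => (qf c y).symm
      exact ((h.iterate_right m).eq x).symm
    simp only [P, map_mul, hgf, hg, iterate_map_mul, hfq]

/-- Some nontrivial element lies in a weight space of a nonzero admissible weight. -/
theorem exists_weight : ∃ c < 243, c ≠ 0 ∧ dot scalExp c = 0 ∧ ∃ b : V, b ≠ 1 ∧ b ∈ R.comp c := by
  classical
  have hd0 : (dwd 0).all iso = true := dwd_iso (by norm_num)
  obtain ⟨a, ha⟩ : ∃ a : V, R.op (dwd 0) a ≠ a := by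
    by_contra! hcon
    have h1 : R.α (wsu (dwd 0)) = 1 := MulEquiv.ext hcon
    obtain ⟨z, -, -, hz⟩ := Unitary.center_SU_scalar (F := K) (q := 2) (n := 6) (by rw [cardK]; rfl) (by norm_num)
      ((R.ker _).1 h1)
    have hm := mt_wsu hd0
    rw [show mt (wsu (dwd 0)) = _ from hz] at hm
    have e0 := congrFun (congrFun hm 0) 0
    have e2 := congrFun (congrFun hm 2) 2
    rw [Matrix.scalar_apply, Matrix.diagonal_apply_eq] at e0 e2
    exact absurd (e0.symm.trans e2) (by decide +kernel)
  set q : V → V := fun x => R.op (dwd 0) x with hq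
  have q3 : ∀ x, q (q (q x)) = x := fun x => R.gen_cube (by norm_num) x
  -- refine by one generator after the other
  have step : ∀ k ≤ 5, ∃ (b : V) (e : ℕ → ℕ), b ≠ 1 ∧ b * q b * q (q b) = 1 ∧ (∀ i, e i < 3) ∧
      ∀ i < k, R.op (dwd i) b = q^[e i] b := by
    intro k
    induction k with
    | zero =>
      intro _
      refine ⟨a * q a, fun _ => 0, fun h => ha ?_, ?_, fun _ => by norm_num, fun i hi => absurd hi (by omega)⟩
      · exact (inv_eq_of_mul_eq_one_right h).symm.trans (R.inv_self a)
      · simp only [hq, op_mul]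
        rw [R.gen_cube (by norm_num)]
        have perm : ∀ x y z : V, x * y * (y * z) * (z * x) = x * x * (y * y) * (z * z) := fun x y z => by ac_rfl
        rw [perm]
        simp [R.sq]
    | succ k ih =>
      intro hk
      obtain ⟨b, e, hb, h3, he, hfix⟩ := ih (by omega)
      obtain ⟨c, hc, b', hb', h3', hD, hrest⟩ := refine_step R.sq (R.α (wsu (dwd 0))).toMonoidHom
        (R.α (wsu (dwd k))).toMonoidHom (fun x => R.comm_gen (by omega) (by norm_num) x)
        (fun x => R.gen_cube (by norm_num) x) (fun x => R.gen_cube (by omega) x) hb h3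
      refine ⟨b', fun i => if i = k then c else e i, hb', h3', fun i => by dsimp only; split <;> [exact hc; exact he i],
        fun i hi => ?_⟩
      dsimp only
      rcases Nat.lt_succ_iff_lt_or_eq.1 hi with hi' | rfl
      · rw [if_neg (by omega)]
        exact hrest (R.α (wsu (dwd i))).toMonoidHom (fun x => R.comm_gen (by omega) (by norm_num) x)
          (fun x => R.comm_gen (by omega) (by omega) x) _ (hfix i hi')
      · rw [if_pos rfl]
        exact hD
  obtain ⟨b, e, hb, h3, he, hfix⟩ := step 5 le_rfl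
  obtain ⟨hlt, hdig⟩ := enc_spec he
  -- every diagonal element acts as a power of the first
  have qper : ∀ m, q^[m] b = q^[m % 3] b := fun m => by
    conv_lhs => rw [← Nat.mod_add_div m 3]
    rw [Function.iterate_add_apply]
    congr 1
    induction m / 3 with
    | zero => rfl
    | succ j ihj =>
      rw [Nat.mul_succ, Function.iterate_add_apply, show q^[3] b = b from q3 b, ihj]
  have hlist : ∀ L : List ℕ, (∀ i ∈ L, i < 5) →
      R.op (L.flatMap dwd) b = q^[(L.map fun i => dig (enc e) i).sum] b := by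
    intro L
    induction L with
    | nil => intro _; simp [op_nil]
    | cons i L ihL =>
      intro hL
      have hi := hL i List.mem_cons_self
      rw [List.flatMap_cons, op_append, ihL (fun j hj => hL j (List.mem_cons_of_mem _ hj)), List.map_cons,
        List.sum_cons]
      have hsc : Function.Semiconj (fun x => R.op (dwd i) x) q q := fun x => R.comm_gen hi (by norm_num) x
      refine ((hsc.iterate_right _).eq b).trans ?_
      show q^[_] (R.op (dwd i) b) = _
      rw [hfix i hi, hdig i hi, ← Function.iterate_add_apply, add_comm]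
  have hn : ∀ n < 243, R.eop n b = q^[dot n (enc e)] b := by
    intro n hn
    rw [show R.eop n b = R.op ((ewIdx n).flatMap dwd) b from rfl, hlist _ (ewIdx_lt n), qper]
    rw [dot_sum]
  have qb : ∀ m, m = 1 ∨ m = 2 → b * q^[m] b * q^[m] (q^[m] b) = 1 := by
    rintro m (rfl | rfl)
    · exact h3
    · show b * q (q b) * q (q (q (q b))) = 1
      rw [q3, mul_assoc, mul_comm (q (q b)), ← mul_assoc, h3]
  have hmem : b ∈ R.comp (enc e) := by
    intro n hn'
    refine ⟨fun h => by rw [hn n hn', h]; rfl, fun h => ?_⟩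
    have hm : dot n (enc e) = 1 ∨ dot n (enc e) = 2 := by
      have : dot n (enc e) < 3 := Nat.mod_lt _ (by norm_num)
      omega
    have hsc : Function.Semiconj (fun x => R.eop n x) (q^[dot n (enc e)]) (q^[dot n (enc e)]) := by
      refine Function.Semiconj.iterate_right (fun x => ?_) _
      exact (R.comm_list (by norm_num) (ewIdx_lt n) x).symm
    rw [hn n hn']
    rw [hsc.eq b, hn n hn']
    exact qb _ hm
  refine ⟨enc e, hlt, ?_, ?_, b, hb, hmem⟩
  · -- `q` moves `b`
    intro h0
    have h1 : R.op (dwd 0) b = q^[e 0] b := hfix 0 (by norm_num)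
    have he0 : e 0 = 0 := by rw [← hdig 0 (by norm_num), h0]; rfl
    rw [he0] at h1
    have : q b = b := h1
    rw [this, this, R.sq, one_mul] at h3
    exact hb h3
  · by_contra hs
    have := scal_facts
    simp only [Bool.and_eq_true, decide_eq_true_eq] at this
    exact hb (R.eq_one_of_fixed hmem this.2 hs (R.eop_scal b))

end Rep

end Cfsg.Agent.U62Module
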