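/-
Coordinates on the module and the maps of the monomial generators.

* `Base` : a vector of the first weight space fixed by the exchange of the two triples;
* `Rep.exists_base` : there is one;
* `Base.φ` : the coordinates; `Base.φ_bij`;
* `Base.acts_mon` : the maps of the six monomial generators.
-/
import Cfsg.Agent.Lib.U62Module.Weights
import Cfsg.Agent.Lib.U62Module.CoordCheck

set_option autoImplicit false

namespace Cfsg.Agent.U62Module

open Data Cfsg.Agent.U62Cover

namespace Rep

variable {V : Type*} [CommGroup V] (R : Rep V)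

theorem op_injective (w : List ℕ) : Function.Injective (R.op w) := (R.α (wsu w)).injective

/-- Distinct weights cannot carry too many elements. -/
theorem prod_injective (L : List ℕ) (hL : sepList L = true) (hnd : L.Nodup) :
    Function.Injective fun x : (i : Fin L.length) → ↥(R.comp (L.get i)) => ∏ i, (x i : V) := by
  classical
  intro x y hxy
  set z : Fin L.length → V := fun i => (x i : V) * (y i : V) with hz
  have hp : ∏ i, z i = 1 := by
    rw [hz, Finset.prod_mul_distrib]
    have : (∏ i, (x i : V)) = ∏ i, (y i : V) := hxy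
    rw [this, R.sq]
  let f : ℕ → V := fun c => if h : L.idxOf c < L.length then z ⟨_, h⟩ else 1
  have hfget : ∀ i : Fin L.length, f (L.get i) = z i := by
    intro i
    have : L.idxOf (L.get i) = i.val := hnd.idxOf_getElem i.val i.isLt
    simp only [f]
    rw [dif_pos (by rw [this]; exact i.isLt)]
    exact congrArg z (Fin.ext this)
  have hmap : L.map f = List.ofFn z := by
    refine List.ext_getElem (by simp) fun n h1 h2 => ?_
    rw [List.getElem_map, List.getElem_ofFn]
    exact hfget ⟨n, by simpa using h1⟩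
  have hk := R.kill L f hL (fun c hc => by
    obtain ⟨i, rfl⟩ := List.get_of_mem hc
    rw [hfget]
    exact mul_mem (x i).2 (y i).2) (by rw [hmap, List.prod_ofFn, hp])
  funext i
  refine Subtype.ext ?_
  have h1 := hk (L.get i) (List.get_mem L i)
  rw [hfget] at h1
  rw [← inv_eq_of_mul_eq_one_left h1, R.inv_self]

theorem sepList_nodup : ∀ {L : List ℕ}, sepList L = true → L.Nodup
  | [], _ => List.nodup_nil
  | c :: L, h => by
    simp only [sepList, Bool.and_eq_true, List.all_eq_true] at h
    refine List.nodup_cons.2 ⟨fun hm => ?_, sepList_nodup h.2⟩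
    obtain ⟨n, -, hn⟩ := List.any_eq_true.1 (h.1 c hm).1
    simp at hn

variable [Finite V]

/-- A nontrivial weight space of a nonzero weight has at least four elements. -/
theorem four_le {c n : ℕ} (hn : n < 243) (hc : dot n c ≠ 0) {b : V} (hb : b ∈ R.comp c) (hb1 : b ≠ 1) :
    4 ≤ Nat.card (R.comp c) := by
  classical
  set e : V := R.eop n b with he
  have h3 : b * e * R.eop n e = 1 := (hb n hn).2 hc
  have h1 : e ≠ b := fun h => hb1 (R.eq_one_of_fixed hb hn hc h)
  have h2 : e ≠ 1 := fun h => hb1 (R.op_injective (ew n) (h.trans (R.eop_one n).symm))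
  have h4 : R.eop n e = b * e := by
    rw [← inv_eq_of_mul_eq_one_right h3, R.inv_self]
  let g : Fin 4 → ↥(R.comp c) :=
    ![1, ⟨b, hb⟩, ⟨e, R.eop_mem hb n⟩, ⟨b * e, mul_mem hb (R.eop_mem hb n)⟩]
  have hinj : Function.Injective g := by
    have e1 : b * e ≠ 1 := fun h => h1 (by rw [← inv_eq_of_mul_eq_one_right h, R.inv_self])
    have e2 : b * e ≠ b := fun h => h2 (mul_left_cancel (h.trans (mul_one b).symm))
    have e3 : b * e ≠ e := fun h => hb1 (mul_right_cancel (h.trans (one_mul e).symm))
    intro i j h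
    have h' := congrArg Subtype.val h
    fin_cases i <;> fin_cases j <;> simp [g] at h' ⊢ <;>
      first
      | exact absurd h' hb1 | exact absurd h'.symm hb1 | exact absurd h' h2 | exact absurd h'.symm h2
      | exact absurd h' h1 | exact absurd h'.symm h1 | exact absurd h' e1 | exact absurd h'.symm e1
      | exact absurd h' e2 | exact absurd h'.symm e2 | exact absurd h' e3 | exact absurd h'.symm e3
  simpa using Nat.card_le_card_of_injective g hinj

theorem orbit_false {c₀ : ℕ} (L : List (ℕ × List ℕ)) (hc₀ : c₀ < 243)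
    (hfacts : (L.all (fun e => e.2.all (fun k => decide (k < 5)) && Nat.beq (trW e.2.reverse c₀) e.1) &&
      sepList (L.map Prod.fst)) = true) (hlen : L.length = 15)
    {b : V} (hb : b ∈ R.comp c₀) (hb1 : b ≠ 1) : False := by
  classical
  simp only [Bool.and_eq_true, List.all_eq_true, decide_eq_true_eq, Nat.beq_eq] at hfacts
  obtain ⟨h1, hsep⟩ := hfacts
  set M := L.map Prod.fst with hM
  have hlt : M.length = 15 := by rw [hM, List.length_map, hlen]
  have hnd := sepList_nodup hsep
  have h4 : ∀ i : Fin M.length, 4 ≤ Nat.card (R.comp (M.get i)) := by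
    intro i
    obtain ⟨e, he, hei⟩ := List.mem_map.1 (List.get_mem M i)
    have hk : ∀ k ∈ e.2.reverse, k < 5 := fun k hk => (h1 e he).1 k (List.mem_reverse.1 hk)
    have hmem := R.comp_word hc₀ hk hb
    rw [(h1 e he).2, hei] at hmem
    -- a weight with a second different weight is nonzero
    obtain ⟨j, hj⟩ : ∃ j : Fin M.length, M.get j ≠ M.get i := by
      by_contra! hcon
      have e0 := hcon ⟨0, by omega⟩
      have e1 := hcon ⟨1, by omega⟩
      have := List.nodup_iff_injective_get.1 hnd (e0.trans e1.symm)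
      simp [Fin.ext_iff] at this
    have hsep' : ∀ (K : List ℕ), sepList K = true → ∀ x ∈ K, ∀ y ∈ K, x ≠ y → sepKer y x = true := by
      intro K
      induction K with
      | nil => intro _ x hx; exact absurd hx List.not_mem_nil
      | cons c K ih =>
        intro h x hx y hy hne
        simp only [sepList, Bool.and_eq_true, List.all_eq_true] at h
        rcases List.mem_cons.1 hx with hx' | hx' <;> rcases List.mem_cons.1 hy with hy' | hy'
        · exact absurd (hx'.trans hy'.symm) hne
        · rw [hx']; exact (h.1 y hy').2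
        · rw [hy']; exact (h.1 x hx').1
        · exact ih h.2 x hx' y hy' hne
    obtain ⟨n, hn, hd⟩ := List.any_eq_true.1
      (hsep' M hsep (M.get i) (List.get_mem M i) (M.get j) (List.get_mem M j) hj.symm)
    simp only [Bool.and_eq_true, Bool.not_eq_true', ← Bool.not_eq_true, Nat.beq_eq] at hd
    exact R.four_le (List.mem_range.1 hn) hd.2 hmem fun h => hb1 (R.op_injective _ (h.trans (R.op_one _).symm))
  have hcard := Nat.card_le_card_of_injective _ (R.prod_injective M hsep hnd)
  rw [Nat.card_pi, R.card] at hcard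
  have : 4 ^ 15 ≤ ∏ i : Fin M.length, Nat.card (R.comp (M.get i)) := by
    calc 4 ^ 15 = ∏ _i : Fin M.length, 4 := by simp [hlt]
      _ ≤ _ := Finset.prod_le_prod' fun i _ => h4 i
  omega

theorem facts_pi {i : ℕ} (hi : i < 10) :
    (∀ k ∈ piK.getD i [], k < 5) ∧ trW (piK.getD i []) wt0 = piC.getD i 999 := by
  have h := pi_facts
  simp only [Bool.and_eq_true] at h
  have := List.all_eq_true.1 h.1.1.1.1 i (List.mem_range.2 hi)
  simp only [Bool.and_eq_true, List.all_eq_true, decide_eq_true_eq, Nat.beq_eq] at this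
  exact this

theorem wt0_lt : wt0 < 243 := by decide +kernel

theorem piC_facts : sepList piC = true ∧ piC.length = 10 := by
  have h := pi_facts
  simp only [Bool.and_eq_true, decide_eq_true_eq] at h
  exact ⟨h.1.1.1.2, h.1.2⟩

/-- The translate to the weight space of a triple. -/
theorem pi_mem {i : ℕ} (hi : i < 10) {b : V} (hb : b ∈ R.comp wt0) :
    R.op (piW i) b ∈ R.comp (piC.getD i 999) := by
  obtain ⟨h1, h2⟩ := facts_pi hi
  rw [← h2]
  exact R.comp_word wt0_lt h1 hb

/-- The product over the ten triples. -/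
theorem ten_injective : Function.Injective fun y : Fin 10 → ↥(R.comp wt0) =>
    ∏ i, R.op (piW i.val) (y i : V) := by
  obtain ⟨hsep, hlen⟩ := piC_facts
  intro y y' h
  let t : (Fin 10 → ↥(R.comp wt0)) → (i : Fin piC.length) → ↥(R.comp (piC.get i)) := fun y i =>
    ⟨R.op (piW i.val) (y ⟨i.val, hlen ▸ i.isLt⟩ : V), by
      have := R.pi_mem (i := i.val) (hlen ▸ i.isLt) (y ⟨i.val, hlen ▸ i.isLt⟩).2
      rwa [List.getD_eq_getElem _ _ i.isLt] at this⟩
  have key : ∀ y, ∏ i, (t y i : V) = ∏ i : Fin 10, R.op (piW i.val) (y i : V) := fun y =>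
    Fintype.prod_equiv (finCongr hlen) _ _ fun i => rfl
  have := R.prod_injective piC hsep (sepList_nodup hsep) (a₁ := t y) (a₂ := t y') (by
    show ∏ i, (t y i : V) = ∏ i, (t y' i : V)
    rw [key, key]; exact h)
  funext i
  have h1 := congrArg Subtype.val (congrFun this ⟨i.val, hlen.symm ▸ i.isLt⟩)
  exact Subtype.ext (R.op_injective _ h1)

theorem card_comp : Nat.card (R.comp wt0) = 4 := by
  classical
  obtain ⟨c, hc, hc0, hs, b, hb1, hb⟩ := R.exists_weight
  have ht := List.all_eq_true.1 toRep_facts c (List.mem_range.2 hc)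
  simp only [Bool.or_eq_true, Nat.beq_eq, Bool.and_eq_true, Bool.not_eq_true', ← Bool.not_eq_true,
    decide_eq_true_eq, List.all_eq_true, hc0, hs, false_or, not_true_eq_false] at ht
  obtain ⟨⟨ht3, hk⟩, hsame⟩ := ht
  set e := toRep.getD c (3, []) with he
  have hmem := R.comp_sameKer hsame (R.comp_word hc (fun k hk' => hk k (List.mem_reverse.1 hk')) hb)
  have hne : R.op (e.2.reverse.map trc) b ≠ 1 := fun h => hb1 (R.op_injective _ (h.trans (R.op_one _).symm))
  have hA := orbA_facts
  have hB := orbB_facts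
  simp only [Bool.and_eq_true, decide_eq_true_eq] at hA hB
  have h0 : e.1 = 0 := by
    match h : e.1, ht3 with
    | 0, _ => rfl
    | 1, _ => exact (R.orbit_false orbA hA.1.2 (by rw [Bool.and_eq_true]; exact ⟨hA.1.1.1, hA.1.1.2⟩) hA.2
        (by rw [h] at hmem; exact hmem) hne).elim
    | 2, _ => exact (R.orbit_false orbB hB.1.2 (by rw [Bool.and_eq_true]; exact ⟨hB.1.1.1, hB.1.1.2⟩) hB.2
        (by rw [h] at hmem; exact hmem) hne).elim
  rw [h0] at hmem
  have hq := q_facts
  simp only [Bool.and_eq_true, decide_eq_true_eq, Nat.beq_eq] at hq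
  have hle : 4 ≤ Nat.card (R.comp wt0) := R.four_le hq.1 (by rw [hq.2]; norm_num) hmem hne
  refine le_antisymm ?_ hle
  have hcard := Nat.card_le_card_of_injective _ R.ten_injective
  rw [Nat.card_pi, Finset.prod_const, Finset.card_univ, Fintype.card_fin, R.card] at hcard
  by_contra hcon
  have : 5 ^ 10 ≤ Nat.card (R.comp wt0) ^ 10 := Nat.pow_le_pow_left (by omega) 10
  omega

end Rep

/-- A vector of the first weight space fixed by the exchange. -/
structure Base {V : Type*} [CommGroup V] (R : Rep V) where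
  v : V
  mem : v ∈ R.comp wt0
  ne : v ≠ 1
  swap : R.op s0w v = v

namespace Base

variable {V : Type*} [CommGroup V] {R : Rep V} (B : Base R)

/-- The scalar on the first line. -/
noncomputable def q (_ : Base R) (x : V) : V := R.eop qExp x

theorem q_lt : qExp < 243 ∧ dot qExp wt0 = 1 := by
  have hq := q_facts
  simp only [Bool.and_eq_true, decide_eq_true_eq, Nat.beq_eq] at hq
  exact hq

/-- The elements of the first line by a digit. -/
noncomputable def el : ℕ → V
  | 1 => B.v
  | 2 => B.q B.v
  | 3 => B.q (B.q B.v)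
  | _ => 1

theorem q_mem {x : V} (hx : x ∈ R.comp wt0) : B.q x ∈ R.comp wt0 := R.eop_mem hx qExp

theorem el_mem : ∀ d, B.el d ∈ R.comp wt0
  | 0 => one_mem _
  | 1 => B.mem
  | 2 => B.q_mem B.mem
  | 3 => B.q_mem (B.q_mem B.mem)
  | _ + 4 => one_mem _

theorem q_sum : B.v * B.q B.v * B.q (B.q B.v) = 1 :=
  (B.mem qExp q_lt.1).2 (by rw [q_lt.2]; norm_num)

theorem el_inj : Function.Injective fun d : Fin 4 => B.el d.val := by
  have hv := B.ne
  have h1 : B.q B.v ≠ B.v := fun h => hv (R.eq_one_of_fixed B.mem q_lt.1 (by rw [q_lt.2]; norm_num) h)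
  have h2 : B.q B.v ≠ 1 := fun h => hv (R.op_injective _ (h.trans (R.op_one _).symm))
  have h3 : B.q (B.q B.v) ≠ 1 := fun h => h2 (R.op_injective _ (h.trans (R.op_one _).symm))
  have h4 : B.q (B.q B.v) ≠ B.q B.v := fun h => h1 (R.op_injective _ h)
  have h5 : B.q (B.q B.v) ≠ B.v := by
    intro h
    have := B.q_sum
    rw [h, mul_comm B.v, mul_assoc, R.sq, mul_one] at this
    exact h2 this
  intro i j h
  fin_cases i <;> fin_cases j <;> simp [el] at h ⊢ <;>
    first
    | exact absurd h hv | exact absurd h.symm hv | exact absurd h h1 | exact absurd h.symm h1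
    | exact absurd h h2 | exact absurd h.symm h2 | exact absurd h h3 | exact absurd h.symm h3
    | exact absurd h h4 | exact absurd h.symm h4 | exact absurd h h5 | exact absurd h.symm h5

theorem el_xor : ∀ a b : Fin 4, B.el (a.val ^^^ b.val) = B.el a.val * B.el b.val := by
  have s := B.q_sum
  have e12 : B.v * B.q B.v = B.q (B.q B.v) := by rw [← inv_eq_of_mul_eq_one_right s, R.inv_self]
  have e13 : B.v * B.q (B.q B.v) = B.q B.v := by rw [← e12, ← mul_assoc, R.sq, one_mul]
  have e23 : B.q B.v * B.q (B.q B.v) = B.v := by rw [← e12, mul_left_comm, R.sq, mul_one]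
  have e21 : B.q B.v * B.v = B.q (B.q B.v) := by rw [mul_comm, e12]
  have e31 : B.q (B.q B.v) * B.v = B.q B.v := by rw [mul_comm, e13]
  have e32 : B.q (B.q B.v) * B.q B.v = B.v := by rw [mul_comm, e23]
  intro a b
  fin_cases a <;> fin_cases b <;> simp [el, R.sq, e12, e13, e23, e21, e31, e32]

/-- The coordinates. -/
noncomputable def φ (x : ℕ) : V := ∏ i : Fin 10, R.op (piW i.val) (B.el (g4 x i.val))

theorem φ_xor (x y : ℕ) : B.φ (x ^^^ y) = B.φ x * B.φ y := by
  rw [φ, φ, φ, ← Finset.prod_mul_distrib]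
  refine Finset.prod_congr rfl fun i _ => ?_
  rw [← R.op_mul, g4_xor, B.el_xor ⟨_, g4_lt x _⟩ ⟨_, g4_lt y _⟩]

theorem φ_zero : B.φ 0 = 1 :=
  Finset.prod_eq_one fun i _ => by
    rw [show g4 0 i.val = 0 from by simp [g4]]
    exact R.op_one _

theorem φ_inj [Finite V] {x y : ℕ} (hx : x < 2 ^ 20) (hy : y < 2 ^ 20) (h : B.φ x = B.φ y) : x = y := by
  have := R.ten_injective (a₁ := fun i => ⟨B.el (g4 x i.val), B.el_mem _⟩)
    (a₂ := fun i => ⟨B.el (g4 y i.val), B.el_mem _⟩) h
  have hd : ∀ i : Fin 10, g4 x i.val = g4 y i.val := fun i => by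
    have h1 : B.el (g4 x i.val) = B.el (g4 y i.val) := congrArg Subtype.val (congrFun this i)
    exact Fin.mk.inj_iff.1 (B.el_inj (a₁ := ⟨_, g4_lt x _⟩) (a₂ := ⟨_, g4_lt y _⟩) h1)
  have key : ∀ z i : ℕ, g4 z i = z / 4 ^ i % 4 := fun z i => by
    rw [g4, Nat.shiftRight_eq_div_pow, show (3 : ℕ) = 2 ^ 2 - 1 from rfl, Nat.and_two_pow_sub_one_eq_mod,
      pow_mul]
    norm_num
  simp only [key] at hd
  have h0 := hd 0; have h1 := hd 1; have h2 := hd 2; have h3 := hd 3; have h4 := hd 4
  have h5 := hd 5; have h6 := hd 6; have h7 := hd 7; have h8 := hd 8; have h9 := hd 9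
  norm_num at h0 h1 h2 h3 h4 h5 h6 h7 h8 h9
  omega

theorem φ_surj [Finite V] (a : V) : ∃ x < 2 ^ 20, B.φ x = a := by
  classical
  have := Fintype.ofFinite V
  have hbij : Function.Bijective fun x : Fin (2 ^ 20) => B.φ x.val :=
    (Fintype.bijective_iff_injective_and_card _).2 ⟨fun x y h => Fin.ext (B.φ_inj x.isLt y.isLt h), by
      rw [Fintype.card_fin, ← Nat.card_eq_fintype_card, R.card]⟩
  obtain ⟨x, hx⟩ := hbij.2 a
  exact ⟨x.val, x.isLt, hx⟩

/-- An element acts by the linear map. -/
def Acts (g : U6) (M : List ℕ) : Prop := ∀ x < 2 ^ 20, R.α g (B.φ x) = B.φ (ev M x)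

theorem acts_unit {g : U6} {M : List ℕ} (h : ∀ i < 20, R.α g (B.φ (2 ^ i)) = B.φ (ev M (2 ^ i))) :
    B.Acts g M := by
  have main : ∀ n ≤ 20, ∀ x < 2 ^ n, R.α g (B.φ x) = B.φ (ev M x) := by
    intro n
    induction n with
    | zero =>
      intro _ x hx
      obtain rfl : x = 0 := by omega
      rw [B.φ_zero, map_one, ev_zero, B.φ_zero]
    | succ n ih =>
      intro hn x hx
      rcases lt_or_ge x (2 ^ n) with hlt | hge
      · exact ih (by omega) x hlt
      · have hlt : x ^^^ 2 ^ n < 2 ^ n := by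
          refine Nat.lt_pow_two_of_testBit _ fun j hj => ?_
          rw [Nat.testBit_xor, Nat.testBit_two_pow]
          rcases eq_or_lt_of_le hj with rfl | hj
          · simp [Nat.testBit_of_two_pow_le_and_two_pow_add_one_gt hge hx]
          · rw [Nat.testBit_lt_two_pow (lt_of_lt_of_le hx (Nat.pow_le_pow_right (by norm_num) hj))]
            simp [hj.ne]
        have hx' : x = (x ^^^ 2 ^ n) ^^^ 2 ^ n := by rw [Nat.xor_assoc, Nat.xor_self, Nat.xor_zero]
        conv_lhs => rw [hx']
        rw [B.φ_xor, map_mul, ih (by omega) _ hlt, h n (by omega), ← B.φ_xor, ← ev_xor, ← hx']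
  exact main 20 le_rfl

theorem acts_comp {g h : U6} {M N : List ℕ} (hg : B.Acts g M) (hh : B.Acts h N)
    (hN : ∀ c ∈ N, c < 2 ^ 20) : B.Acts (g * h) (comp M N) := fun x hx => by
  rw [map_mul, MulAut.mul_apply, hh x hx, hg _ (ev_lt hN x), ev_comp]

/-! ### The stabiliser of the first triple -/

theorem op_dwd_fix {i : ℕ} (hi : i < 5) (h0 : dig wt0 i = 0) {x : V} (hx : x ∈ R.comp wt0) :
    R.op (dwd i) x = x := by
  rw [← R.eop_basis hi]
  exact (hx _ (by interval_cases i <;> norm_num)).1 (by rw [Rep.dot_basis hi Rep.wt0_lt, h0])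

include B in
theorem trc_fix [Finite V] {k : ℕ} (hk : k ∈ [0, 1, 3, 4]) {x : V} (hx : x ∈ R.comp wt0) :
    R.op [trc k] x = x := by
  classical
  have hk5 : k < 5 := by simp at hk; omega
  have hs := List.all_eq_true.1 stab_facts k hk
  have hq := List.all_eq_true.1 subQ_facts k hk
  simp only [Bool.and_eq_true, decide_eq_true_eq, Nat.beq_eq] at hs hq
  obtain ⟨⟨⟨hsub, hm⟩, hd⟩, hmat⟩ := hq
  -- the conjugate of the scalar acts as the scalar
  have hqm : ∀ y ∈ R.comp wt0, R.eop (conjQ k) y = B.q y := by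
    intro y hy
    have he : wsu (ew (conjQ k)) = wsu (ew qExp) * wsu (ew (subQ (conjQ k))) := by
      refine mt_injective ?_
      rw [mt_mul', mt_ew hm, mt_ew q_lt.1, mt_ew hsub, ← toMat_mmul, eq_of_beq hmat]
    show R.α _ y = R.α _ y
    rw [he, map_mul, MulAut.mul_apply]
    exact congrArg _ ((hy _ hsub).1 hd)
  have htmem : ∀ y ∈ R.comp wt0, R.op [trc k] y ∈ R.comp wt0 := by
    intro y hy
    have := R.comp_trc hk5 Rep.wt0_lt hy
    rwa [hs.2] at this
  have htq : ∀ y ∈ R.comp wt0, B.q (R.op [trc k] y) = R.op [trc k] (B.q y) := by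
    intro y hy
    rw [← hqm y hy]
    exact (R.eop_trc hk5 q_lt.1).2 y
  have hall : ∀ y ∈ R.comp wt0, ∃ d : Fin 4, y = B.el d.val := by
    intro y hy
    have := Fintype.ofFinite ↥(R.comp wt0)
    have hb : Function.Bijective fun d : Fin 4 => (⟨B.el d.val, B.el_mem _⟩ : ↥(R.comp wt0)) :=
      (Fintype.bijective_iff_injective_and_card _).2 ⟨fun a b h => B.el_inj (congrArg Subtype.val h), by
        rw [Fintype.card_fin, ← Nat.card_eq_fintype_card, R.card_comp]⟩
    obtain ⟨d, hd⟩ := hb.2 ⟨y, hy⟩
    exact ⟨d, (congrArg Subtype.val hd).symm⟩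
  have htv : R.op [trc k] B.v = B.v := by
    obtain ⟨d, hd⟩ := hall _ (htmem _ B.mem)
    have hinv := R.trc_invol hk5 B.v
    rw [hd] at hinv
    fin_cases d
    · exact absurd (hinv.symm.trans (R.op_one _)) B.ne
    · exact hd
    · simp only [el] at hinv hd
      rw [← htq _ B.mem, hd] at hinv
      exact absurd hinv (fun h => by
        have := B.el_inj (a₁ := 3) (a₂ := 1) h
        simp at this)
    · simp only [el] at hinv hd
      rw [← htq _ (B.q_mem B.mem), ← htq _ B.mem, hd] at hinv
      have h2 : B.q (B.q (B.q (B.q B.v))) = B.q B.v := by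
        have h3 := congrArg B.q (B.q_sum)
        have h4 : B.q B.v * B.q (B.q B.v) * B.q (B.q (B.q B.v)) = 1 := by
          simpa [q, Rep.eop_mul, Rep.eop_one] using h3
        have h5 : B.q (B.q (B.q B.v)) = B.v := by
          rw [← inv_eq_of_mul_eq_one_right h4, R.inv_self]
          exact B.el_xor 2 3 |>.symm
        rw [h5]
      rw [h2] at hinv
      exact absurd hinv (fun h => by
        have := B.el_inj (a₁ := 2) (a₂ := 1) h
        simp at this)
  obtain ⟨d, rfl⟩ := hall x hx
  fin_cases d
  · exact R.op_one _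
  · exact htv
  · show R.op [trc k] (B.q B.v) = B.q B.v
    rw [← htq _ B.mem, htv]
  · show R.op [trc k] (B.q (B.q B.v)) = B.q (B.q B.v)
    rw [← htq _ (B.q_mem B.mem), ← htq _ B.mem, htv]

/-- The scalar powers of the vector. -/
noncomputable def qpow (e : ℕ) : V := B.el (e % 3 + 1)

theorem q_cube : B.q (B.q (B.q B.v)) = B.v := by
  have h3 := congrArg B.q (B.q_sum)
  have h4 : B.q B.v * B.q (B.q B.v) * B.q (B.q (B.q B.v)) = 1 := by
    simpa [q, Rep.eop_mul, Rep.eop_one] using h3
  rw [← inv_eq_of_mul_eq_one_right h4, R.inv_self]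
  exact B.el_xor 2 3 |>.symm

theorem s0_q (x : V) : R.op s0w (B.q (R.op s0w x)) = B.q (B.q x) := by
  have h := s0_facts
  simp only [Bool.and_eq_true] at h
  have hq : (ew qExp).all iso = true := Rep.ew_isoN q_lt.1
  rw [q, q, q, ← R.op_append, ← R.op_append,
    show R.eop qExp (R.eop qExp x) = R.op (ew qExp ++ ew qExp) x from (R.op_append _ _ _).symm]
  exact R.op_congr (by simp [List.all_append, h.1.1, hq]) (by simp [List.all_append, hq]) h.1.2 x

theorem letter_act [Finite V] {l : ℕ} (hl : l < 10) {e : ℕ} (he : e < 3) :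
    R.op (stabLetter l) (B.qpow e) = B.qpow (letterAct l e) := by
  have hmem : B.qpow e ∈ R.comp wt0 := B.el_mem _
  have hd := dig_wt0
  simp only [List.all_eq_true, Nat.beq_eq] at hd
  interval_cases l
  · exact B.trc_fix (by simp) hmem
  · exact B.trc_fix (by simp) hmem
  · exact B.trc_fix (by simp) hmem
  · exact B.trc_fix (by simp) hmem
  · have h := s0_facts
    simp only [Bool.and_eq_true] at h
    have hs : ∀ x, R.op s0w (R.op s0w x) = x := fun x => by
      rw [← R.op_append]
      exact R.op_of_mat (by simp [List.all_append, h.1.1]) h.2 x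
    have hv := B.swap
    have h1 : R.op s0w (B.q B.v) = B.q (B.q B.v) := by
      have := B.s0_q B.v
      rwa [hv] at this
    interval_cases e
    · exact hv
    · exact h1
    · show R.op s0w (B.q (B.q B.v)) = B.q B.v
      rw [← h1, hs]
  · exact op_dwd_fix (by norm_num) (hd 0 (by simp)) hmem
  · exact op_dwd_fix (by norm_num) (hd 1 (by simp)) hmem
  · exact op_dwd_fix (by norm_num) (hd 3 (by simp)) hmem
  · exact op_dwd_fix (by norm_num) (hd 4 (by simp)) hmem
  · interval_cases e
    · rfl
    · rfl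
    · exact B.q_cube

theorem stab_act [Finite V] : ∀ {w : List ℕ}, (∀ l ∈ w, l < 10) → ∀ {e : ℕ}, e < 3 →
    R.op (w.flatMap stabLetter) (B.qpow e) = B.qpow (stabAct w e) ∧ stabAct w e < 3
  | [], _, e, he => ⟨R.op_nil _, he⟩
  | l :: w, h, e, he => by
    obtain ⟨h1, h2⟩ := stab_act (w := w) (fun m hm => h m (List.mem_cons_of_mem _ hm)) he
    refine ⟨?_, ?_⟩
    · rw [List.flatMap_cons, R.op_append, h1]
      exact B.letter_act (h l List.mem_cons_self) h2
    · show letterAct l (stabAct w e) < 3
      unfold letterAct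
      split
      · exact Nat.mod_lt _ (by norm_num)
      · split
        · exact Nat.mod_lt _ (by norm_num)
        · exact h2

theorem φ_piece {j d : ℕ} (hj : j < 10) (hd : d < 4) : B.φ (d <<< (2 * j)) = R.op (piW j) (B.el d) := by
  have hg : ∀ i : Fin 10, g4 (d <<< (2 * j)) i.val = if j = i.val then d else 0 := by
    have key : ∀ (d : Fin 4) (j i : Fin 10),
        g4 (d.val <<< (2 * j.val)) i.val = if j.val = i.val then d.val else 0 := by decide +kernel
    exact fun i => key ⟨d, hd⟩ ⟨j, hj⟩ i
  rw [φ, Finset.prod_eq_single (⟨j, hj⟩ : Fin 10)]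
  · rw [hg]; simp
  · intro i _ hi
    rw [hg, if_neg (fun h => hi (Fin.ext h.symm))]
    exact R.op_one _
  · intro h; exact absurd (Finset.mem_univ _) h

theorem φ_unit {b : ℕ} (hb : b < 20) : B.φ (2 ^ b) = R.op (piW (b / 2)) (B.qpow (b % 2)) := by
  have h : 2 ^ b = (b % 2 + 1) <<< (2 * (b / 2)) := by
    conv_lhs => rw [← Nat.div_add_mod b 2]
    rcases Nat.mod_two_eq_zero_or_one b with h | h <;> rw [h, Nat.shiftLeft_eq, pow_add] <;> ring
  rw [h, B.φ_piece (by omega) (by omega), qpow, Nat.mod_eq_of_lt (show b % 2 < 3 by omega)]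

theorem step_spec {k b : ℕ} (hk : k < 6) (hb : b < 20) :
    iso (genc k) = true ∧ (stepEntry k b).1 < 10 ∧ (∀ l ∈ (stepEntry k b).2, l < 10) ∧
      meq (wmat ([genc k] ++ piW (b / 2) ++ (if Nat.beq (b % 2) 0 then [] else qWord)))
        (wmat (piW (stepEntry k b).1 ++ (stepEntry k b).2.flatMap stabLetter)) = true := by
  have h := List.all_eq_true.1 step_facts k (List.mem_range.2 hk)
  simp only [Bool.and_eq_true, List.all_eq_true] at h
  have h2 := h.2 b (List.mem_range.2 hb)
  simp only [decide_eq_true_eq] at h2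
  exact ⟨h.1, h2.1.1, h2.1.2, h2.2⟩

/-- The monomial generators. -/
theorem acts_mon [Finite V] {k : ℕ} (hk : k < 6) : B.Acts (wsu [genc k]) (monCols k) := by
  refine B.acts_unit fun b hb => ?_
  obtain ⟨hg, hj, hw, hmat⟩ := step_spec hk hb
  have hev : ev (monCols k) (2 ^ b) = (stabAct (stepEntry k b).2 0 + 1) <<< (2 * (stepEntry k b).1) := by
    have hunit : ∀ (cols : List ℕ) (i : ℕ), ev cols (2 ^ i) = cols.getD i 0 := by
      intro cols
      induction cols with
      | nil => intro i; simp [ev]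
      | cons c cs ih =>
        intro i
        cases i with
        | zero => simp [ev, ev_zero]
        | succ i => simp [ev, pow_succ, Nat.mul_mod_left, ih]
    rw [hunit, monCols, List.getD_eq_getElem _ _ (by simpa using hb), List.getElem_map, List.getElem_range]
  have hpi : ∀ i < 10, (piW i).all iso = true := fun i hi => List.all_eq_true.1 pi_iso i (List.mem_range.2 hi)
  have hq : qWord.all iso = true := Rep.ew_isoN q_lt.1
  have hl : ((stepEntry k b).2.flatMap stabLetter).all iso = true := by
    rw [List.all_flatMap, List.all_eq_true]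
    exact fun l hl => List.all_eq_true.1 letter_iso l (List.mem_range.2 (hw l hl))
  have heq := R.op_congr (by
    simp only [List.all_append, hpi _ (show b / 2 < 10 by omega)]
    split <;> simp [hg, hq]) (by simp [List.all_append, hpi _ hj, hl]) hmat B.v
  obtain ⟨h1, h2⟩ := B.stab_act hw (show (0 : ℕ) < 3 by norm_num)
  rw [hev, B.φ_piece hj (by omega), B.φ_unit hb]
  show R.op [genc k] _ = _
  have hbase : R.op (if Nat.beq (b % 2) 0 then [] else qWord) B.v = B.qpow (b % 2) := by
    rcases Nat.mod_two_eq_zero_or_one b with h | h <;> rw [h]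
    · exact R.op_nil _
    · rfl
  rw [← hbase, ← R.op_append, ← R.op_append, heq, R.op_append]
  congr 1
  refine h1.trans ?_
  rw [qpow, Nat.mod_eq_of_lt h2]

end Base

/-- There is a vector of the first weight space fixed by the exchange. -/
theorem Rep.exists_base {V : Type*} [CommGroup V] [Finite V] (R : Rep V) : Nonempty (Base R) := by
  classical
  have hq := Base.q_lt
  have hd : dot qExp wt0 ≠ 0 := by rw [hq.2]; norm_num
  haveI : Nontrivial ↥(R.comp wt0) := Finite.one_lt_card_iff_nontrivial.1 (by rw [R.card_comp]; norm_num)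
  obtain ⟨⟨b, hb⟩, hne⟩ := exists_ne (1 : ↥(R.comp wt0))
  have hb1 : b ≠ 1 := fun h => hne (Subtype.ext h)
  set c : V := R.eop qExp b with hc
  set d : V := R.eop qExp c with hd'
  have h3 : b * c * d = 1 := (hb qExp hq.1).2 hd
  have hcb : c ≠ b := fun h => hb1 (R.eq_one_of_fixed hb hq.1 hd h)
  have hc1 : c ≠ 1 := fun h => hb1 (R.op_injective (ew qExp) (h.trans (R.eop_one qExp).symm))
  have hd1 : d ≠ 1 := fun h => hc1 (R.op_injective (ew qExp) (h.trans (R.eop_one qExp).symm))
  have hdc : d ≠ c := fun h => hcb (R.op_injective (ew qExp) h)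
  have hdb : d ≠ b := fun h => by
    rw [h, mul_comm b c, mul_assoc, R.sq, mul_one] at h3
    exact hc1 h3
  have hall : ∀ x ∈ R.comp wt0, x = 1 ∨ x = b ∨ x = c ∨ x = d := by
    have := Fintype.ofFinite ↥(R.comp wt0)
    let g : Fin 4 → ↥(R.comp wt0) := ![1, ⟨b, hb⟩, ⟨c, R.eop_mem hb _⟩, ⟨d, R.eop_mem (R.eop_mem hb _) _⟩]
    have hinj : Function.Injective g := by
      intro i j h
      have h' := congrArg Subtype.val h
      fin_cases i <;> fin_cases j <;> simp [g] at h' ⊢ <;>
        first
        | exact absurd h' hb1 | exact absurd h'.symm hb1 | exact absurd h' hc1 | exact absurd h'.symm hc1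
        | exact absurd h' hd1 | exact absurd h'.symm hd1 | exact absurd h' hcb | exact absurd h'.symm hcb
        | exact absurd h' hdc | exact absurd h'.symm hdc | exact absurd h' hdb | exact absurd h'.symm hdb
    have hbij := (Fintype.bijective_iff_injective_and_card g).2 ⟨hinj, by
      rw [Fintype.card_fin, ← Nat.card_eq_fintype_card, R.card_comp]⟩
    intro x hx
    obtain ⟨i, hi⟩ := hbij.2 ⟨x, hx⟩
    have h' := congrArg Subtype.val hi
    fin_cases i <;> simp [g] at h' <;> subst h' <;> simp
  have hs := s0_facts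
  have hk := s0K_facts
  simp only [Bool.and_eq_true] at hs hk
  have hkl : ∀ k ∈ s0K, k < 5 := fun k h => of_decide_eq_true (List.all_eq_true.1 hk.1.1 k h)
  have hkiso : (s0K.map trc).all iso = true := by
    rw [List.all_map, List.all_eq_true]
    exact fun k h => List.all_eq_true.1 trc_iso k (List.mem_range.2 (hkl k h))
  have hmem : R.op s0w b ∈ R.comp wt0 := by
    rw [R.op_congr hs.1.1 hkiso hk.2]
    exact R.comp_sameKer hk.1.2 (R.comp_word Rep.wt0_lt hkl hb)
  have hsq : ∀ x, R.eop qExp (R.op s0w x) = R.op s0w (R.eop qExp (R.eop qExp x)) := by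
    intro x
    have hqi : (ew qExp).all iso = true := Rep.ew_isoN hq.1
    have hinv : ∀ y, R.op s0w (R.op s0w y) = y := fun y => by
      rw [← R.op_append]
      exact R.op_of_mat (by simp [List.all_append, hs.1.1]) hs.2 y
    have h1 := R.op_congr (by simp [List.all_append, hs.1.1, hqi]) (by simp [List.all_append, hqi]) hs.1.2 x
    rw [R.op_append, R.op_append, R.op_append] at h1
    rw [← hinv (R.eop qExp (R.op s0w x))]
    exact congrArg _ h1
  have q3 : R.eop qExp d = b := by
    rcases hall _ (R.eop_mem (R.eop_mem (R.eop_mem hb qExp) qExp) qExp) with h | h | h | h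
    · exact absurd (R.op_injective (ew qExp) (h.trans (R.eop_one qExp).symm)) hd1
    · exact h
    · exact absurd (R.op_injective (ew qExp) h) hdb
    · exact absurd (R.op_injective (ew qExp) h) hdc
  rcases hall _ hmem with h | h | h | h
  · exact absurd (R.op_injective _ (h.trans (R.op_one _).symm)) hb1
  · exact ⟨⟨b, hb, hb1, h⟩⟩
  · refine ⟨⟨d, R.eop_mem (R.eop_mem hb _) _, hd1, ?_⟩⟩
    have h1 := hsq b
    rw [h] at h1
    exact h1.symm
  · refine ⟨⟨c, R.eop_mem hb _, hc1, ?_⟩⟩
    have e2 : R.op s0w d = b := by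
      have h1 := hsq b
      rw [h, q3] at h1
      exact h1.symm
    have e3 := hsq d
    rw [e2, q3] at e3
    exact e3.symm

end Cfsg.Agent.U62Module
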