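/-
The generator outside the monomial group: the decisions.

* `wordM`, `colsM` : monomial words and their maps;
* `cand`, `cand_unique` : the candidates for the map of the generator, and the unique solution.
-/
import Cfsg.Agent.Lib.U62Module.CoordCheck

set_option autoImplicit false

namespace Cfsg.Agent.U62Module

open Data

/-- The word of monomial letters. -/
def wordM (w : List ℕ) : List ℕ := w.map genc

/-- The map of monomial letters. -/
def colsM (w : List ℕ) : List ℕ := w.foldr (fun k C => comp (monCols k) C) unitCols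

/-- The number of the seed. -/
def seedBit (s : ℕ) : ℕ := s

/-- A seed check. -/
def seedCheck (s : ℕ) : Bool :=
  let fx := seedFix.getD s []
  let p := seedT.getD s ([], [])
  p.1.contains 0 && p.1.all (fun a => p.1.all fun b => p.1.contains (a ^^^ b)) && p.2.all (p.1.contains ·) &&
    fx.all (fun e => e.1.all (fun k => decide (k < 6)) && e.2.1.all (fun k => decide (k < 6)) &&
      Nat.beq (ev (colsM e.1) (2 ^ s)) (2 ^ s) &&
        meq (wmat (gw ++ wordM e.1)) (wmat (wordM e.2.1 ++ gw))) &&
      (List.range 20).all fun b => Nat.beq (2 ^ b)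
        (fx.foldl (fun z e => z ^^^ ev e.2.2 (ev (colsM e.2.1) (2 ^ b) ^^^ 2 ^ b)) (ev p.2 (2 ^ b)))

theorem seed_facts : ((List.range 3).all seedCheck) = true := by decide +kernel

theorem gw_iso : gw.all iso = true := by decide +kernel

theorem reach_facts : ((List.range 20).all fun b =>
    let e := reachT.getD b ([], [], 3)
    decide (e.2.2 < 3) && e.1.all (fun k => decide (k < 6)) && e.2.1.all (fun k => decide (k < 6)) &&
      Nat.beq (ev (colsM e.1) (2 ^ e.2.2)) (2 ^ b) &&
        meq (wmat (gw ++ wordM e.1)) (wmat (wordM e.2.1 ++ gw))) = true := by decide +kernel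

theorem rel_facts : (s0m.all (fun k => decide (k < 6)) && d0m.all (fun k => decide (k < 6)) &&
    meq (wmat (gw ++ gw)) (wmat (wordM [1])) &&
    meq (wmat (gw ++ (wordM s0m ++ gw ++ wordM s0m))) (wmat (wordM s0m ++ gw ++ wordM s0m ++ gw)) &&
    meq (wmat ((wordM d0m ++ gw ++ wordM d0m ++ wordM d0m) ++
        (wordM s0m ++ (wordM d0m ++ gw ++ wordM d0m ++ wordM d0m) ++ wordM s0m)))
      (wmat ((wordM s0m ++ (wordM d0m ++ gw ++ wordM d0m ++ wordM d0m) ++ wordM s0m) ++
        (wordM d0m ++ gw ++ wordM d0m ++ wordM d0m)))) = true := by decide +kernel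

/-- The candidate from the values at the seeds. -/
def cand (a b c : ℕ) : List ℕ := (List.range 20).map fun j =>
  let e := reachT.getD j ([], [], 3)
  ev (colsM e.2.1) ([a, b, c].getD e.2.2 0)

/-- The relations of a candidate. -/
def candRel (T : List ℕ) : Bool :=
  let S := colsM s0m
  let E := colsM d0m
  let U := comp S (comp T S)
  let T' := comp E (comp T (comp E E))
  let U' := comp S (comp T' S)
  (List.range 20).all fun b =>
    Nat.beq (ev T (ev T (2 ^ b))) (ev (monCols 1) (2 ^ b)) && Nat.beq (ev T (ev U (2 ^ b))) (ev U (ev T (2 ^ b))) &&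
      Nat.beq (ev T' (ev U' (2 ^ b))) (ev U' (ev T' (2 ^ b)))

theorem cand_unique : ((seedT.getD 0 ([], [])).1.all fun a => (seedT.getD 1 ([], [])).1.all fun b =>
    (seedT.getD 2 ([], [])).1.all fun c => !candRel (cand a b c) || cand a b c == gCols) = true := by
  decide +kernel

/-- A monomial word for the transposition of the first and the fourth coordinate. -/
def t03m : List ℕ := [0, 1, 2, 1, 0]

theorem gen_facts : (gens.all iso && Nat.beq gens.length 7 && gCols.all (fun c => decide (c < 2 ^ 20)) &&
    meq (wmat [genc 6]) (wmat (gw ++ (wordM t03m ++ (gw ++ (gw ++ gw)))))) = true := by decide +kernel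

end Cfsg.Agent.U62Module
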