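/-
The map of the generator outside the monomial group, and of all letters.

* `colsM_lt`, `Base.acts_word` : monomial words;
* `Base.acts_g` : the generator outside;
* `letterW`, `letterC`, `wordA`, `colsA`, `Base.acts_all` : words in the eight letters.
-/
import Cfsg.Agent.Lib.U62Module.Coord
import Cfsg.Agent.Lib.U62Module.ExtraCheck

set_option autoImplicit false

namespace Cfsg.Agent.U62Module

open Data Cfsg.Agent.U62Cover

/-- A bound for the columns. -/
def Small (M : List ℕ) : Prop := ∀ c ∈ M, c < 2 ^ 20

theorem Small.comp {M N : List ℕ} (hM : Small M) : Small (U62Module.comp M N) := fun c hc => by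
  obtain ⟨x, -, rfl⟩ := List.mem_map.1 hc
  exact ev_lt hM x

theorem small_unit : Small unitCols := by
  intro c hc
  obtain ⟨i, hi, rfl⟩ := List.mem_map.1 hc
  exact Nat.pow_lt_pow_right (by norm_num) (List.mem_range.1 hi)

theorem small_mon {k : ℕ} (hk : k < 6) : Small (monCols k) := by
  intro c hc
  obtain ⟨b, hb, rfl⟩ := List.mem_map.1 hc
  have h := List.all_eq_true.1 step_facts k (List.mem_range.2 hk)
  simp only [Bool.and_eq_true, List.all_eq_true] at h
  have h2 := h.2 b hb
  simp only [decide_eq_true_eq] at h2
  have hact : ∀ (w : List ℕ) (e : ℕ), e < 3 → stabAct w e < 3 := by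
    intro w
    induction w with
    | nil => intro e he; exact he
    | cons l w ih =>
      intro e he
      show letterAct l (stabAct w e) < 3
      unfold letterAct
      split
      · exact Nat.mod_lt _ (by norm_num)
      · split
        · exact Nat.mod_lt _ (by norm_num)
        · exact ih e he
  have h3 := hact (stepEntry k b).2 0 (by norm_num)
  rw [Nat.shiftLeft_eq]
  calc _ < 4 * 2 ^ (2 * (stepEntry k b).1) := Nat.mul_lt_mul_of_lt_of_le (by omega) le_rfl (Nat.two_pow_pos _)
    _ = 2 ^ (2 * (stepEntry k b).1 + 2) := by rw [pow_add]; ring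
    _ ≤ 2 ^ 20 := Nat.pow_le_pow_right (by norm_num) (by omega)

theorem colsM_lt : ∀ {w : List ℕ}, (∀ k ∈ w, k < 6) → Small (colsM w)
  | [], _ => small_unit
  | k :: w, h => Small.comp (small_mon (h k List.mem_cons_self))

theorem wordM_iso {w : List ℕ} (h : ∀ k ∈ w, k < 6) : (wordM w).all iso = true := by
  rw [wordM, List.all_map, List.all_eq_true]
  intro k hk
  have := List.all_eq_true.1 step_facts k (List.mem_range.2 (h k hk))
  simp only [Bool.and_eq_true] at this
  exact this.1

namespace Base

variable {V : Type*} [CommGroup V] [Finite V] {R : Rep V} (B : Base R)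

theorem acts_one : B.Acts (wsu []) unitCols := fun x hx => by
  rw [wsu_nil, map_one, MulAut.one_apply, ev_unit hx]

theorem acts_word : ∀ {w : List ℕ}, (∀ k ∈ w, k < 6) → B.Acts (wsu (wordM w)) (colsM w)
  | [], _ => B.acts_one
  | k :: w, h => by
    have h' : ∀ j ∈ w, j < 6 := fun j hj => h j (List.mem_cons_of_mem _ hj)
    show B.Acts (wsu ([genc k] ++ wordM w)) (comp (monCols k) (colsM w))
    rw [wsu_append]
    exact B.acts_comp (B.acts_mon (h k List.mem_cons_self)) (acts_word h') (colsM_lt h')

theorem acts_g : B.Acts (wsu gw) gCols := by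
  classical
  have hsurj := fun b => B.φ_surj (R.α (wsu gw) (B.φ (2 ^ b)))
  choose T hT hTφ using hsurj
  have heq : ∀ {e f : List ℕ}, (∀ k ∈ e, k < 6) → (∀ k ∈ f, k < 6) →
      meq (wmat (gw ++ wordM e)) (wmat (wordM f ++ gw)) = true → ∀ y, R.α (wsu gw) (R.α (wsu (wordM e)) y)
        = R.α (wsu (wordM f)) (R.α (wsu gw) y) := by
    intro e f he hf hm y
    have h := wsu_eq (by simp [List.all_append, gw_iso, wordM_iso he])
      (by simp [List.all_append, gw_iso, wordM_iso hf]) hm
    rw [wsu_append, wsu_append] at h
    rw [← MulAut.mul_apply, ← map_mul, h, map_mul, MulAut.mul_apply]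
  -- the values at the seeds
  have hseed : ∀ s < 3, T s ∈ (seedT.getD s ([], [])).1 := by
    intro s hs
    have h := List.all_eq_true.1 seed_facts s (List.mem_range.2 hs)
    simp only [seedCheck, Bool.and_eq_true, List.all_eq_true, decide_eq_true_eq, Nat.beq_eq,
      List.contains_iff_mem] at h
    obtain ⟨⟨⟨⟨h0, hadd⟩, hP⟩, hfix⟩, hid⟩ := h
    set fx := seedFix.getD s []
    set p := seedT.getD s ([], [])
    have hx : T s < 2 ^ 20 := hT s
    have hfold : ∀ (L : List (List ℕ × List ℕ × List ℕ)) (z x : ℕ),
        (∀ e ∈ L, ev (colsM e.2.1) x = x) →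
        L.foldl (fun z e => z ^^^ ev e.2.2 (ev (colsM e.2.1) x ^^^ x)) z = z := by
      intro L
      induction L with
      | nil => intros; rfl
      | cons e L ih =>
        intro z x hL
        rw [List.foldl_cons, hL e List.mem_cons_self, Nat.xor_self, ev_zero, Nat.xor_zero]
        exact ih z x fun e' he' => hL e' (List.mem_cons_of_mem _ he')
    have hlin : ∀ (L : List (List ℕ × List ℕ × List ℕ)) (z z' x y : ℕ),
        L.foldl (fun z e => z ^^^ ev e.2.2 (ev (colsM e.2.1) (x ^^^ y) ^^^ (x ^^^ y))) (z ^^^ z') =
          L.foldl (fun z e => z ^^^ ev e.2.2 (ev (colsM e.2.1) x ^^^ x)) z ^^^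
            L.foldl (fun z e => z ^^^ ev e.2.2 (ev (colsM e.2.1) y ^^^ y)) z' := by
      intro L
      induction L with
      | nil => intros; rfl
      | cons e L ih =>
        intro z z' x y
        simp only [List.foldl_cons]
        rw [← ih]
        congr 1
        simp only [ev_xor]
        ac_rfl
    have hfix' : ∀ e ∈ fx, ev (colsM e.2.1) (T s) = T s := by
      intro e he
      obtain ⟨⟨⟨he1, he2⟩, hpt⟩, hm⟩ := hfix e he
      refine B.φ_inj (ev_lt (colsM_lt he2) _) hx ?_
      rw [← B.acts_word he2 _ hx, hTφ, ← heq he1 he2 hm, B.acts_word he1 _ (Nat.pow_lt_pow_right (by norm_num) (by omega)),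
        hpt]
    have hall : fx.foldl (fun z e => z ^^^ ev e.2.2 (ev (colsM e.2.1) (T s) ^^^ T s)) (ev p.2 (T s)) = id (T s) := by
      refine ext_unit (f := fun x => fx.foldl (fun z e => z ^^^ ev e.2.2 (ev (colsM e.2.1) x ^^^ x)) (ev p.2 x))
        (g := id) (fun x y => ?_) (fun _ _ => rfl) (fun b hb => (hid b (List.mem_range.2 hb)).symm) hx
      rw [ev_xor, hlin]
    rw [hfold fx _ _ hfix'] at hall
    rw [show T s = ev p.2 (T s) from hall.symm]
    have hmem : ∀ (cols : List ℕ), (∀ c ∈ cols, c ∈ p.1) → ∀ x, ev cols x ∈ p.1 := by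
      intro cols
      induction cols with
      | nil => intro _ x; exact h0
      | cons c cs ih =>
        intro hc x
        rw [ev]
        refine hadd _ ?_ _ (ih (fun d hd => hc d (List.mem_cons_of_mem _ hd)) _)
        split
        · exact h0
        · exact hc c List.mem_cons_self
    exact hmem p.2 hP _
  -- the other values
  set C := cand (T 0) (T 1) (T 2) with hC
  have hCsmall : Small C := by
    intro c hc
    obtain ⟨j, hj, rfl⟩ := List.mem_map.1 hc
    have h := List.all_eq_true.1 reach_facts j hj
    simp only [Bool.and_eq_true, List.all_eq_true, decide_eq_true_eq] at h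
    exact ev_lt (colsM_lt h.1.1.2) _
  have hCacts : B.Acts (wsu gw) C := by
    refine B.acts_unit fun b hb => ?_
    have h := List.all_eq_true.1 reach_facts b (List.mem_range.2 hb)
    simp only [Bool.and_eq_true, List.all_eq_true, decide_eq_true_eq, Nat.beq_eq] at h
    obtain ⟨⟨⟨⟨hs, he⟩, hf⟩, hpt⟩, hm⟩ := h
    set e := reachT.getD b ([], [], 3) with hedef
    have hval : [T 0, T 1, T 2].getD e.2.2 0 = T e.2.2 := by
      generalize e.2.2 = s at hs
      interval_cases s <;> rfl
    have hev : ev C (2 ^ b) = ev (colsM e.2.1) (T e.2.2) := by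
      have hunit : ∀ (cols : List ℕ) (i : ℕ), ev cols (2 ^ i) = cols.getD i 0 := by
        intro cols
        induction cols with
        | nil => intro i; simp [ev]
        | cons c cs ih =>
          intro i
          cases i with
          | zero => simp [ev, ev_zero]
          | succ i => simp [ev, pow_succ, Nat.mul_mod_left, ih]
      rw [hunit, hC, cand, List.getD_eq_getElem _ _ (by simpa using hb), List.getElem_map, List.getElem_range]
      simp only [← hedef, hval]
    rw [hev, ← B.acts_word hf _ (hT _), hTφ, ← heq he hf hm,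
      B.acts_word he _ (Nat.pow_lt_pow_right (by norm_num) (by omega)), hpt]
  -- the relations
  have hrel := rel_facts
  simp only [Bool.and_eq_true, List.all_eq_true, decide_eq_true_eq] at hrel
  obtain ⟨⟨⟨⟨hs0, hd0⟩, hsq⟩, hcom⟩, hcom'⟩ := hrel
  have hEE : Small (comp (colsM d0m) (colsM d0m)) := Small.comp (colsM_lt hd0)
  have hU : B.Acts (wsu (wordM s0m ++ gw ++ wordM s0m)) (comp (colsM s0m) (comp C (colsM s0m))) := by
    rw [List.append_assoc, wsu_append, wsu_append]
    exact B.acts_comp (B.acts_word hs0) (B.acts_comp hCacts (B.acts_word hs0) (colsM_lt hs0)) (Small.comp hCsmall)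
  have hT' : B.Acts (wsu (wordM d0m ++ gw ++ wordM d0m ++ wordM d0m))
      (comp (colsM d0m) (comp C (comp (colsM d0m) (colsM d0m)))) := by
    rw [List.append_assoc, List.append_assoc, wsu_append, wsu_append, wsu_append]
    exact B.acts_comp (B.acts_word hd0) (B.acts_comp hCacts (B.acts_comp (B.acts_word hd0) (B.acts_word hd0)
      (colsM_lt hd0)) hEE) (Small.comp hCsmall)
  set T' := comp (colsM d0m) (comp C (comp (colsM d0m) (colsM d0m))) with hT'def
  have hT's : Small T' := Small.comp (colsM_lt hd0)
  have hU' : B.Acts (wsu (wordM s0m ++ (wordM d0m ++ gw ++ wordM d0m ++ wordM d0m) ++ wordM s0m))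
      (comp (colsM s0m) (comp T' (colsM s0m))) := by
    rw [wsu_append, wsu_append, mul_assoc]
    exact B.acts_comp (B.acts_word hs0) (B.acts_comp hT' (B.acts_word hs0) (colsM_lt hs0)) (Small.comp hT's)
  have hiso0 := wordM_iso hs0
  have hisod := wordM_iso hd0
  have ok : candRel C = true := by
    simp only [candRel, List.all_eq_true, Bool.and_eq_true, Nat.beq_eq]
    intro b hb
    have hx : 2 ^ b < 2 ^ 20 := Nat.pow_lt_pow_right (by norm_num) (List.mem_range.1 hb)
    have hUs : Small (comp (colsM s0m) (comp C (colsM s0m))) := Small.comp (colsM_lt hs0)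
    have hU's : Small (comp (colsM s0m) (comp T' (colsM s0m))) := Small.comp (colsM_lt hs0)
    refine ⟨⟨?_, ?_⟩, ?_⟩
    · refine B.φ_inj (ev_lt hCsmall _) (ev_lt (small_mon (by norm_num)) _) ?_
      rw [← hCacts _ (ev_lt hCsmall _), ← hCacts _ hx, ← MulAut.mul_apply, ← map_mul, ← wsu_append,
        wsu_eq (by simp [List.all_append, gw_iso]) (wordM_iso (w := [1]) (by simp)) hsq]
      exact B.acts_mon (by norm_num) _ hx
    · refine B.φ_inj (ev_lt hCsmall _) (ev_lt hUs _) ?_
      rw [← hCacts _ (ev_lt hUs _), ← hU _ hx, ← hU _ (ev_lt hCsmall _), ← hCacts _ hx,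
        ← MulAut.mul_apply, ← map_mul, ← MulAut.mul_apply, ← map_mul, ← wsu_append, ← wsu_append,
        wsu_eq (by simp [List.all_append, gw_iso, hiso0]) (by simp [List.all_append, gw_iso, hiso0]) hcom]
    · refine B.φ_inj (ev_lt hT's _) (ev_lt hU's _) ?_
      rw [← hT' _ (ev_lt hU's _), ← hU' _ hx, ← hU' _ (ev_lt hT's _), ← hT' _ hx,
        ← MulAut.mul_apply, ← map_mul, ← MulAut.mul_apply, ← map_mul, ← wsu_append, ← wsu_append,
        wsu_eq (by simp [List.all_append, gw_iso, hiso0, hisod]) (by simp [List.all_append, gw_iso, hiso0, hisod]) hcom']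
  have := List.all_eq_true.1 (List.all_eq_true.1 (List.all_eq_true.1 cand_unique _ (hseed 0 (by norm_num))) _
    (hseed 1 (by norm_num))) _ (hseed 2 (by norm_num))
  rw [← hC, ok] at this
  simp only [Bool.not_true, Bool.false_or, beq_iff_eq] at this
  exact this ▸ hCacts

end Base

/-- The word of a letter: six monomial generators, the seventh transvection, the outer element. -/
def letterW (l : ℕ) : List ℕ := if Nat.beq l 7 then gw else [genc l]

/-- The map of a letter. -/
def letterC (l : ℕ) : List ℕ :=
  if Nat.beq l 7 then gCols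
  else if Nat.beq l 6 then comp gCols (comp (colsM t03m) (comp gCols (comp gCols gCols)))
  else monCols l

/-- The word of a list of letters. -/
def wordA (w : List ℕ) : List ℕ := w.flatMap letterW

/-- The map of a list of letters. -/
def colsA (w : List ℕ) : List ℕ := w.foldr (fun l C => comp (letterC l) C) unitCols

theorem gCols_small : Small gCols := by
  have h := gen_facts
  simp only [Bool.and_eq_true, List.all_eq_true, decide_eq_true_eq] at h
  exact h.1.2

theorem letterC_small {l : ℕ} (hl : l < 8) : Small (letterC l) := by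
  interval_cases l
  · exact small_mon (by norm_num)
  · exact small_mon (by norm_num)
  · exact small_mon (by norm_num)
  · exact small_mon (by norm_num)
  · exact small_mon (by norm_num)
  · exact small_mon (by norm_num)
  · exact Small.comp gCols_small
  · exact gCols_small

theorem colsA_small : ∀ {w : List ℕ}, (∀ l ∈ w, l < 8) → Small (colsA w)
  | [], _ => small_unit
  | l :: w, h => Small.comp (letterC_small (h l List.mem_cons_self))

theorem letterW_iso {l : ℕ} (hl : l < 8) : (letterW l).all iso = true := by
  have h := gen_facts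
  simp only [Bool.and_eq_true, List.all_eq_true, Nat.beq_eq] at h
  have hg : ∀ k < 7, iso (genc k) = true := fun k hk =>
    h.1.1.1 _ (by rw [genc, List.getD_eq_getElem _ _ (h.1.1.2.symm ▸ hk)]; exact List.getElem_mem _)
  interval_cases l <;> first | exact gw_iso | (simp [letterW, hg])

theorem wordA_iso {w : List ℕ} (h : ∀ l ∈ w, l < 8) : (wordA w).all iso = true := by
  rw [wordA, List.all_flatMap, List.all_eq_true]
  exact fun l hl => letterW_iso (h l hl)

namespace Base

variable {V : Type*} [CommGroup V] [Finite V] {R : Rep V} (B : Base R)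

theorem acts_letter {l : ℕ} (hl : l < 8) : B.Acts (wsu (letterW l)) (letterC l) := by
  interval_cases l
  · exact B.acts_mon (by norm_num)
  · exact B.acts_mon (by norm_num)
  · exact B.acts_mon (by norm_num)
  · exact B.acts_mon (by norm_num)
  · exact B.acts_mon (by norm_num)
  · exact B.acts_mon (by norm_num)
  · have h := gen_facts
    simp only [Bool.and_eq_true] at h
    have ht : ∀ k ∈ t03m, k < 6 := by decide
    show B.Acts (wsu (letterW 6)) (comp gCols (comp (colsM t03m) (comp gCols (comp gCols gCols))))
    rw [wsu_eq (letterW_iso (show (6 : ℕ) < 8 by norm_num))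
      (by simp [List.all_append, gw_iso, wordM_iso ht]) h.2, wsu_append, wsu_append, wsu_append, wsu_append]
    exact B.acts_comp B.acts_g (B.acts_comp (B.acts_word ht) (B.acts_comp B.acts_g (B.acts_comp B.acts_g B.acts_g
      gCols_small) (Small.comp gCols_small)) (Small.comp gCols_small)) (Small.comp (colsM_lt ht))
  · exact B.acts_g

theorem acts_all : ∀ {w : List ℕ}, (∀ l ∈ w, l < 8) → B.Acts (wsu (wordA w)) (colsA w)
  | [], _ => B.acts_one
  | l :: w, h => by
    have h' : ∀ m ∈ w, m < 8 := fun m hm => h m (List.mem_cons_of_mem _ hm)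
    show B.Acts (wsu (letterW l ++ wordA w)) (comp (letterC l) (colsA w))
    rw [wsu_append]
    exact B.acts_comp (B.acts_letter (h l List.mem_cons_self)) (acts_all h') (colsA_small h')

end Base

end Cfsg.Agent.U62Module
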