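/-
The checks for the elements of order three fixing each vector.

* `evA`, `evA_eq` : letters applied one after another;
* `covChk` : a piece of a tree; the checks for the three representatives.
-/
import Cfsg.Agent.Lib.U62Module.Extra
import Cfsg.Agent.Lib.U62Module.DataCover

set_option autoImplicit false
set_option maxRecDepth 4096

namespace Cfsg.Agent.U62Module

open Data

/-- The map of a letter, from the table. -/
def letC (l : ℕ) : List ℕ := letT.getD l []

/-- Letters applied one after another. -/
def evA (w : List ℕ) (x : ℕ) : ℕ := w.foldr (fun l y => ev (letC l) y) x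

/-- The composite of letters, from the table. -/
def colsT (w : List ℕ) : List ℕ := w.foldr (fun l C => comp (letC l) C) unitCols

theorem letT_facts : ((List.range 8).all fun l => letC l == letterC l) = true := by decide +kernel

theorem letC_eq {l : ℕ} (hl : l < 8) : letC l = letterC l :=
  eq_of_beq (List.all_eq_true.1 letT_facts l (List.mem_range.2 hl))

theorem colsT_eq : ∀ {w : List ℕ}, (∀ l ∈ w, l < 8) → colsT w = colsA w
  | [], _ => rfl
  | l :: w, h => by
    show comp (letC l) (colsT w) = comp (letterC l) (colsA w)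
    rw [letC_eq (h l List.mem_cons_self), colsT_eq fun m hm => h m (List.mem_cons_of_mem _ hm)]

theorem evA_eq : ∀ {w : List ℕ}, (∀ l ∈ w, l < 8) → ∀ {x : ℕ}, x < 2 ^ 20 → evA w x = ev (colsA w) x
  | [], _, x, hx => (ev_unit hx).symm
  | l :: w, h, x, hx => by
    show ev (letC l) (evA w x) = ev (comp (letterC l) (colsA w)) x
    rw [ev_comp, letC_eq (h l List.mem_cons_self), evA_eq (fun m hm => h m (List.mem_cons_of_mem _ hm)) hx]

/-- The bits of the first block. -/
def mask0 : ℕ := 787212

/-- The bits of the two other blocks. -/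
def mask12 : ℕ := 261360

/-- Packing of the bits of the two other blocks. -/
def pk (x : ℕ) : ℕ := ((x >>> 4) &&& 15) ^^^ (((x >>> 10) &&& 255) <<< 4)

/-- Unpacking. -/
def unpk (i : ℕ) : ℕ := ((i &&& 15) <<< 4) ^^^ (((i >>> 4) &&& 255) <<< 10)

/-- A piece of a tree. -/
def covChk (r : ℕ) (gs : List (List ℕ)) : List ℕ → ℕ → ℕ → Bool
  | [], m, out => Nat.beq m out
  | e :: L, m, out => m.testBit ((e >>> 12) &&& 4095) && Nat.blt (e >>> 24) gs.length &&
      Nat.ble (ev (gs.getD (e >>> 24) []) (r ^^^ unpk ((e >>> 12) &&& 4095)) ^^^ (r ^^^ unpk (e &&& 4095))) 3 &&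
      covChk r gs L (m ||| 1 <<< (e &&& 4095)) out

/-- The checks of the generators of a tree. -/
def genChk (ws cs : List (List ℕ)) : Bool :=
  Nat.beq ws.length cs.length && (List.range ws.length).all fun i =>
    (ws.getD i []).all (fun l => decide (l < 8)) && colsT (ws.getD i []) == cs.getD i [] &&
      (List.range 4).all fun t => (List.range 4).any fun c => Nat.beq (ev (cs.getD i []) c) t

/-- The checks of the roots of a tree. -/
def rootChk (r : ℕ) (L : List (ℕ × ℕ × ℕ × List ℕ)) : Bool :=
  L.all fun e => decide (e.2.2.1 < 6) && e.2.2.2.all (fun l => decide (l < 8)) &&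
    Nat.beq (evA e.2.2.2 (covSeeds.getD e.2.2.1 (0, 0, [])).1) (r ^^^ unpk e.1 ^^^ e.2.1)

/-- The set of the roots. -/
def rootMask (L : List (ℕ × ℕ × ℕ × List ℕ)) : ℕ :=
  L.foldl (fun m e => if Nat.beq e.2.1 0 then m ||| 1 <<< e.1 else m) 0

/-- The four cosets of each root occur. -/
def rootFour : List (ℕ × ℕ × ℕ × List ℕ) → Bool
  | a :: b :: c :: d :: L => Nat.beq a.2.1 0 && Nat.beq b.2.1 1 && Nat.beq c.2.1 2 && Nat.beq d.2.1 3 &&
      Nat.beq b.1 a.1 && Nat.beq c.1 a.1 && Nat.beq d.1 a.1 && rootFour L
  | [] => true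
  | _ => false

theorem seed_fix : (covSeeds.all fun e => decide (e.2.1 < 20) && decide (e.1 < 2 ^ 20) &&
    e.2.2.all (fun l => decide (l < 8)) && Nat.beq (evA e.2.2 e.1) e.1 &&
    !(Nat.beq (evA e.2.2 (2 ^ e.2.1)) (2 ^ e.2.1)) &&
    meq (wmat (wordA (e.2.2 ++ e.2.2 ++ e.2.2))) idMat) = true := by decide +kernel

theorem block_facts : ((covBlock.all fun e => decide (e.2.1 < 3) && e.2.2.all (fun l => decide (l < 8)) &&
    Nat.beq (evA e.2.2 e.1 &&& mask0) (covReps.getD e.2.1 0) &&
    (List.range 20).all (fun b => Nat.beq ((2 ^ b) &&& mask0) (2 ^ b) ||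
      Nat.beq (evA e.2.2 (2 ^ b) &&& mask0) 0)) &&
    Nat.beq covBlock.length 64 && (List.range 64).all fun t => Nat.beq (covBlock.getD t (0, 0, [])).1
      ((t &&& 3) <<< 2 ^^^ ((t >>> 2) &&& 3) <<< 8 ^^^ ((t >>> 4) &&& 3) <<< 18)) = true := by decide +kernel

theorem pk_facts : ((List.range 20).all fun b => Nat.beq (unpk (pk (2 ^ b))) ((2 ^ b) &&& mask12) &&
    Nat.beq ((2 ^ b &&& 3) ^^^ (2 ^ b &&& mask0) ^^^ (2 ^ b &&& mask12)) (2 ^ b)) = true := by decide +kernel

theorem gen0_facts : genChk covGenW0 covGenC0 = true := by decide +kernel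

theorem root0_facts : (rootChk (covReps.getD 0 0) covWit0 && rootFour covWit0 &&
    Nat.beq (rootMask covWit0) covMask0_0) = true := by decide +kernel

theorem last0_facts : Nat.beq covMask0_8 (2 ^ 4096 - 1) = true := by decide +kernel

theorem edge0_0 : covChk (covReps.getD 0 0) covGenC0 covEdge0_0 covMask0_0 covMask0_1 = true := by
  decide +kernel

theorem edge0_1 : covChk (covReps.getD 0 0) covGenC0 covEdge0_1 covMask0_1 covMask0_2 = true := by
  decide +kernel

theorem edge0_2 : covChk (covReps.getD 0 0) covGenC0 covEdge0_2 covMask0_2 covMask0_3 = true := by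
  decide +kernel

theorem edge0_3 : covChk (covReps.getD 0 0) covGenC0 covEdge0_3 covMask0_3 covMask0_4 = true := by
  decide +kernel

theorem edge0_4 : covChk (covReps.getD 0 0) covGenC0 covEdge0_4 covMask0_4 covMask0_5 = true := by
  decide +kernel

theorem edge0_5 : covChk (covReps.getD 0 0) covGenC0 covEdge0_5 covMask0_5 covMask0_6 = true := by
  decide +kernel

theorem edge0_6 : covChk (covReps.getD 0 0) covGenC0 covEdge0_6 covMask0_6 covMask0_7 = true := by
  decide +kernel

theorem edge0_7 : covChk (covReps.getD 0 0) covGenC0 covEdge0_7 covMask0_7 covMask0_8 = true := by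
  decide +kernel

theorem gen1_facts : genChk covGenW1 covGenC1 = true := by decide +kernel

theorem root1_facts : (rootChk (covReps.getD 1 0) covWit1 && rootFour covWit1 &&
    Nat.beq (rootMask covWit1) covMask1_0) = true := by decide +kernel

theorem last1_facts : Nat.beq covMask1_8 (2 ^ 4096 - 1) = true := by decide +kernel

theorem edge1_0 : covChk (covReps.getD 1 0) covGenC1 covEdge1_0 covMask1_0 covMask1_1 = true := by
  decide +kernel

theorem edge1_1 : covChk (covReps.getD 1 0) covGenC1 covEdge1_1 covMask1_1 covMask1_2 = true := by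
  decide +kernel

theorem edge1_2 : covChk (covReps.getD 1 0) covGenC1 covEdge1_2 covMask1_2 covMask1_3 = true := by
  decide +kernel

theorem edge1_3 : covChk (covReps.getD 1 0) covGenC1 covEdge1_3 covMask1_3 covMask1_4 = true := by
  decide +kernel

theorem edge1_4 : covChk (covReps.getD 1 0) covGenC1 covEdge1_4 covMask1_4 covMask1_5 = true := by
  decide +kernel

theorem edge1_5 : covChk (covReps.getD 1 0) covGenC1 covEdge1_5 covMask1_5 covMask1_6 = true := by
  decide +kernel

theorem edge1_6 : covChk (covReps.getD 1 0) covGenC1 covEdge1_6 covMask1_6 covMask1_7 = true := by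
  decide +kernel

theorem edge1_7 : covChk (covReps.getD 1 0) covGenC1 covEdge1_7 covMask1_7 covMask1_8 = true := by
  decide +kernel

theorem gen2_facts : genChk covGenW2 covGenC2 = true := by decide +kernel

theorem root2_facts : (rootChk (covReps.getD 2 0) covWit2 && rootFour covWit2 &&
    Nat.beq (rootMask covWit2) covMask2_0) = true := by decide +kernel

theorem last2_facts : Nat.beq covMask2_8 (2 ^ 4096 - 1) = true := by decide +kernel

theorem edge2_0 : covChk (covReps.getD 2 0) covGenC2 covEdge2_0 covMask2_0 covMask2_1 = true := by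
  decide +kernel

theorem edge2_1 : covChk (covReps.getD 2 0) covGenC2 covEdge2_1 covMask2_1 covMask2_2 = true := by
  decide +kernel

theorem edge2_2 : covChk (covReps.getD 2 0) covGenC2 covEdge2_2 covMask2_2 covMask2_3 = true := by
  decide +kernel

theorem edge2_3 : covChk (covReps.getD 2 0) covGenC2 covEdge2_3 covMask2_3 covMask2_4 = true := by
  decide +kernel

theorem edge2_4 : covChk (covReps.getD 2 0) covGenC2 covEdge2_4 covMask2_4 covMask2_5 = true := by
  decide +kernel

theorem edge2_5 : covChk (covReps.getD 2 0) covGenC2 covEdge2_5 covMask2_5 covMask2_6 = true := by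
  decide +kernel

theorem edge2_6 : covChk (covReps.getD 2 0) covGenC2 covEdge2_6 covMask2_6 covMask2_7 = true := by
  decide +kernel

theorem edge2_7 : covChk (covReps.getD 2 0) covGenC2 covEdge2_7 covMask2_7 covMask2_8 = true := by
  decide +kernel

end Cfsg.Agent.U62Module
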