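/-
Every vector is fixed by an element of order three.

* `Fix3` : the property;
* `Base.fix3` : it holds for every vector.
-/
import Cfsg.Agent.Lib.U62Module.CoverCheck

set_option autoImplicit false
set_option maxRecDepth 4096

namespace Cfsg.Agent.U62Module

open Data Cfsg.Agent.U62Cover

namespace Rep

variable {V : Type*} [CommGroup V] (R : Rep V)

/-- Fixed by an element acting with order three. -/
def Fix3 (a : V) : Prop := ∃ g : U6, R.α g a = a ∧ R.α g ≠ 1 ∧ R.α g ^ 3 = 1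

theorem fix3_move {a : V} (h : R.Fix3 a) (k : U6) : R.Fix3 (R.α k a) := by
  obtain ⟨g, h1, h2, h3⟩ := h
  refine ⟨k * g * k⁻¹, ?_, ?_, ?_⟩
  · rw [map_mul, map_mul, map_inv, MulAut.mul_apply, MulAut.mul_apply, MulAut.inv_apply_self, h1]
  · rw [map_mul, map_mul, map_inv]
    exact fun e => h2 (conj_eq_one_iff.1 e)
  · rw [map_mul, map_mul, map_inv, conj_pow, h3, mul_one, mul_inv_cancel]

theorem fix3_back {a : V} {k : U6} (h : R.Fix3 (R.α k a)) : R.Fix3 a := by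
  have := R.fix3_move h k⁻¹
  rwa [map_inv, MulAut.inv_apply_self] at this

end Rep

theorem and_xor_left (a b c : ℕ) : a &&& (b ^^^ c) = (a &&& b) ^^^ (a &&& c) := Nat.and_xor_distrib_left

theorem unpk_pk {x : ℕ} (hx : x < 2 ^ 20) : unpk (pk x) = x &&& mask12 := by
  refine ext_unit (f := fun x => unpk (pk x)) (g := fun x => x &&& mask12) (fun a b => ?_)
    (fun a b => Nat.and_xor_distrib_right) (fun b hb => ?_) hx
  · show unpk (pk (a ^^^ b)) = unpk (pk a) ^^^ unpk (pk b)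
    simp only [pk, unpk, Nat.shiftRight_xor_distrib, Nat.and_xor_distrib_right, Nat.shiftLeft_xor_distrib]
    ac_rfl
  · have h := List.all_eq_true.1 pk_facts b (List.mem_range.2 hb)
    simp only [Bool.and_eq_true, Nat.beq_eq] at h
    exact h.1

theorem pk_lt (x : ℕ) : pk x < 4096 := by
  refine Nat.xor_lt_two_pow (n := 12) (lt_of_le_of_lt Nat.and_le_right (by norm_num)) ?_
  rw [Nat.shiftLeft_eq]
  have : (x >>> 10) &&& 255 ≤ 255 := Nat.and_le_right
  omega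

theorem three_parts {x : ℕ} (hx : x < 2 ^ 20) : (x &&& 3) ^^^ (x &&& mask0) ^^^ (x &&& mask12) = x := by
  refine ext_unit (f := fun x => (x &&& 3) ^^^ (x &&& mask0) ^^^ (x &&& mask12)) (g := id) (fun a b => ?_)
    (fun _ _ => rfl) (fun b hb => ?_) hx
  · simp only [Nat.and_xor_distrib_right]
    ac_rfl
  · have h := List.all_eq_true.1 pk_facts b (List.mem_range.2 hb)
    simp only [Bool.and_eq_true, Nat.beq_eq] at h
    exact h.2

theorem unpk_lt (i : ℕ) : unpk i < 2 ^ 20 := by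
  refine Nat.xor_lt_two_pow ?_ ?_ <;> rw [Nat.shiftLeft_eq]
  · have : i &&& 15 ≤ 15 := Nat.and_le_right
    omega
  · have : (i >>> 4) &&& 255 ≤ 255 := Nat.and_le_right
    omega

/-- The bits of the first block, from the digits. -/
def f3 (x : ℕ) : ℕ := g4 x 1 <<< 2 ^^^ g4 x 4 <<< 8 ^^^ g4 x 9 <<< 18

theorem f3_xor (u v : ℕ) : f3 (u ^^^ v) = f3 u ^^^ f3 v := by
  show g4 (u ^^^ v) 1 <<< 2 ^^^ g4 (u ^^^ v) 4 <<< 8 ^^^ g4 (u ^^^ v) 9 <<< 18 = _
  rw [g4_xor u v 1, g4_xor u v 4, g4_xor u v 9]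
  unfold f3
  generalize g4 u 1 = a, g4 u 4 = b, g4 u 9 = c, g4 v 1 = a', g4 v 4 = b', g4 v 9 = c'
  rw [Nat.shiftLeft_xor_distrib, Nat.shiftLeft_xor_distrib, Nat.shiftLeft_xor_distrib]
  ac_rfl

theorem f3_units : ∀ b < 20, f3 (2 ^ b) = 2 ^ b &&& mask0 := by decide +kernel

theorem f3_eq {x : ℕ} (hx : x < 2 ^ 20) : f3 x = x &&& mask0 :=
  ext_unit (g := fun x => x &&& mask0) f3_xor (fun _ _ => Nat.and_xor_distrib_right) f3_units hx

/-- The number of a value of the first block. -/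
def t3 (x : ℕ) : ℕ := g4 x 1 ^^^ g4 x 4 <<< 2 ^^^ g4 x 9 <<< 4

theorem digits3 : ∀ a b c : Fin 4, (a.val ^^^ b.val <<< 2 ^^^ c.val <<< 4) < 64 ∧
    (a.val ^^^ b.val <<< 2 ^^^ c.val <<< 4) &&& 3 = a.val ∧
    ((a.val ^^^ b.val <<< 2 ^^^ c.val <<< 4) >>> 2) &&& 3 = b.val ∧
    ((a.val ^^^ b.val <<< 2 ^^^ c.val <<< 4) >>> 4) &&& 3 = c.val := by decide +kernel

theorem t3_facts (x : ℕ) : t3 x < 64 ∧ t3 x &&& 3 = g4 x 1 ∧ (t3 x >>> 2) &&& 3 = g4 x 4 ∧ (t3 x >>> 4) &&& 3 = g4 x 9 :=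
  digits3 ⟨g4 x 1, g4_lt x 1⟩ ⟨g4 x 4, g4_lt x 4⟩ ⟨g4 x 9, g4_lt x 9⟩

theorem block_value {x : ℕ} (hx : x < 2 ^ 20) : ∃ t < 64, x &&& mask0 = (t &&& 3) <<< 2 ^^^
    ((t >>> 2) &&& 3) <<< 8 ^^^ ((t >>> 4) &&& 3) <<< 18 := by
  obtain ⟨h1, h2, h3, h4⟩ := t3_facts x
  refine ⟨t3 x, h1, ?_⟩
  simp only [h2, h3, h4]
  exact (f3_eq hx).symm

namespace Base

variable {V : Type*} [CommGroup V] [Finite V] {R : Rep V} (B : Base R)

theorem evA_acts {w : List ℕ} (hw : ∀ l ∈ w, l < 8) {x : ℕ} (hx : x < 2 ^ 20) :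
    R.α (wsu (wordA w)) (B.φ x) = B.φ (evA w x) ∧ evA w x < 2 ^ 20 := by
  rw [evA_eq hw hx]
  exact ⟨B.acts_all hw x hx, ev_lt (colsA_small hw) x⟩

/-- All the vectors over a point of a tree are fixed by elements of order three. -/
def Pt (r q : ℕ) : Prop := ∀ t < 4, R.Fix3 (B.φ (r ^^^ unpk q ^^^ t))

theorem seed_good {e : ℕ × ℕ × List ℕ} (he : e ∈ covSeeds) : e.1 < 2 ^ 20 ∧ R.Fix3 (B.φ e.1) := by
  have h := List.all_eq_true.1 seed_fix e he
  simp only [Bool.and_eq_true, decide_eq_true_eq, Nat.beq_eq, Bool.not_eq_true', ← Bool.not_eq_true,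
    List.all_eq_true] at h
  obtain ⟨⟨⟨⟨⟨hb, hx⟩, hw⟩, hfix⟩, hmove⟩, hcube⟩ := h
  refine ⟨hx, wsu (wordA e.2.2), ?_, ?_, ?_⟩
  · rw [(B.evA_acts hw hx).1, hfix]
  · intro e1
    have hu : (2 : ℕ) ^ e.2.1 < 2 ^ 20 := Nat.pow_lt_pow_right (by norm_num) hb
    obtain ⟨h1, h2⟩ := B.evA_acts hw hu
    rw [e1, MulAut.one_apply] at h1
    exact hmove (B.φ_inj h2 hu h1.symm)
  · have h3 : ∀ l ∈ e.2.2 ++ e.2.2 ++ e.2.2, l < 8 := fun l hl => by
      simp only [List.mem_append] at hl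
      exact hw l (hl.elim (fun h => h.elim id id) id)
    rw [← map_pow, show wsu (wordA e.2.2) ^ 3 = wsu (wordA (e.2.2 ++ e.2.2 ++ e.2.2)) by
      simp only [wordA, List.flatMap_append, wsu_append, pow_succ, pow_zero, one_mul],
      wsu_eq_one (wordA_iso h3) hcube, map_one]

theorem chk_good (r : ℕ) (hr : r < 2 ^ 20) (ws cs : List (List ℕ)) (hg : genChk ws cs = true) :
    ∀ (L : List ℕ) (m out : ℕ), covChk r cs L m out = true → (∀ q, m.testBit q = true → B.Pt r q) →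
      ∀ q, out.testBit q = true → B.Pt r q
  | [], m, out, h, hm, q, hq => hm q (by rw [Nat.eq_of_beq_eq_true h]; exact hq)
  | e :: L, m, out, h, hm, q, hq => by
    simp only [covChk, Bool.and_eq_true, Nat.ble_eq, Nat.blt_eq] at h
    obtain ⟨⟨⟨hp, hlt⟩, he⟩, hL⟩ := h
    refine chk_good r hr ws cs hg L _ out hL (fun y hy => ?_) q hq
    rw [Nat.testBit_or, Bool.or_eq_true] at hy
    rcases hy with hy | hy
    · exact hm y hy
    rw [Nat.one_shiftLeft, Nat.testBit_two_pow, decide_eq_true_eq] at hy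
    subst hy
    set p := (e >>> 12) &&& 4095
    set C := cs.getD (e >>> 24) [] with hC
    intro t ht
    simp only [genChk, Bool.and_eq_true, Nat.beq_eq, List.all_eq_true, decide_eq_true_eq] at hg
    obtain ⟨hlen, hg⟩ := hg
    have hi : e >>> 24 < ws.length := hlen.symm ▸ hlt
    obtain ⟨⟨hw, hwc⟩, hs⟩ := hg _ (List.mem_range.2 hi)
    have hwc' : colsA (ws.getD (e >>> 24) []) = C := (colsT_eq hw).symm.trans (eq_of_beq hwc)
    set d := ev C (r ^^^ unpk p) ^^^ (r ^^^ unpk (e &&& 4095)) with hd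
    obtain ⟨c, hc, hct⟩ := List.any_eq_true.1 (hs (d ^^^ t) (List.mem_range.2
      (Nat.xor_lt_two_pow (n := 2) (Nat.lt_succ_of_le he) ht)))
    rw [List.mem_range] at hc
    rw [Nat.beq_eq, ← hC] at hct
    have hx : r ^^^ unpk p ^^^ c < 2 ^ 20 := Nat.xor_lt_two_pow (Nat.xor_lt_two_pow hr (unpk_lt p)) (by omega)
    have hrich := R.fix3_move (hm p hp c hc) (wsu (wordA (ws.getD (e >>> 24) [])))
    rw [B.acts_all hw _ hx, hwc', ev_xor, hct, hd] at hrich
    have key : ∀ a b u : ℕ, a ^^^ (a ^^^ b ^^^ u) = b ^^^ u := fun a b u => by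
      rw [← Nat.xor_assoc, ← Nat.xor_assoc, Nat.xor_self, Nat.zero_xor]
    rw [key] at hrich
    exact hrich

theorem rootFour_mem : ∀ (L : List (ℕ × ℕ × ℕ × List ℕ)) (m q : ℕ), rootFour L = true →
    (L.foldl (fun m e => if Nat.beq e.2.1 0 then m ||| 1 <<< e.1 else m) m).testBit q = true →
      m.testBit q = true ∨ ∀ t < 4, ∃ e ∈ L, e.1 = q ∧ e.2.1 = t
  | [], _, _, _, h => Or.inl h
  | [_], _, _, h, _ => absurd h (by simp [rootFour])
  | [_, _], _, _, h, _ => absurd h (by simp [rootFour])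
  | [_, _, _], _, _, h, _ => absurd h (by simp [rootFour])
  | a :: b :: c :: d :: L, m, q, h, hq => by
    simp only [rootFour, Bool.and_eq_true, Nat.beq_eq] at h
    obtain ⟨⟨⟨⟨⟨⟨⟨a0, b1⟩, c2⟩, d3⟩, hb⟩, hc⟩, hd⟩, hL⟩ := h
    simp only [List.foldl_cons, a0, b1, c2, d3, show Nat.beq 0 0 = true from rfl,
      show Nat.beq 1 0 = false from rfl, show Nat.beq 2 0 = false from rfl, show Nat.beq 3 0 = false from rfl,
      Bool.false_eq_true, if_true, if_false] at hq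
    rcases rootFour_mem L _ q hL hq with hm | hm
    · rw [Nat.testBit_or, Bool.or_eq_true] at hm
      rcases hm with hm | hm
      · exact Or.inl hm
      · rw [Nat.one_shiftLeft, Nat.testBit_two_pow, decide_eq_true_eq] at hm
        refine Or.inr fun t ht => ?_
        interval_cases t
        · exact ⟨a, by simp, hm, a0⟩
        · exact ⟨b, by simp, hb.trans hm, b1⟩
        · exact ⟨c, by simp, hc.trans hm, c2⟩
        · exact ⟨d, by simp, hd.trans hm, d3⟩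
    · refine Or.inr fun t ht => ?_
      obtain ⟨e, he, h'⟩ := hm t ht
      exact ⟨e, by simp [he], h'⟩

theorem roots_good (r : ℕ) (L : List (ℕ × ℕ × ℕ × List ℕ)) (m : ℕ)
    (h : (rootChk r L && rootFour L && Nat.beq (rootMask L) m) = true) :
    ∀ q, m.testBit q = true → B.Pt r q := by
  simp only [Bool.and_eq_true, Nat.beq_eq] at h
  obtain ⟨⟨hchk, hfour⟩, hm⟩ := h
  intro q hq
  rw [← hm] at hq
  rcases rootFour_mem L 0 q hfour hq with hz | hall
  · simp at hz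
  intro t ht
  obtain ⟨e, he, hq', ht'⟩ := hall t ht
  have h := List.all_eq_true.1 hchk e he
  simp only [Bool.and_eq_true, decide_eq_true_eq, Nat.beq_eq, List.all_eq_true, hq', ht'] at h
  obtain ⟨⟨hs, hw⟩, hev⟩ := h
  have hlen : covSeeds.length = 6 := by decide +kernel
  have hmem : covSeeds.getD e.2.2.1 (0, 0, []) ∈ covSeeds := by
    rw [List.getD_eq_getElem _ _ (hlen.symm ▸ hs)]
    exact List.getElem_mem _
  obtain ⟨hsl, hsg⟩ := B.seed_good hmem
  have := R.fix3_move hsg (wsu (wordA e.2.2.2))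
  rwa [(B.evA_acts hw hsl).1, hev] at this

theorem rep_good {k : ℕ} (hk : k < 3) {q : ℕ} (hq : q < 4096) : B.Pt (covReps.getD k 0) q := by
  have hfull : ((2 : ℕ) ^ 4096 - 1).testBit q = true := by
    rw [Nat.testBit_two_pow_sub_one]; exact decide_eq_true hq
  have hr : ∀ k < 3, covReps.getD k 0 < 2 ^ 20 := by decide
  have hk' := hr k hk
  interval_cases k
  · refine B.chk_good _ hk' _ _ gen0_facts _ _ _ edge0_7 (B.chk_good _ hk' _ _ gen0_facts _ _ _ edge0_6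
      (B.chk_good _ hk' _ _ gen0_facts _ _ _ edge0_5 (B.chk_good _ hk' _ _ gen0_facts _ _ _ edge0_4
      (B.chk_good _ hk' _ _ gen0_facts _ _ _ edge0_3 (B.chk_good _ hk' _ _ gen0_facts _ _ _ edge0_2
      (B.chk_good _ hk' _ _ gen0_facts _ _ _ edge0_1 (B.chk_good _ hk' _ _ gen0_facts _ _ _ edge0_0
      (B.roots_good _ _ _ root0_facts)))))))) q ?_
    rw [Nat.eq_of_beq_eq_true last0_facts]; exact hfull
  · refine B.chk_good _ hk' _ _ gen1_facts _ _ _ edge1_7 (B.chk_good _ hk' _ _ gen1_facts _ _ _ edge1_6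
      (B.chk_good _ hk' _ _ gen1_facts _ _ _ edge1_5 (B.chk_good _ hk' _ _ gen1_facts _ _ _ edge1_4
      (B.chk_good _ hk' _ _ gen1_facts _ _ _ edge1_3 (B.chk_good _ hk' _ _ gen1_facts _ _ _ edge1_2
      (B.chk_good _ hk' _ _ gen1_facts _ _ _ edge1_1 (B.chk_good _ hk' _ _ gen1_facts _ _ _ edge1_0
      (B.roots_good _ _ _ root1_facts)))))))) q ?_
    rw [Nat.eq_of_beq_eq_true last1_facts]; exact hfull
  · refine B.chk_good _ hk' _ _ gen2_facts _ _ _ edge2_7 (B.chk_good _ hk' _ _ gen2_facts _ _ _ edge2_6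
      (B.chk_good _ hk' _ _ gen2_facts _ _ _ edge2_5 (B.chk_good _ hk' _ _ gen2_facts _ _ _ edge2_4
      (B.chk_good _ hk' _ _ gen2_facts _ _ _ edge2_3 (B.chk_good _ hk' _ _ gen2_facts _ _ _ edge2_2
      (B.chk_good _ hk' _ _ gen2_facts _ _ _ edge2_1 (B.chk_good _ hk' _ _ gen2_facts _ _ _ edge2_0
      (B.roots_good _ _ _ root2_facts)))))))) q ?_
    rw [Nat.eq_of_beq_eq_true last2_facts]; exact hfull

include B in
/-- Every vector is fixed by an element of order three. -/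
theorem fix3 (a : V) : R.Fix3 a := by
  obtain ⟨x, hx, rfl⟩ := B.φ_surj a
  obtain ⟨t, ht, htx⟩ := block_value hx
  have hbf := block_facts
  simp only [Bool.and_eq_true, Nat.beq_eq, List.all_eq_true, decide_eq_true_eq, Bool.or_eq_true] at hbf
  obtain ⟨⟨hall, hlen⟩, hidx⟩ := hbf
  have hmem : covBlock.getD t (0, 0, []) ∈ covBlock := by
    rw [List.getD_eq_getElem _ _ (hlen.symm ▸ ht)]
    exact List.getElem_mem _
  set e := covBlock.getD t (0, 0, []) with he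
  obtain ⟨⟨⟨hk, hw⟩, hrep⟩, hpres⟩ := hall e hmem
  have hU : e.1 = x &&& mask0 := by rw [htx]; exact hidx t (List.mem_range.2 ht)
  obtain ⟨hact, hylt⟩ := B.evA_acts hw hx
  set y := evA e.2.2 x with hy
  have hzero : ∀ z < 2 ^ 20, evA e.2.2 (z ^^^ (z &&& mask0)) &&& mask0 = 0 := by
    intro z hz
    rw [evA_eq hw (Nat.xor_lt_two_pow hz (lt_of_le_of_lt Nat.and_le_left hz))]
    refine ext_unit (f := fun z => ev (colsA e.2.2) (z ^^^ (z &&& mask0)) &&& mask0) (g := fun _ => 0)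
      (fun a b => ?_) (fun _ _ => rfl) (fun b hb => ?_) hz
    · simp only [Nat.and_xor_distrib_right, ev_xor]
      ac_rfl
    · show ev (colsA e.2.2) (2 ^ b ^^^ (2 ^ b &&& mask0)) &&& mask0 = 0
      have hb2 : (2 : ℕ) ^ b < 2 ^ 20 := Nat.pow_lt_pow_right (by norm_num) hb
      rcases hpres b (List.mem_range.2 hb) with h1 | h1
      · rw [h1, Nat.xor_self, ev_zero, Nat.zero_and]
      · have h0 : 2 ^ b &&& mask0 = 0 ∨ 2 ^ b &&& mask0 = 2 ^ b := by
          rw [Nat.two_pow_and]; cases mask0.testBit b <;> simp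
        rcases h0 with h2 | h2
        · rw [h2, Nat.xor_zero, ← evA_eq hw hb2, h1]
        · rw [h2, Nat.xor_self, ev_zero, Nat.zero_and]
  have hyr : y &&& mask0 = covReps.getD e.2.1 0 := by
    have hsplit : x = e.1 ^^^ (x ^^^ (x &&& mask0)) := by
      rw [hU, Nat.xor_comm x (x &&& mask0), ← Nat.xor_assoc, Nat.xor_self, Nat.zero_xor]
    have he1 : e.1 < 2 ^ 20 := hU ▸ lt_of_le_of_lt Nat.and_le_left hx
    have hz : x ^^^ (x &&& mask0) < 2 ^ 20 := Nat.xor_lt_two_pow hx (lt_of_le_of_lt Nat.and_le_left hx)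
    rw [hy, evA_eq hw hx]
    conv_lhs => rw [hsplit, ev_xor, Nat.and_xor_distrib_right]
    rw [← evA_eq hw he1, ← evA_eq hw hz, hrep, hzero x hx, Nat.xor_zero]
  refine R.fix3_back (k := wsu (wordA e.2.2)) ?_
  rw [hact]
  have hp := B.rep_good hk (pk_lt y) (y &&& 3) (Nat.lt_succ_of_le Nat.and_le_right)
  rwa [unpk_pk hylt, ← hyr, Nat.xor_comm, ← Nat.xor_assoc, three_parts hylt] at hp

end Base

end Cfsg.Agent.U62Module
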