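/-
The seven transvections generate SU(6,2).

* `centre_surj` : every vector is the vector of a row;
* `vapp`, `ptCheck` : the orbit of the centres;
* `exists_word` : every element is the element of a word in the seven letters.
-/
import Cfsg.Agent.Lib.U62Module.Extra
import Cfsg.Agent.Lib.U62Module.DataGen

set_option autoImplicit false

namespace Cfsg.Agent.U62Module

open Data Cfsg.Agent.U62Cover Cfsg.Agent.ThreeTransSU
open scoped Matrix

theorem k4_surj : ∀ x : K, ∃ a : Fin 4, k4 a.val = x := by decide +kernel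

theorem centre_mod (v : ℕ) : centre (v % 4096) = centre v := by
  funext i
  show k4 (g4 (v % 4096) i.val) = k4 (g4 v i.val)
  rw [g4_mod]

theorem centre_surj (f : Fin 6 → K) : ∃ v < 4096, centre v = f := by
  choose a ha using fun i => k4_surj (f i)
  refine ⟨((a 0).val <<< 0 ^^^ (a 1).val <<< 2 ^^^ (a 2).val <<< 4 ^^^ (a 3).val <<< 6 ^^^ (a 4).val <<< 8 ^^^
    (a 5).val <<< 10) % 4096, Nat.mod_lt _ (by norm_num), ?_⟩
  rw [centre_mod]
  funext j
  have hs : ∀ i : Fin 6, g4 ((a i).val <<< (2 * i.val)) j.val = if i = j then (a i).val else 0 :=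
    fun i => g4_shift (a i).isLt i j
  have h0 := hs 0; have h1 := hs 1; have h2 := hs 2; have h3 := hs 3; have h4 := hs 4; have h5 := hs 5
  norm_num at h0 h1 h2 h3 h4 h5
  show k4 (g4 _ j.val) = f j
  simp only [g4_xor, Nat.shiftLeft_zero, h0, h1, h2, h3, h4, h5]
  rw [← ha j]
  fin_cases j <;> simp

theorem centre_smul {a : ℕ} (ha : a < 4) (v : ℕ) : centre (smulRow a v) = k4 a • centre v := by
  funext i
  show k4 (g4 (smulRow a v) i.val) = k4 a * k4 (g4 v i.val)
  rw [g4_smulRow ha, k4_mul ha (g4_lt _ _)]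

theorem centre_xor (u v : ℕ) : centre (u ^^^ v) = centre u + centre v := by
  funext i
  show k4 (g4 (u ^^^ v) i.val) = k4 (g4 u i.val) + k4 (g4 v i.val)
  rw [g4_xor, k4_xor (g4_lt _ _) (g4_lt _ _)]

theorem centre_zero : centre 0 = 0 := by
  funext i; simp [centre, g4, k4]; rfl

theorem k4_inj : ∀ a b : Fin 4, k4 a.val = k4 b.val → a = b := by decide +kernel

/-- The product of two vectors. -/
def form (x v : ℕ) : ℕ :=
  m4 (g4 x 0) (c4 (g4 v 0)) ^^^ m4 (g4 x 1) (c4 (g4 v 1)) ^^^ m4 (g4 x 2) (c4 (g4 v 2)) ^^^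
    m4 (g4 x 3) (c4 (g4 v 3)) ^^^ m4 (g4 x 4) (c4 (g4 v 4)) ^^^ m4 (g4 x 5) (c4 (g4 v 5))

theorem xor_lt_four {a b : ℕ} (ha : a < 4) (hb : b < 4) : a ^^^ b < 4 :=
  Nat.xor_lt_two_pow (n := 2) ha hb

theorem form_lt (x v : ℕ) : form x v < 4 := by
  repeat' apply xor_lt_four
  all_goals exact m4_lt _ _

theorem form_spec (x v : ℕ) : k4 (form x v) = hf (centre x) (centre v) := by
  unfold form
  repeat rw [k4_xor]
  · simp only [k4_mul (g4_lt _ _) (c4_lt _), k4_sq (g4_lt _ _)]
    show _ = ∑ i : Fin 6, _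
    rw [Fin.sum_univ_six]
    rfl
  all_goals (repeat' apply xor_lt_four)
  all_goals exact m4_lt _ _

theorem iso_eq (v : ℕ) : iso v = Nat.beq (form v v) 0 := rfl

theorem iso_of_hf {v : ℕ} (h : hf (centre v) (centre v) = 0) : iso v = true := by
  rw [iso_eq, Nat.beq_eq]
  rw [← form_spec] at h
  exact congrArg Fin.val (k4_inj ⟨_, form_lt v v⟩ 0 h)

/-- A transvection applied to a vector. -/
def vapp (c p : ℕ) : ℕ := p ^^^ smulRow (form p c) c

theorem act_vapp {c : ℕ} (hc : iso c = true) (p : ℕ) :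
    act (tv cardK (centre c)) (centre p) = centre (vapp c p) := by
  rw [act_tv cardK (iso_spec hc), vapp, centre_xor, centre_smul (form_lt _ _), form_spec]

/-- Each point is obtained from an earlier one. -/
def ptCheck : List (ℕ × ℕ × ℕ) → ℕ → Bool
  | [], m => Nat.beq m ptBits
  | e :: L, m => m.testBit e.1 && Nat.beq e.2.2 (vapp (genc e.2.1) e.1) && ptCheck L (m ||| 1 <<< e.2.2)

theorem check_facts : ptCheck ptSteps (gens.foldl (fun m p => m ||| 1 <<< p) 0) = true := by decide +kernel

theorem cover_facts : ((List.range 4096).all fun v => Nat.beq v 0 || !(iso v) ||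
    [1, 2, 3].any fun a => ptBits.testBit (smulRow a v)) = true := by decide +kernel

theorem mem_of_mask : ∀ (L : List ℕ) (m x : ℕ), (L.foldl (fun m p => m ||| 1 <<< p) m).testBit x = true →
    m.testBit x = true ∨ x ∈ L
  | [], _, _, h => Or.inl h
  | p :: L, m, x, h => by
    rcases mem_of_mask L _ x h with h1 | h1
    · rw [Nat.testBit_or, Bool.or_eq_true] at h1
      rcases h1 with h2 | h2
      · exact Or.inl h2
      · refine Or.inr ?_
        rw [Nat.one_shiftLeft, Nat.testBit_two_pow, decide_eq_true_eq] at h2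
        rw [← h2]
        exact List.mem_cons_self
    · exact Or.inr (List.mem_cons_of_mem _ h1)

/-- The elements of words in the seven letters. -/
noncomputable def wordGroup : Subgroup U6 where
  carrier := {g | ∃ w : List ℕ, (∀ l ∈ w, l < 7) ∧ g = wsu (wordA w)}
  one_mem' := ⟨[], by simp, rfl⟩
  mul_mem' := by
    rintro a b ⟨u, hu, rfl⟩ ⟨w, hw, rfl⟩
    refine ⟨u ++ w, fun l hl => (List.mem_append.1 hl).elim (hu l) (hw l), ?_⟩
    rw [wordA, wordA, wordA, List.flatMap_append, wsu_append]
  inv_mem' := by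
    rintro a ⟨w, hw, rfl⟩
    refine ⟨w.reverse, fun l hl => hw l (List.mem_reverse.1 hl), ?_⟩
    rw [wsu_reverse _ (wordA_iso fun l hl => (hw l hl).trans (by norm_num))]
    congr 1
    have : ∀ {u : List ℕ}, (∀ l ∈ u, l < 7) → wordA u = u.map genc := by
      intro u
      induction u with
      | nil => intro _; rfl
      | cons l u ih =>
        intro hu
        have hl : l ≠ 7 := (hu l List.mem_cons_self).ne
        rw [wordA, List.flatMap_cons, ← wordA, ih fun m hm => hu m (List.mem_cons_of_mem _ hm), letterW]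
        simp [hl]
    rw [this hw, this fun l hl => hw l (List.mem_reverse.1 hl), List.map_reverse]

theorem tv_zero : tv cardK (0 : Fin 6 → K) = 1 :=
  act_ext fun x => by rw [act_tv cardK (by simp [hf, Cfsg.hermForm]), act_one, smul_zero, add_zero]

theorem zero_good : iso 0 = true ∧ tv cardK (centre 0) ∈ wordGroup :=
  ⟨by decide, by rw [centre_zero, tv_zero]; exact one_mem _⟩

theorem genc_good (k : ℕ) : iso (genc k) = true ∧ tv cardK (centre (genc k)) ∈ wordGroup := by
  by_cases hk : k < 7
  · have hW : letterW k = [genc k] := by simp [letterW, hk.ne]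
    refine ⟨?_, [k], by simpa using hk, ?_⟩
    · simpa [hW] using letterW_iso (show k < 8 by omega)
    · rw [wordA, List.flatMap_singleton, hW, wsu_cons, wsu_nil, mul_one]
  · rw [genc, List.getD_eq_default _ _ (by simpa [gens] using hk)]
    exact zero_good

/-- A point whose transvection is a word. -/
def Good (p : ℕ) : Prop := iso p = true ∧ tv cardK (centre p) ∈ wordGroup

theorem check_good : ∀ (L : List (ℕ × ℕ × ℕ)) (m : ℕ), ptCheck L m = true →
    (∀ x, m.testBit x = true → Good x) → ∀ x, ptBits.testBit x = true → Good x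
  | [], m, h, hm, x, hx => hm x (by rw [Nat.eq_of_beq_eq_true h]; exact hx)
  | e :: L, m, h, hm, x, hx => by
    simp only [ptCheck, Bool.and_eq_true, Nat.beq_eq] at h
    obtain ⟨⟨hp, he⟩, hL⟩ := h
    refine check_good L _ hL (fun y hy => ?_) x hx
    rw [Nat.testBit_or, Bool.or_eq_true] at hy
    rcases hy with hy | hy
    · exact hm y hy
    rw [Nat.one_shiftLeft, Nat.testBit_two_pow, decide_eq_true_eq] at hy
    obtain ⟨hq, hqg⟩ := hm _ hp
    obtain ⟨hc, hcg⟩ := genc_good e.2.1
    rw [← hy, he]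
    refine ⟨iso_of_hf ?_, ?_⟩
    · rw [← act_vapp hc, act_hf]; exact iso_spec hq
    · rw [← act_vapp hc, ← tv_conj_inv cardK _ (iso_spec hq)]
      exact mul_mem (mul_mem hcg hqg) (inv_mem hcg)

theorem pts_good {x : ℕ} (hx : ptBits.testBit x = true) : Good x := by
  refine check_good ptSteps _ check_facts (fun y hy => ?_) x hx
  rcases mem_of_mask gens 0 y hy with hy | hy
  · simp at hy
  · obtain ⟨k, hk, hke⟩ := List.getElem_of_mem hy
    have h := genc_good k
    rw [genc, List.getD_eq_getElem _ _ hk, hke] at h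
    exact h

/-- Every element is the element of a word in the seven letters. -/
theorem exists_word (g : U6) : ∃ w : List ℕ, (∀ l ∈ w, l < 7) ∧ g = wsu (wordA w) := by
  suffices h : g ∈ wordGroup from h
  have htop : (⊤ : Subgroup U6) ≤ wordGroup := by
    rw [← closure_tv cardK (show 4 ≤ 6 by norm_num), Subgroup.closure_le]
    rintro A ⟨f, hf', rfl⟩
    obtain ⟨v, hv, rfl⟩ := centre_surj f
    have h := List.all_eq_true.1 cover_facts v (List.mem_range.2 hv)
    have hv0 : v ≠ 0 := fun h0 => hf'.1 (h0 ▸ centre_zero)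
    simp only [Bool.or_eq_true, Nat.beq_eq, hv0, iso_of_hf hf'.2, Bool.not_true, Bool.false_eq_true,
      false_or, List.any_eq_true] at h
    obtain ⟨a, ha, hb⟩ := h
    have ha4 : a < 4 ∧ a ≠ 0 := by simp only [List.mem_cons, List.not_mem_nil, or_false] at ha; omega
    have := (pts_good hb).2
    rwa [centre_smul ha4.1, tv_smul cardK hf'] at this
    exact fun h0 => ha4.2 (congrArg Fin.val (k4_inj ⟨a, ha4.1⟩ 0 h0))
  exact htop (Subgroup.mem_top g)

theorem Base.exists_acts {V : Type*} [CommGroup V] [Finite V] {R : Rep V} (B : Base R) (g : U6) :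
    ∃ w : List ℕ, (∀ l ∈ w, l < 7) ∧ B.Acts g (colsA w) := by
  obtain ⟨w, hw, rfl⟩ := exists_word g
  exact ⟨w, hw, B.acts_all fun l hl => (hw l hl).trans (by norm_num)⟩

end Cfsg.Agent.U62Module
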