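/-
The three classes of inner involutions.

* `caseWord`, `invRep` : the representatives;
* `toPSU_class` : every involution of PSU(6,2) is conjugate to one of them;
* `Rep.inner_class` : every element acting as an involution acts as a conjugate of one of them.
-/
import Cfsg.Agent.Lib.U62Module.Gen
import Cfsg.Agent.Lib.U62Module.DataInv
import Cfsg.Agent.Lib.U62Base.Base

set_option autoImplicit false

namespace Cfsg.Agent.U62Module

open Data Cfsg.Agent.Unitary Cfsg.Agent.U62Cover Cfsg.Agent.ThreeTransSU Cfsg.Agent.U62Base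

/-- The word of a class. -/
def caseWord : ℕ → List ℕ
  | 0 => caseAWord
  | 1 => caseBWord
  | _ => caseCWord

/-- The representative of a class. -/
noncomputable def invRep (n : ℕ) : U6 := wsu (wordA (caseWord n))

theorem invRep_eq : invRep 0 = tv cardK (centre 5) ∧
    invRep 1 = tv cardK (centre 5) * tv cardK (centre 80) ∧
    invRep 2 = tv cardK (centre 5) * tv cardK (centre 80) * tv cardK (centre 1280) := by
  refine ⟨?_, ?_, ?_⟩
  · show wsu [5] = _; rw [wsu_cons, wsu_nil, mul_one]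
  · show wsu [5, 80] = _; rw [wsu_cons, wsu_cons, wsu_nil, mul_one]
  · show wsu [5, 80, 1280] = _; rw [wsu_cons, wsu_cons, wsu_cons, wsu_nil, mul_one, mul_assoc]

theorem frame_rep : Frame3 ![centre 5, centre 80, centre 1280] := by
  refine ⟨?_, ?_⟩
  · rw [Fintype.linearIndependent_iff]
    intro g hg
    rw [Fin.sum_univ_three] at hg
    have h0 := congrFun hg 0
    have h2 := congrFun hg 2
    have h4 := congrFun hg 4
    simp [centre, g4, k4] at h0 h2 h4
    have z : (SU32.K4.z : K) = 0 := rfl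
    have o : (SU32.K4.o : K) = 1 := rfl
    rw [z, o, mul_one, mul_zero, mul_zero, add_zero, add_zero] at h0
    rw [z, o, mul_zero, mul_one, mul_zero, zero_add, add_zero] at h2
    rw [z, o, mul_zero, mul_zero, mul_one, zero_add, zero_add] at h4
    intro i; fin_cases i
    exacts [h0, h2, h4]
  · intro i j
    have h : ∀ a ∈ [5, 80, 1280], ∀ b ∈ [5, 80, 1280], form a b = 0 := by decide
    have e : ∀ a b : ℕ, form a b = 0 → hf (centre a) (centre b) = 0 := fun a b hab => by
      rw [← form_spec, hab]; rfl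
    fin_cases i <;> fin_cases j <;> exact e _ _ (h _ (by simp) _ (by simp))

theorem toPSU_class {x : Cfsg.PSU 6 K 2} (hx : x * x = 1) (h1 : x ≠ 1) :
    ∃ n < 3, ∃ k : U6, x = toPSU 6 K (k * invRep n * k⁻¹) := by
  obtain ⟨W, P, hW⟩ := involution_plane cardK hx
  obtain ⟨e0, e1, e2⟩ := invRep_eq
  have hr := frame_rep
  have i0 : Iso (centre 5) := hr.iso 0
  have i1 : Iso (centre 80) := hr.iso 1
  have i2 : Iso (centre 1280) := hr.iso 2
  have hp : OrthPair (centre 5) (centre 80) := hr.pair (show (0 : Fin 3) ≠ 1 by decide)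
  rcases spanW_cases cardK P hW with h | ⟨v, hv, hv0, rfl⟩ | ⟨u, w, -, -, hp', rfl⟩ | ⟨u, hu, -, rfl⟩
  · exact absurd h h1
  · obtain ⟨g, hg⟩ := exists_act cardK (by norm_num) i0 (P.iso_of_mem hv hv0)
    refine ⟨0, by norm_num, g, ?_⟩
    rw [e0, map_mul, map_mul, map_inv]
    exact ((tau_conj cardK g i0).trans (by rw [hg])).symm
  · obtain ⟨g, g0, g1⟩ := exists_act_two cardK (by norm_num) hp hp'
    refine ⟨1, by norm_num, g, ?_⟩
    rw [e1, ← conj_mul, map_mul, map_mul, map_mul, map_mul, map_mul, map_inv]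
    show _ = toPSU 6 K g * tau cardK (centre 5) * (toPSU 6 K g)⁻¹ *
      (toPSU 6 K g * tau cardK (centre 80) * (toPSU 6 K g)⁻¹)
    rw [tau_conj cardK g i0, tau_conj cardK g i1, g0, g1]
  · obtain ⟨g, c, hc, g0, g1, g2⟩ := exists_act_three cardK hr hu
    refine ⟨2, by norm_num, g, ?_⟩
    simp only [Matrix.cons_val_zero, Matrix.cons_val_one, Matrix.cons_val] at g0 g1 g2
    rw [e2, ← conj_mul, ← conj_mul]
    simp only [map_mul, map_inv]
    show _ = toPSU 6 K g * tau cardK (centre 5) * (toPSU 6 K g)⁻¹ *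
      (toPSU 6 K g * tau cardK (centre 80) * (toPSU 6 K g)⁻¹) *
      (toPSU 6 K g * tau cardK (centre 1280) * (toPSU 6 K g)⁻¹)
    rw [tau_conj cardK g i0, tau_conj cardK g i1, tau_conj cardK g i2, g0, g1, g2,
      tau_smul cardK (hu.iso 2) hc]

namespace Rep

variable {V : Type*} [CommGroup V] (R : Rep V)

theorem α_eq {g h : U6} (e : toPSU 6 K g = toPSU 6 K h) : R.α g = R.α h := by
  have : R.α (g⁻¹ * h) = 1 := (R.ker _).2 (toPSU_eq_one.1 (by rw [map_mul, map_inv, e, inv_mul_cancel]))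
  rw [map_mul, map_inv, inv_mul_eq_one] at this
  exact this

theorem α_eq_one {g : U6} : R.α g = 1 ↔ toPSU 6 K g = 1 := (R.ker g).trans toPSU_eq_one.symm

theorem inner_class {g : U6} (h2 : R.α g * R.α g = 1) (h1 : R.α g ≠ 1) :
    ∃ n < 3, ∃ k : U6, R.α g = R.α k * R.α (invRep n) * (R.α k)⁻¹ := by
  obtain ⟨n, hn, k, hk⟩ := toPSU_class (x := toPSU 6 K g)
    (by rw [← map_mul, ← R.α_eq_one, map_mul, h2]) (fun e => h1 (R.α_eq_one.2 e))
  exact ⟨n, hn, k, (R.α_eq hk).trans (by rw [map_mul, map_mul, map_inv])⟩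

end Rep

end Cfsg.Agent.U62Module
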