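/-
The checks for the involutions.

* `dlt` : the commutator with an involution given by columns;
* `invA` ... `invT` : the checks for the five cases.
-/
import Cfsg.Agent.Lib.U62Module.CoverCheck
import Cfsg.Agent.Lib.U62Module.DataInv
import Cfsg.Agent.Lib.U62Module.DataOrbit

set_option autoImplicit false
set_option maxRecDepth 4096

namespace Cfsg.Agent.U62Module

open Data

/-- The commutator with a map. -/
def dlt (C : List ℕ) (x : ℕ) : ℕ := ev C x ^^^ x

/-- The decomposition along representatives and commutators. -/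
def splitChk (C P Q R : List ℕ) (s n : ℕ) : Bool :=
  Q.all (fun c => decide (c < 2 ^ 20)) && P.all (fun c => Nat.beq (c &&& ((2 ^ n - 1) <<< s)) c) &&
    (List.range 20).all fun b => Nat.beq (2 ^ b) (ev P (2 ^ b) ^^^ dlt C (ev Q (2 ^ b)) ^^^ ev R (dlt C (2 ^ b)))

/-- One element of order three commuting with the involution. -/
def elemChk (C M : List ℕ) : Bool :=
  (List.range 20).all (fun b => Nat.beq (ev M (ev C (2 ^ b))) (ev C (ev M (2 ^ b))) &&
    Nat.beq (ev M (ev M (ev M (2 ^ b)))) (2 ^ b)) &&
    (List.range 20).any fun b => !(Nat.beq (ev M (2 ^ b)) (2 ^ b))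

/-- The elements of order three. -/
def elemsChk (C : List ℕ) (X : List (List ℕ)) : Bool :=
  X.all fun w => w.all (fun l => decide (l < 8)) && elemChk C (colsT w)

/-- The witnesses. -/
def witChk (C : List ℕ) (X : List (List ℕ)) (L : List (ℕ × ℕ × ℕ)) : Bool :=
  L.all fun e => decide (e.2.2 < X.length) && decide (e.2.1 < 2 ^ 20) &&
    Nat.beq (evA (X.getD e.2.2 []) (e.1 ^^^ dlt C e.2.1)) (e.1 ^^^ dlt C e.2.1)

/-- Every representative is a witness or exceptional. -/
def allChk (s n : ℕ) (L : List (ℕ × ℕ × ℕ)) (bd : List (ℕ × List ℕ × ℕ)) : Bool :=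
  (List.range (2 ^ n)).all fun t => L.any (fun e => Nat.beq e.1 (t <<< s)) || bd.any fun e => Nat.beq e.1 (t <<< s)

/-- All checks of one case. -/
def invChk (C P Q R : List ℕ) (s n : ℕ) (X : List (List ℕ)) (L : List (ℕ × ℕ × ℕ))
    (bd : List (ℕ × List ℕ × ℕ)) : Bool :=
  C.all (fun c => decide (c < 2 ^ 20)) && splitChk C P Q R s n && elemsChk C X && witChk C X L && allChk s n L bd

/-- The map of the first case. -/
def colsCA : List ℕ := colsT caseAWord

/-- The map of the second case. -/
def colsCB : List ℕ := colsT caseBWord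

/-- The map of the third case. -/
def colsCC : List ℕ := colsT caseCWord

/-- The map of the last case. -/
def colsCT : List ℕ := comp (colsT caseTWord) sigC

theorem invA : invChk colsCA caseAP caseAQ caseAR 0 8 caseAX caseAWit [] = true := by decide +kernel

theorem invB : invChk colsCB caseBP caseBQ caseBR 4 4 caseBX caseBWit bad = true := by decide +kernel

theorem invC : invChk colsCC caseCP caseCQ caseCR 0 0 caseCX caseCWit [] = true := by decide +kernel

theorem invS : invChk sigC caseSP caseSQ caseSR 0 0 caseSX caseSWit [] = true := by decide +kernel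

theorem invT : invChk colsCT caseTP caseTQ caseTR 10 8 caseTX caseTWit [] = true := by decide +kernel

theorem bad_facts : (bad.all fun e => e.2.1.all (fun l => decide (l < 8)) &&
    Nat.beq (evA e.2.1 badRep) e.1 && (List.range 20).all fun b =>
      Nat.beq (evA e.2.1 (ev colsCB (2 ^ b))) (ev colsCB (evA e.2.1 (2 ^ b)))) = true := by decide +kernel

theorem special_facts : (Nat.beq (dlt colsCB badRep) 0 && Nat.beq (dlt colsCB uVec) 0 &&
    Nat.beq (dlt colsCB vVec) 0 && decide (badRep < 2 ^ 20) && decide (uVec < 2 ^ 20) &&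
    decide (vVec < 2 ^ 20) && !(Nat.beq uVec 0) && !(Nat.beq vVec 0) &&
    caseBWit.any (fun e => Nat.beq e.1 (ev caseBP (badRep ^^^ uVec))) &&
    caseBWit.any (fun e => Nat.beq e.1 (ev caseBP (badRep ^^^ vVec)))) = true := by decide +kernel

end Cfsg.Agent.U62Module
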