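/-
An involution acting by given columns: the vectors it fixes, modulo its commutators.

* `ActsM` : an automorphism acts by columns;
* `Rich2`, `Conj2` : fixed after a shift by an element of order three, resp. moved to a given vector;
* `Base.inv_split`, `Base.inv_wit`, `Base.inv_cases` : the consequences of `invChk`.
-/
import Cfsg.Agent.Lib.U62Module.InvCheck
import Cfsg.Agent.Lib.U62Module.Cover

set_option autoImplicit false

namespace Cfsg.Agent.U62Module

open Data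

namespace Rep

variable {V : Type*} [CommGroup V] (R : Rep V)

/-- After a shift by a commutator with `m`, fixed by an element of order three commuting with `m`. -/
def Rich2 (m : MulAut V) (a : V) : Prop :=
  ∃ g : U6, ∃ v : V, Commute (R.α g) m ∧ R.α g ^ 3 = 1 ∧ R.α g ≠ 1 ∧ R.α g (a * (v * m v)) = a * (v * m v)

/-- After a shift by a commutator with `m`, the image of `a₀` under an element commuting with `m`. -/
def Conj2 (m : MulAut V) (a₀ a : V) : Prop :=
  ∃ g : U6, ∃ v : V, Commute (R.α g) m ∧ R.α g a₀ = a * (v * m v)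

end Rep

theorem sub_mask (x s n : ℕ) (h : x &&& ((2 ^ n - 1) <<< s) = x) :
    ∃ t < 2 ^ n, x = t <<< s := by
  refine ⟨(x >>> s) &&& (2 ^ n - 1), lt_of_le_of_lt Nat.and_le_right (Nat.sub_lt (Nat.two_pow_pos n) one_pos), ?_⟩
  refine Nat.eq_of_testBit_eq fun i => ?_
  conv_lhs => rw [← h]
  simp only [Nat.testBit_and, Nat.testBit_shiftLeft, Nat.testBit_shiftRight]
  by_cases hs : s ≤ i
  · simp [hs, Nat.add_sub_cancel' hs]
  · simp [hs]

theorem ev_and_fix {m : ℕ} : ∀ {cols : List ℕ}, (∀ c ∈ cols, c &&& m = c) → ∀ x, ev cols x &&& m = ev cols x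
  | [], _, _ => Nat.zero_and m
  | c :: cs, h, x => by
    simp only [ev]
    rw [Nat.and_xor_distrib_right, ev_and_fix (fun d hd => h d (List.mem_cons_of_mem _ hd)) (x / 2)]
    congr 1
    split
    · exact Nat.zero_and m
    · exact h c List.mem_cons_self

namespace Base

variable {V : Type*} [CommGroup V] [Finite V] {R : Rep V} (B : Base R)

/-- The automorphism acts by these columns. -/
def ActsM (m : MulAut V) (C : List ℕ) : Prop := ∀ x < 2 ^ 20, m (B.φ x) = B.φ (ev C x)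

theorem actsM_of_acts {g : U6} {C : List ℕ} (h : B.Acts g C) : B.ActsM (R.α g) C := h

theorem φ_dlt {m : MulAut V} {C : List ℕ} (hm : B.ActsM m C) {x : ℕ} (hx : x < 2 ^ 20) :
    B.φ (dlt C x) = B.φ x * m (B.φ x) := by
  rw [dlt, Nat.xor_comm, B.φ_xor, hm x hx]

theorem fixed_code {m : MulAut V} {C : List ℕ} (hm : B.ActsM m C) (hC : ∀ c ∈ C, c < 2 ^ 20) {a : V}
    (ha : m a = a) : ∃ x < 2 ^ 20, B.φ x = a ∧ dlt C x = 0 := by
  obtain ⟨x, hx, rfl⟩ := B.φ_surj a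
  refine ⟨x, hx, rfl, ?_⟩
  rw [hm x hx] at ha
  rw [dlt, B.φ_inj (ev_lt hC x) hx ha, Nat.xor_self]

theorem actsM_word {w : List ℕ} (hw : ∀ l ∈ w, l < 8) : B.Acts (wsu (wordA w)) (colsT w) := by
  rw [colsT_eq hw]; exact B.acts_all hw

theorem inv_split {m : MulAut V} {C P Q Rk : List ℕ} {s n : ℕ} (hm : B.ActsM m C)
    (hC : ∀ c ∈ C, c < 2 ^ 20) (hs : splitChk C P Q Rk s n = true) {x : ℕ} (hx : x < 2 ^ 20) (h0 : dlt C x = 0) :
    ev Q x < 2 ^ 20 ∧ ev P x < 2 ^ 20 ∧ (∃ t < 2 ^ n, ev P x = t <<< s) ∧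
      B.φ (ev P x) = B.φ x * (B.φ (ev Q x) * m (B.φ (ev Q x))) := by
  simp only [splitChk, Bool.and_eq_true, List.all_eq_true, decide_eq_true_eq, Nat.beq_eq] at hs
  obtain ⟨⟨hQ, hP⟩, hid⟩ := hs
  have hq := ev_lt hQ x
  suffices hxe : ev P x = x ^^^ dlt C (ev Q x) by
    refine ⟨hq, hxe ▸ Nat.xor_lt_two_pow hx (Nat.xor_lt_two_pow (ev_lt hC _) hq), sub_mask _ s n (ev_and_fix hP x), ?_⟩
    rw [← B.φ_dlt hm hq, ← B.φ_xor, hxe]
  have hxe : x = ev P x ^^^ dlt C (ev Q x) ^^^ ev Rk (dlt C x) := by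
    refine (ext_unit (f := fun x => ev P x ^^^ dlt C (ev Q x) ^^^ ev Rk (dlt C x)) (g := id) (fun a b => ?_)
      (fun _ _ => rfl) (fun b hb => (hid b (List.mem_range.2 hb)).symm) hx).symm
    simp only [dlt, ev_xor]
    ac_rfl
  rw [h0, ev_zero, Nat.xor_zero] at hxe
  calc ev P x = ev P x ^^^ dlt C (ev Q x) ^^^ dlt C (ev Q x) := by
        rw [Nat.xor_assoc, Nat.xor_self, Nat.xor_zero]
    _ = x ^^^ dlt C (ev Q x) := by rw [← hxe]

theorem inv_wit {m : MulAut V} {C P Q Rk : List ℕ} {s n : ℕ} {X : List (List ℕ)} {L : List (ℕ × ℕ × ℕ)}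
    {bd : List (ℕ × List ℕ × ℕ)} (hm : B.ActsM m C) (hchk : invChk C P Q Rk s n X L bd = true) {x : ℕ}
    (hx : x < 2 ^ 20) (h0 : dlt C x = 0) (hw : L.any (fun e => Nat.beq e.1 (ev P x)) = true) :
    R.Rich2 m (B.φ x) := by
  simp only [invChk, Bool.and_eq_true] at hchk
  obtain ⟨⟨⟨⟨hC, hs⟩, hX⟩, hW⟩, -⟩ := hchk
  simp only [List.all_eq_true, decide_eq_true_eq] at hC
  obtain ⟨hq, hP, -, hsplit⟩ := B.inv_split hm hC hs hx h0
  obtain ⟨e, he, hee⟩ := List.any_eq_true.1 hw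
  rw [Nat.beq_eq] at hee
  have h := List.all_eq_true.1 hW e he
  simp only [Bool.and_eq_true, decide_eq_true_eq, Nat.beq_eq] at h
  obtain ⟨⟨hi, hq'⟩, hfix⟩ := h
  set w := X.getD e.2.2 [] with hwdef
  have hwm : w ∈ X := by rw [hwdef, List.getD_eq_getElem _ _ hi]; exact List.getElem_mem _
  have h := List.all_eq_true.1 hX w hwm
  simp only [elemChk, Bool.and_eq_true, decide_eq_true_eq, Nat.beq_eq, List.all_eq_true,
    List.any_eq_true, Bool.not_eq_true', ← Bool.not_eq_true] at h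
  obtain ⟨hlt, hall, b, hb, hne⟩ := h
  have hact := B.actsM_word hlt
  have hMlt : ∀ y, ev (colsT w) y < 2 ^ 20 := fun y => by rw [colsT_eq hlt]; exact ev_lt (colsA_small hlt) y
  refine ⟨wsu (wordA w), B.φ (ev Q x) * B.φ e.2.1, ?_, ?_, ?_, ?_⟩
  · refine MulEquiv.ext fun a => ?_
    obtain ⟨y, hy, rfl⟩ := B.φ_surj a
    rw [MulAut.mul_apply, MulAut.mul_apply, hm y hy, hact y hy, hact _ (ev_lt hC y), hm _ (hMlt y)]
    congr 1
    refine ext_unit (f := fun y => ev (colsT w) (ev C y)) (g := fun y => ev C (ev (colsT w) y))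
      (fun a b => by simp only [ev_xor]) (fun a b => by simp only [ev_xor])
      (fun b hb => (hall b (List.mem_range.2 hb)).1) hy
  · refine MulEquiv.ext fun a => ?_
    obtain ⟨y, hy, rfl⟩ := B.φ_surj a
    rw [pow_succ, pow_succ, pow_one, MulAut.mul_apply, MulAut.mul_apply, hact y hy, hact _ (hMlt y),
      hact _ (hMlt _), MulAut.one_apply]
    congr 1
    exact ext_unit (f := fun y => ev (colsT w) (ev (colsT w) (ev (colsT w) y))) (g := id)
      (fun a b => by simp only [ev_xor]) (fun _ _ => rfl) (fun b hb => (hall b (List.mem_range.2 hb)).2) hy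
  · intro h1
    have hu : (2 : ℕ) ^ b < 2 ^ 20 := Nat.pow_lt_pow_right (by norm_num) (List.mem_range.1 hb)
    have := hact _ hu
    rw [h1, MulAut.one_apply] at this
    exact hne (B.φ_inj (hMlt _) hu this.symm)
  · have key : B.φ x * (B.φ (ev Q x) * B.φ e.2.1 * m (B.φ (ev Q x) * B.φ e.2.1))
        = B.φ (e.1 ^^^ dlt C e.2.1) := by
      rw [map_mul, B.φ_xor, B.φ_dlt hm hq', hee, hsplit]
      simp only [mul_assoc, mul_left_comm, mul_comm]
    have hy : e.1 ^^^ dlt C e.2.1 < 2 ^ 20 :=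
      Nat.xor_lt_two_pow (hee ▸ hP) (Nat.xor_lt_two_pow (ev_lt hC _) hq')
    rw [key]
    obtain ⟨h1, -⟩ := B.evA_acts hlt hy
    rw [h1, hfix]

theorem inv_cases {m : MulAut V} {C P Q Rk : List ℕ} {s n : ℕ} {X : List (List ℕ)} {L : List (ℕ × ℕ × ℕ)}
    {bd : List (ℕ × List ℕ × ℕ)} (hm : B.ActsM m C) (hchk : invChk C P Q Rk s n X L bd = true) {a : V}
    (ha : m a = a) :
    R.Rich2 m a ∨ ∃ e ∈ bd, ∃ v : V, B.φ e.1 = a * (v * m v) := by
  have h := hchk
  simp only [invChk, Bool.and_eq_true] at h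
  obtain ⟨⟨⟨⟨hC, hs⟩, -⟩, -⟩, hall⟩ := h
  simp only [List.all_eq_true, decide_eq_true_eq] at hC
  obtain ⟨x, hx, rfl, h0⟩ := B.fixed_code hm hC ha
  obtain ⟨-, -, ⟨t, ht, het⟩, hsplit⟩ := B.inv_split hm hC hs hx h0
  have h := List.all_eq_true.1 hall t (List.mem_range.2 ht)
  simp only [Bool.or_eq_true, List.any_eq_true, Nat.beq_eq] at h
  rcases h with ⟨e, he, hee⟩ | ⟨e, he, hee⟩
  · exact Or.inl (B.inv_wit hm hchk hx h0 (List.any_eq_true.2 ⟨e, he, by rw [Nat.beq_eq, hee, het]⟩))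
  · exact Or.inr ⟨e, he, _, by rw [hee, ← het, hsplit]⟩

end Base

end Cfsg.Agent.U62Module
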