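/-
The module has no proper invariant subgroup.

* `Rep.extract` : an invariant subgroup containing a product of weight vectors contains one;
* `Base.irreducible` : the invariant subgroups are the trivial ones.
-/
import Cfsg.Agent.Lib.U62Module.Coord

set_option autoImplicit false

namespace Cfsg.Agent.U62Module

open Data Cfsg.Agent.U62Cover

theorem pi_back : ((List.range 10).all fun i =>
    sameKer (trW (piK.getD i []).reverse (piC.getD i 999)) wt0 && decide (piC.getD i 999 < 243)) = true := by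
  decide +kernel

namespace Rep

variable {V : Type*} [CommGroup V] (R : Rep V)

theorem extract {B : Subgroup V} (hB : ∀ (g : U6), ∀ b ∈ B, R.α g b ∈ B) :
    ∀ (L : List ℕ) (f : ℕ → V), sepList L = true → (∀ c ∈ L, f c ∈ R.comp c) → (L.map f).prod ∈ B →
      (∃ c ∈ L, f c ≠ 1) → ∃ c ∈ L, ∃ b ∈ B, b ∈ R.comp c ∧ b ≠ 1
  | [], _, _, _, _, ⟨_, h, _⟩ => absurd h List.not_mem_nil
  | c :: L, f, hs, hf, hp, hne => by
    simp only [sepList, Bool.and_eq_true, List.all_eq_true] at hs
    by_cases hrest : ∀ d ∈ L, f d = 1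
    · obtain ⟨d, hd, hd1⟩ := hne
      refine ⟨c, List.mem_cons_self, f c, ?_, hf c List.mem_cons_self, ?_⟩
      · rwa [List.map_cons, List.prod_cons, List.prod_eq_one (l := L.map f)
          (fun x hx => by obtain ⟨e, he, rfl⟩ := List.mem_map.1 hx; exact hrest e he), mul_one] at hp
      · rcases List.mem_cons.1 hd with rfl | hd
        · exact hd1
        · exact absurd (hrest d hd) hd1
    simp only [not_forall] at hrest
    obtain ⟨d, hd, hd1⟩ := hrest
    obtain ⟨n, hn, hc⟩ := List.any_eq_true.1 (hs.1 d hd).1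
    simp only [Bool.and_eq_true, Nat.beq_eq, Bool.not_eq_true', ← Bool.not_eq_true] at hc
    have hn' := List.mem_range.1 hn
    let g : V →* V :=
      { toFun := fun x => x * R.eop n x
        map_one' := by simp
        map_mul' := fun x y => by rw [eop_mul]; simp only [mul_assoc, mul_comm, mul_left_comm] }
    have hgc : g (f c) = 1 := by
      show f c * R.eop n (f c) = 1
      rw [(hf c List.mem_cons_self n hn').1 hc.1, R.sq]
    have hgB : (L.map fun e => g (f e)).prod ∈ B := by
      have h1 : g ((c :: L).map f).prod ∈ B := B.mul_mem hp (hB _ _ hp)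
      rw [List.map_cons, List.prod_cons, map_mul, hgc, one_mul, map_list_prod, List.map_map] at h1
      exact h1
    have hgd : g (f d) ≠ 1 := fun h => hd1 (R.eq_one_of_fixed (hf d (List.mem_cons_of_mem _ hd)) hn' hc.2 (by
      have h3 : f d * R.eop n (f d) = 1 := h
      rw [← inv_eq_of_mul_eq_one_right h3, R.inv_self]))
    obtain ⟨e, he, b, hb, hbe, hb1⟩ := extract hB L (fun e => g (f e)) hs.2
      (fun e he => mul_mem (hf e (List.mem_cons_of_mem _ he)) (R.eop_mem (hf e (List.mem_cons_of_mem _ he)) n))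
      hgB ⟨d, hd, hgd⟩
    exact ⟨e, List.mem_cons_of_mem _ he, b, hb, hbe, hb1⟩

end Rep

namespace Base

variable {V : Type*} [CommGroup V] [Finite V] {R : Rep V} (B : Base R)

include B in
theorem irreducible {W : Subgroup V} (hW : ∀ (g : U6), ∀ b ∈ W, R.α g b ∈ W) : W = ⊥ ∨ W = ⊤ := by
  classical
  refine or_iff_not_imp_left.2 fun hne => ?_
  haveI := W.nontrivial_iff_ne_bot.2 hne
  obtain ⟨⟨a, ha⟩, ha1⟩ := exists_ne (1 : ↥W)
  have ha1 : a ≠ 1 := fun e => ha1 (Subtype.ext e)
  obtain ⟨x, hx, rfl⟩ := B.φ_surj a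
  obtain ⟨hsep, hlen⟩ := Rep.piC_facts
  have hnd := Rep.sepList_nodup hsep
  let f : ℕ → V := fun c => R.op (piW (piC.idxOf c)) (B.el (g4 x (piC.idxOf c)))
  have hfget : ∀ i (hi : i < piC.length), f (piC[i]) = R.op (piW i) (B.el (g4 x i)) := fun i hi => by
    show R.op (piW (piC.idxOf piC[i])) _ = _
    rw [hnd.idxOf_getElem i hi]
  have hmap : piC.map f = List.ofFn fun i : Fin 10 => R.op (piW i.val) (B.el (g4 x i.val)) := by
    refine List.ext_getElem (by simp [hlen]) fun n h1 h2 => ?_
    rw [List.getElem_map, List.getElem_ofFn]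
    exact hfget n (by simpa using h1)
  have hf : ∀ c ∈ piC, f c ∈ R.comp c := fun c hc => by
    obtain ⟨i, hi, rfl⟩ := List.getElem_of_mem hc
    rw [hfget i hi]
    have := R.pi_mem (i := i) (hlen ▸ hi) (B.el_mem (g4 x i))
    rwa [List.getD_eq_getElem _ _ hi] at this
  have hp : (piC.map f).prod = B.φ x := by rw [hmap, List.prod_ofFn]; rfl
  obtain ⟨c, hc, b, hb, hbc, hb1⟩ := R.extract hW piC f hsep hf (hp ▸ ha) (by
    by_contra! hall
    exact ha1 (hp ▸ List.prod_eq_one fun y hy => by
      obtain ⟨e, he, rfl⟩ := List.mem_map.1 hy; exact hall e he))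
  obtain ⟨i, hi, rfl⟩ := List.getElem_of_mem hc
  have hi' : i < 10 := hlen ▸ hi
  have hback := List.all_eq_true.1 pi_back i (List.mem_range.2 hi')
  simp only [Bool.and_eq_true, decide_eq_true_eq, List.getD_eq_getElem _ _ hi] at hback
  have hk : ∀ k ∈ (piK.getD i []).reverse, k < 5 := fun k hk =>
    (Rep.facts_pi hi').1 k (List.mem_reverse.1 hk)
  set y := R.op ((piK.getD i []).reverse.map trc) b with hy
  have hyW : y ∈ W := hW _ _ hb
  have hy0 : y ∈ R.comp wt0 := R.comp_sameKer hback.1 (R.comp_word hback.2 hk hbc)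
  have hy1 : y ≠ 1 := fun h => hb1 (R.op_injective _ (h.trans (R.op_one _).symm))
  have hall : R.comp wt0 ≤ W := by
    have := Fintype.ofFinite ↥(R.comp wt0)
    have hq := Base.q_lt
    have hd : dot qExp wt0 ≠ 0 := by rw [hq.2]; norm_num
    let g : Fin 3 → ↥(R.comp wt0) :=
      ![⟨y, hy0⟩, ⟨R.eop qExp y, R.eop_mem hy0 _⟩, ⟨R.eop qExp (R.eop qExp y), R.eop_mem (R.eop_mem hy0 _) _⟩]
    have hsub : Subgroup.closure ({y, R.eop qExp y} : Set V) ≤ R.comp wt0 ⊓ W := by
      rw [Subgroup.closure_le]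
      rintro z (rfl | rfl)
      · exact ⟨hy0, hyW⟩
      · exact ⟨R.eop_mem hy0 _, hW _ _ hyW⟩
    set C := Subgroup.closure ({y, R.eop qExp y} : Set V)
    have hy' : y ∈ C := Subgroup.subset_closure (Or.inl rfl)
    have hey : R.eop qExp y ∈ C := Subgroup.subset_closure (Or.inr rfl)
    have hne' : R.eop qExp y ≠ y := fun h => hy1 (R.eq_one_of_fixed hy0 hq.1 hd h)
    have he1 : R.eop qExp y ≠ 1 := fun h => hy1 (R.op_injective _ (h.trans (R.op_one _).symm))
    have hye : y * R.eop qExp y ≠ 1 := fun h => hne' (by rw [← inv_eq_of_mul_eq_one_right h, R.inv_self])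
    have hye1 : y * R.eop qExp y ≠ y := fun h => he1 (mul_left_cancel (h.trans (mul_one y).symm))
    have hye2 : y * R.eop qExp y ≠ R.eop qExp y := fun h => hy1 (mul_right_cancel (h.trans (one_mul _).symm))
    let e : Fin 4 → ↥C := ![1, ⟨y, hy'⟩, ⟨_, hey⟩, ⟨_, mul_mem hy' hey⟩]
    have hinj : Function.Injective e := by
      intro a b h
      have h' := congrArg Subtype.val h
      fin_cases a <;> fin_cases b <;> simp [e] at h' ⊢ <;>
        first
        | exact absurd h' hy1 | exact absurd h'.symm hy1 | exact absurd h' he1 | exact absurd h'.symm he1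
        | exact absurd h' hye | exact absurd h'.symm hye | exact absurd h' hne' | exact absurd h'.symm hne'
        | exact absurd h' hye1 | exact absurd h'.symm hye1 | exact absurd h' hye2 | exact absurd h'.symm hye2
    have h4 : 4 ≤ Nat.card ↥C := by simpa using Nat.card_le_card_of_injective e hinj
    have heq : C = R.comp wt0 := Subgroup.eq_of_le_of_card_ge (hsub.trans inf_le_left) (by rw [R.card_comp]; exact h4)
    exact heq ▸ hsub.trans inf_le_right
  rw [eq_top_iff]
  intro z _
  obtain ⟨u, -, rfl⟩ := B.φ_surj z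
  exact W.prod_mem fun j _ => hW _ _ (hall (B.el_mem _))

end Base

end Cfsg.Agent.U62Module
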