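/-
A set of 891 vectors invariant under the group and the field automorphism.

* `InOrb` : membership; `inOrb_ev` : invariance under the letters, `inOrb_sig` under the automorphism;
* `inOrb_u`, `inOrb_v` : two vectors, one inside and one outside.
-/
import Cfsg.Agent.Lib.U62Module.CoverCheck
import Cfsg.Agent.Lib.U62Module.DataInv
import Cfsg.Agent.Lib.U62Module.DataOrbit

set_option autoImplicit false

namespace Cfsg.Agent.U62Module

open Data

/-- The bucket of a vector. -/
def bucket (x : ℕ) : ℕ := (x ^^^ x >>> 6 ^^^ x >>> 12) &&& 63

/-- Membership in the small orbit. -/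
def inOrb (x : ℕ) : Bool := (orbSmall.getD (bucket x) []).any (Nat.beq x)

/-- Closure of the small orbit under a map. -/
def orbClosed (C : List ℕ) : Bool := orbSmall.all fun L => L.all fun y => inOrb (ev C y)

theorem orb0 : orbClosed (letC 0) = true := by decide +kernel
theorem orb1 : orbClosed (letC 1) = true := by decide +kernel
theorem orb2 : orbClosed (letC 2) = true := by decide +kernel
theorem orb3 : orbClosed (letC 3) = true := by decide +kernel
theorem orb4 : orbClosed (letC 4) = true := by decide +kernel
theorem orb5 : orbClosed (letC 5) = true := by decide +kernel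
theorem orb6 : orbClosed (letC 6) = true := by decide +kernel
theorem orbS : orbClosed sigC = true := by decide +kernel

theorem orbClosed_spec {C : List ℕ} (h : orbClosed C = true) {x : ℕ} (hx : inOrb x = true) :
    inOrb (ev C x) = true := by
  obtain ⟨y, hy, he⟩ := List.any_eq_true.1 hx
  rw [Nat.beq_eq] at he
  subst he
  have hb : bucket x < orbSmall.length := by
    by_contra hb
    rw [List.getD_eq_default _ _ (not_lt.1 hb)] at hy
    exact List.not_mem_nil hy
  rw [List.getD_eq_getElem _ _ hb] at hy
  exact List.all_eq_true.1 (List.all_eq_true.1 h _ (List.getElem_mem _)) x hy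

theorem inOrb_letter {l : ℕ} (hl : l < 7) {x : ℕ} (hx : inOrb x = true) :
    inOrb (ev (letterC l) x) = true := by
  rw [← letC_eq (hl.trans (by norm_num))]
  interval_cases l
  · exact orbClosed_spec orb0 hx
  · exact orbClosed_spec orb1 hx
  · exact orbClosed_spec orb2 hx
  · exact orbClosed_spec orb3 hx
  · exact orbClosed_spec orb4 hx
  · exact orbClosed_spec orb5 hx
  · exact orbClosed_spec orb6 hx

theorem inOrb_ev : ∀ {w : List ℕ}, (∀ l ∈ w, l < 7) → ∀ {x : ℕ}, x < 2 ^ 20 → inOrb x = true →
    inOrb (ev (colsA w) x) = true
  | [], _, x, hx, h => by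
    show inOrb (ev unitCols x) = true
    rw [ev_unit hx]; exact h
  | l :: w, hw, x, hx, h => by
    show inOrb (ev (comp (letterC l) (colsA w)) x) = true
    rw [ev_comp]
    exact inOrb_letter (hw l List.mem_cons_self) (inOrb_ev (fun m hm => hw m (List.mem_cons_of_mem _ hm)) hx h)

theorem inOrb_sig {x : ℕ} (hx : inOrb x = true) : inOrb (ev sigC x) = true := orbClosed_spec orbS hx

theorem inOrb_u : inOrb uVec = true := by decide +kernel

theorem inOrb_v : inOrb vVec = false := by decide +kernel

end Cfsg.Agent.U62Module
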