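/-
Outer automorphisms of PSU(6,2) of order two modulo inner ones.

* `frob`, `sigU`, `sigP` : the field automorphism;
* `outer_normal` : such an automorphism is, up to conjugation by an automorphism, inner times the field automorphism.
-/
import Cfsg.Agent.Lib.AutPSU.Main
import Cfsg.Agent.Lib.U62Module.Mat

set_option autoImplicit false

namespace Cfsg.Agent.U62Module

open Cfsg.Agent.U62Cover Cfsg.Agent.ThreeTransSU Cfsg.Agent.AutPSU
open Cfsg.Agent.FieldAut (suMat suMat_coe suMat_injective suMat_mem conj_mem_suMat keep_gal_su galGL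
  galGL_apply_coe indAut indAut_mk liftAut mat_liftAut mem_suMat_range det_galGL keep)
open scoped MatrixGroups

theorem frob_facts : (∀ x : K, (x ^ 2) ^ 2 = x) ∧ (∀ x y : K, (x * y) ^ 2 = x ^ 2 * y ^ 2) ∧
    (∀ x y : K, (x + y) ^ 2 = x ^ 2 + y ^ 2) ∧ (∀ x : K, x ≠ 0 → x ^ 3 = 1) ∧
    (∀ x : K, x = 0 ∨ x = 1 ∨ x = SU32.K4.w ∨ x = SU32.K4.w ^ 2) ∧ SU32.K4.w ≠ (0 : K) ∧
    SU32.K4.w ≠ (1 : K) := by decide +kernel

/-- The field automorphism. -/
def frob : K ≃+* K where
  toFun x := x ^ 2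
  invFun x := x ^ 2
  left_inv x := frob_facts.1 x
  right_inv x := frob_facts.1 x
  map_mul' x y := frob_facts.2.1 x y
  map_add' x y := frob_facts.2.2.1 x y

theorem frob_apply (x : K) : frob x = x ^ 2 := rfl

theorem aut_cases (τ : K ≃+* K) : τ = 1 ∨ τ = frob := by
  have hall := frob_facts.2.2.2.2.1
  have w0 := frob_facts.2.2.2.2.2.1
  have w1 := frob_facts.2.2.2.2.2.2
  rcases hall (τ SU32.K4.w) with h | h | h | h
  · exact absurd (τ.injective (h.trans (map_zero τ).symm)) w0
  · exact absurd (τ.injective (h.trans (map_one τ).symm)) w1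
  · refine Or.inl (RingEquiv.ext fun x => ?_)
    rcases hall x with rfl | rfl | rfl | rfl
    · exact map_zero τ
    · exact map_one τ
    · exact h
    · rw [map_pow, h]; rfl
  · refine Or.inr (RingEquiv.ext fun x => ?_)
    rcases hall x with rfl | rfl | rfl | rfl
    · rw [map_zero, map_zero]
    · rw [map_one, map_one]
    · exact h
    · rw [map_pow, h]; rfl

/-- The field automorphism on the automorphisms of GL preserving SU. -/
noncomputable def galK : keep (suMat 6 K 2) := ⟨galGL frob, keep_gal_su frob⟩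

/-- The field automorphism of SU(6,2). -/
noncomputable def sigU : MulAut U6 := liftAut suMat_injective galK

/-- The field automorphism of PSU(6,2). -/
noncomputable def sigP : MulAut (Cfsg.PSU 6 K 2) := indAut suMat_injective galK

theorem sigP_toPSU (g : U6) : sigP (toPSU 6 K g) = toPSU 6 K (sigU g) :=
  indAut_mk suMat_injective galK g

theorem mt_sigU (g : U6) (i j : Fin 6) : mt (sigU g) i j = mt g i j ^ 2 := by
  have h := congrArg (fun A : GL (Fin 6) K => (A : Matrix (Fin 6) (Fin 6) K) i j)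
    (mat_liftAut suMat_injective galK g)
  rw [suMat_coe] at h
  exact h

theorem sigU_sigU (g : U6) : sigU (sigU g) = g := by
  refine mt_injective ?_
  funext i j
  rw [mt_sigU, mt_sigU, frob_facts.1]

theorem sigU_mul_sigU : sigU * sigU = 1 := MulEquiv.ext sigU_sigU

/-- Conjugation by a unitary matrix as an automorphism of PSU(6,2). -/
noncomputable def conjG {M : GL (Fin 6) K} (hM : M ∈ Cfsg.GU 6 K 2) : MulAut (Cfsg.PSU 6 K 2) :=
  indAut suMat_injective ⟨MulAut.conj M, conj_mem_suMat hM⟩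

theorem conjG_inner {M : GL (Fin 6) K} (hM : M ∈ Cfsg.GU 6 K 2) (hdet : M.1.det = 1) :
    ∃ h : Cfsg.PSU 6 K 2, conjG hM = MulAut.conj h := by
  obtain ⟨s, rfl⟩ := mem_suMat_range.2 ⟨hM, hdet⟩
  exact ⟨_, (conj_cl s).symm⟩

theorem outer_normal (β : MulAut (Cfsg.PSU 6 K 2)) (hout : ∀ h, β ≠ MulAut.conj h)
    (hsq : ∃ h, β * β = MulAut.conj h) :
    ∃ (γ : MulAut (Cfsg.PSU 6 K 2)) (h : Cfsg.PSU 6 K 2), γ * β * γ⁻¹ = MulAut.conj h * sigP := by
  obtain ⟨M, hM, τ, rfl⟩ := exists_factor (q := 2) (by rw [cardK]; rfl) (by norm_num) (by simp) β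
  have hd : M.1.det ≠ 0 := (M.isUnit.map Matrix.detMonoidHom).ne_zero
  rcases aut_cases τ with rfl | rfl
  · exfalso
    have hb : twistAut hM (1 : K ≃+* K) = conjG hM := by
      rw [twistAut, conjG]
      exact congrArg _ (Subtype.ext (show MulAut.conj M * galGL 1 = MulAut.conj M by rw [map_one galGL, mul_one]))
    rw [hb] at hout hsq
    obtain ⟨h, hh⟩ := hsq
    have hM3 : M ^ 3 ∈ Cfsg.GU 6 K 2 := pow_mem hM 3
    obtain ⟨s, hs⟩ := conjG_inner hM3 (by
      rw [Units.val_pow_eq_pow_val, Matrix.det_pow, frob_facts.2.2.2.1 _ hd])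
    refine hout (h⁻¹ * s) ?_
    rw [map_mul, map_inv, ← hh, ← hs]
    have e : conjG hM3 = conjG hM ^ 3 := by
      rw [conjG, conjG, ← map_pow]
      exact congrArg _ (Subtype.ext (map_pow MulAut.conj M 3))
    rw [e]; group
  · have hG : galGL frob M ∈ Cfsg.GU 6 K 2 := FieldAut.galGL_GU frob hM
    have hS : M * M * (galGL frob M)⁻¹ ∈ Cfsg.GU 6 K 2 := mul_mem (mul_mem hM hM) (inv_mem hG)
    have hdet : (M * M * (galGL frob M)⁻¹).1.det = 1 := by
      have h1 : ((galGL frob M)⁻¹).1.det * (galGL frob M).1.det = 1 := by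
        rw [← Matrix.det_mul, ← Units.val_mul, inv_mul_cancel, Units.val_one, Matrix.det_one]
      rw [det_galGL, frob_apply] at h1
      rw [Units.val_mul, Units.val_mul, Matrix.det_mul, Matrix.det_mul, ← sq, mul_comm]
      exact h1
    obtain ⟨s, hs⟩ := conjG_inner hS hdet
    refine ⟨conjG hM, s, ?_⟩
    rw [← hs, twistAut, sigP, conjG, conjG, ← map_inv, ← map_mul, ← map_mul, ← map_mul]
    refine congrArg _ (Subtype.ext (MulEquiv.ext fun x => ?_))
    simp only [Subgroup.coe_mul, Subgroup.coe_inv, galK, MulAut.mul_apply, MulAut.conj_apply,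
      MulAut.conj_inv_apply, map_mul, map_inv]

end Cfsg.Agent.U62Module
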