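/-
The two classes of semilinear involutions.

* `cjv`, `Phi` : a semilinear map;
* `Gram` : families with a permutation as the table of products;
* `forms_class` : a semilinear involution is conjugate to one of two standard ones.
-/
import Cfsg.Agent.Lib.U62Module.OuterAut
import Cfsg.Agent.Lib.U62Module.InnerConj

set_option autoImplicit false

namespace Cfsg.Agent.U62Module

open Data Cfsg.Agent.U62Cover Cfsg.Agent.ThreeTransSU
open scoped Matrix

/-- The entrywise conjugate of a vector. -/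
def cjv (x : Fin 6 → K) : Fin 6 → K := fun i => x i ^ 2

theorem cjv_cjv (x : Fin 6 → K) : cjv (cjv x) = x := funext fun i => frob_facts.1 (x i)

theorem cjv_add (x y : Fin 6 → K) : cjv (x + y) = cjv x + cjv y := funext fun i => frob_facts.2.2.1 (x i) (y i)

theorem cjv_smul (c : K) (x : Fin 6 → K) : cjv (c • x) = c ^ 2 • cjv x :=
  funext fun i => frob_facts.2.1 c (x i)

theorem hf_cjv (x y : Fin 6 → K) : hf (cjv x) (cjv y) = hf x y ^ 2 := by
  show ∑ i, x i ^ 2 * (y i ^ 2) ^ 2 = (∑ i, x i * y i ^ 2) ^ 2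
  rw [show (∑ i, x i * y i ^ 2) ^ 2 = frob (∑ i, x i * y i ^ 2) from rfl, map_sum]
  exact Finset.sum_congr rfl fun i _ => (frob_facts.2.1 _ _).symm

theorem act_sigU (g : U6) (x : Fin 6 → K) : act (sigU g) (cjv x) = cjv (act g x) := by
  show mt (sigU g) *ᵥ cjv x = cjv (mt g *ᵥ x)
  funext i
  simp only [Matrix.mulVec, dotProduct, mt_sigU, cjv]
  rw [show (∑ j, mt g i j * x j) ^ 2 = frob (∑ j, mt g i j * x j) from rfl, map_sum]
  exact Finset.sum_congr rfl fun j _ => (frob_facts.2.1 _ _).symm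

/-- The semilinear map of an element. -/
noncomputable def Phi (g : U6) (x : Fin 6 → K) : Fin 6 → K := act g (cjv x)

theorem Phi_Phi {g : U6} (h : g * sigU g = 1) (x : Fin 6 → K) : Phi g (Phi g x) = x := by
  rw [Phi, Phi, ← act_sigU, cjv_cjv, ← act_mul, h, act_one]

theorem hf_Phi (g : U6) (x y : Fin 6 → K) : hf (Phi g x) (Phi g y) = hf x y ^ 2 := by
  rw [Phi, Phi, act_hf, hf_cjv]

theorem Phi_add (g : U6) (x y : Fin 6 → K) : Phi g (x + y) = Phi g x + Phi g y := by
  rw [Phi, Phi, Phi, cjv_add, act_add]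

theorem Phi_smul (g : U6) (c : K) (x : Fin 6 → K) : Phi g (c • x) = c ^ 2 • Phi g x := by
  rw [Phi, Phi, cjv_smul, act_smul]

theorem hf_sum_left {ι : Type*} (s : Finset ι) (f : ι → Fin 6 → K) (z : Fin 6 → K) :
    hf (∑ i ∈ s, f i) z = ∑ i ∈ s, hf (f i) z := by
  classical
  induction s using Finset.induction_on with
  | empty => simp [hf_zero_left cardK]
  | insert a s ha ih => rw [Finset.sum_insert ha, Finset.sum_insert ha, hf_add_left cardK, ih]

/-- The products of the family are given by a permutation. -/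
def Gram {k : ℕ} (b : Fin k → Fin 6 → K) (π : Fin k → Fin k) : Prop :=
  ∀ i j, hf (b i) (b j) = if π i = j then 1 else 0

/-- The coefficient form of a vector along a family. -/
def comb {k : ℕ} (b : Fin k → Fin 6 → K) (π : Fin k → Fin k) (x : Fin 6 → K) : Fin 6 → K :=
  ∑ i, hf x (b (π i)) • b i

theorem Gram.hf_comb {k : ℕ} {b : Fin k → Fin 6 → K} {π : Fin k → Fin k} (h : Gram b π)
    (hπ : ∀ i, π (π i) = i) (x : Fin 6 → K) (j : Fin k) : hf (comb b π x) (b j) = hf x (b j) := by
  rw [comb, hf_sum_left, Finset.sum_eq_single (π j)]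
  · rw [hf_smul_left cardK, h, hπ, if_pos rfl, mul_one]
  · intro i _ hi
    rw [hf_smul_left cardK, h, if_neg (fun e => hi (by rw [← e, hπ])), mul_zero]
  · exact fun hh => absurd (Finset.mem_univ _) hh

theorem Gram.li {k : ℕ} {b : Fin k → Fin 6 → K} {π : Fin k → Fin k} (h : Gram b π)
    (hπ : ∀ i, π (π i) = i) : LinearIndependent K b := by
  rw [Fintype.linearIndependent_iff]
  intro c hc j
  have h0 := congrArg (fun z => hf z (b (π j))) hc
  simp only [hf_sum_left, hf_smul_left cardK, hf_zero_left cardK] at h0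
  rw [Finset.sum_eq_single j, h, if_pos rfl, mul_one] at h0
  · exact h0
  · intro i _ hi
    rw [h, if_neg (fun e => hi (by rw [← hπ i, e, hπ])), mul_zero]
  · exact fun hh => absurd (Finset.mem_univ _) hh

theorem Gram.complete {b : Fin 6 → Fin 6 → K} {π : Fin 6 → Fin 6} (h : Gram b π) (hπ : ∀ i, π (π i) = i)
    (x : Fin 6 → K) : comb b π x = x := by
  have hp : comb b π x + x ∈ perp cardK b := (mem_perp cardK).2 fun j => by
    rw [hf_add_left cardK, h.hf_comb hπ]
    exact add_self cardK _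
  have h0 : Module.finrank K (perp cardK b) = 0 := by
    have := finrank_perp cardK (h.li hπ)
    omega
  rw [Submodule.finrank_eq_zero.1 h0, Submodule.mem_bot] at hp
  have := congrArg (· + x) hp
  simp only [zero_add, vadd_cancel cardK] at this
  exact this

theorem trace_w : SU32.K4.w + SU32.K4.w ^ 2 = (1 : K) := by decide +kernel

theorem fixed_perp {g : U6} (hg : g * sigU g = 1) {k : ℕ} (hk : k < 6) {b : Fin k → Fin 6 → K}
    {π : Fin k → Fin k} (h : Gram b π) (hπ : ∀ i, π (π i) = i) (hb : ∀ i, Phi g (b i) = b i) :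
    ∃ u, u ≠ 0 ∧ Phi g u = u ∧ ∀ i, hf u (b i) = 0 := by
  have hd := finrank_perp cardK (h.li hπ)
  obtain ⟨x, hx, hx0⟩ := Submodule.exists_mem_ne_zero_of_ne_bot (p := perp cardK b) fun e => by
    rw [e, finrank_bot] at hd; omega
  have hxb := (mem_perp cardK).1 hx
  have key : ∀ c : K, Phi g (c • x + Phi g (c • x)) = c • x + Phi g (c • x) ∧
      ∀ i, hf (c • x + Phi g (c • x)) (b i) = 0 := fun c => by
    refine ⟨by rw [Phi_add, Phi_Phi hg, add_comm], fun i => ?_⟩
    conv_lhs => rw [hf_add_left cardK]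
    conv_lhs => arg 2; rw [← hb i, hf_Phi]
    rw [hf_smul_left cardK, hxb, mul_zero, zero_add]
    exact zero_pow two_ne_zero
  by_cases h1 : x + Phi g x = 0
  · refine ⟨_, ?_, key SU32.K4.w⟩
    have e : Phi g x = x := by
      have := congrArg (x + ·) h1
      simpa [← add_assoc, vadd_self cardK] using this
    rw [Phi_smul, e, ← add_smul, trace_w, one_smul]
    exact hx0
  · have := key 1
    rw [one_smul] at this
    exact ⟨_, h1, this⟩

theorem partner {g : U6} (hg : g * sigU g = 1) {k : ℕ} {b : Fin k → Fin 6 → K}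
    {π : Fin k → Fin k} (h : Gram b π) (hπ : ∀ i, π (π i) = i) (hb : ∀ i, Phi g (b i) = b i)
    {u : Fin 6 → K} (hu0 : u ≠ 0) (hu : Phi g u = u) (hub : ∀ i, hf u (b i) = 0) :
    ∃ v, Phi g v = v ∧ (∀ i, hf v (b i) = 0) ∧ hf u v = 1 := by
  obtain ⟨x, hx⟩ := exists_hf_one cardK hu0
  set y := SU32.K4.w • x
  set z := y + comb b π y
  have hzb : ∀ i, hf z (b i) = 0 := fun i => by
    rw [hf_add_left cardK, h.hf_comb hπ]
    exact add_self cardK _
  have hzu : hf z u = SU32.K4.w := by
    rw [hf_add_left cardK, comb, hf_sum_left]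
    simp only [hf_smul_left cardK, (hf_eq_zero_symm cardK).1 (hub _), mul_zero, Finset.sum_const_zero, add_zero]
    rw [hf_smul_left cardK, hx, mul_one]
  refine ⟨z + Phi g z, by rw [Phi_add, Phi_Phi hg, add_comm], fun i => ?_, ?_⟩
  · rw [hf_add_left cardK, hzb]
    conv_lhs => arg 2; rw [← hb i, hf_Phi, hzb]
    simp
  · refine hf_eq_one_symm cardK ?_
    rw [hf_add_left cardK, hzu]
    conv_lhs => arg 2; rw [← hu, hf_Phi, hzu]
    exact trace_w

theorem fixed_value {g : U6} {u : Fin 6 → K} (hu : Phi g u = u) : hf u u = 0 ∨ hf u u = 1 := by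
  have h := hf_Phi g u u
  rw [hu] at h
  have : ∀ a : K, a = a ^ 2 → a = 0 ∨ a = 1 := by decide +kernel
  exact this _ h

theorem snoc_gram {k : ℕ} {b : Fin k → Fin 6 → K} (h : Gram b id) {u : Fin 6 → K}
    (hu : hf u u = 1) (hub : ∀ i, hf u (b i) = 0) : Gram (Fin.snoc b u) id := by
  intro i j
  induction i using Fin.lastCases with
  | last =>
    induction j using Fin.lastCases with
    | last => simp [hu]
    | cast j =>
      rw [Fin.snoc_last, Fin.snoc_castSucc, hub, if_neg]
      exact fun e => (Fin.castSucc_lt_last j).ne e.symm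
  | cast i =>
    induction j using Fin.lastCases with
    | last =>
      rw [Fin.snoc_last, Fin.snoc_castSucc, (hf_eq_zero_symm cardK).1 (hub i), if_neg]
      exact (Fin.castSucc_lt_last i).ne
    | cast j =>
      rw [Fin.snoc_castSucc, Fin.snoc_castSucc, h]
      simp

theorem orth_step {g : U6} (hg : g * sigU g = 1) {k : ℕ} (hk : k + 1 < 6)
    (hb : ∃ b : Fin (k + 1) → Fin 6 → K, Gram b id ∧ ∀ i, Phi g (b i) = b i) :
    ∃ b : Fin (k + 2) → Fin 6 → K, Gram b id ∧ ∀ i, Phi g (b i) = b i := by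
  obtain ⟨b, h, hbf⟩ := hb
  have hπ : ∀ i : Fin (k + 1), id (id i) = i := fun _ => rfl
  have fix : ∀ {c : Fin (k + 1) → Fin 6 → K} {z : Fin 6 → K}, (∀ i, Phi g (c i) = c i) → Phi g z = z →
      ∀ i, Phi g ((Fin.snoc c z : Fin (k + 2) → Fin 6 → K) i) = (Fin.snoc c z : Fin (k + 2) → Fin 6 → K) i :=
    fun {c z} hc hz i => by
    induction i using Fin.lastCases with
    | last => simpa using hz
    | cast i => simpa using hc i
  obtain ⟨u, hu0, hu, hub⟩ := fixed_perp hg hk h hπ hbf
  rcases fixed_value hu with hq | hq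
  swap
  · exact ⟨_, snoc_gram h hq hub, fix hbf hu⟩
  obtain ⟨v, hv, hvb, huv⟩ := partner hg h hπ hbf hu0 hu hub
  rcases fixed_value hv with hqv | hqv
  swap
  · exact ⟨_, snoc_gram h hqv hvb, fix hbf hv⟩
  have he : hf (b 0) (b 0) = 1 := by rw [h]; simp
  have hne : ∀ {i j : Fin (k + 1)}, i ≠ j → hf (b i) (b j) = 0 := fun hij => by rw [h, if_neg]; exact hij
  have hvu : hf v u = 1 := hf_eq_one_symm cardK huv
  have hbu : ∀ i, hf (b i) u = 0 := fun i => (hf_eq_zero_symm cardK).1 (hub i)
  have hbv : ∀ i, hf (b i) v = 0 := fun i => (hf_eq_zero_symm cardK).1 (hvb i)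
  refine ⟨Fin.snoc (Function.update b 0 (b 0 + u)) (b 0 + v), snoc_gram (fun i j => ?_) ?_ (fun i => ?_),
    fix (fun i => ?_) (by rw [Phi_add, hbf, hv])⟩
  · by_cases hi : i = 0 <;> by_cases hj : j = 0
    · subst hi hj
      simp [hf_add_left cardK, hf_add_right cardK, he, hq, hbu, hub]
    · subst hi
      rw [Function.update_self, Function.update_of_ne hj, hf_add_left cardK, hne (Ne.symm hj), hub, add_zero,
        if_neg]
      exact Ne.symm hj
    · subst hj
      rw [Function.update_self, Function.update_of_ne hi, hf_add_right cardK, hne hi, hbu, add_zero, if_neg]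
      exact hi
    · rw [Function.update_of_ne hi, Function.update_of_ne hj, h]
  · simp [hf_add_left cardK, hf_add_right cardK, he, hqv, hbv, hvb]
  · by_cases hi : i = 0
    · subst hi
      rw [Function.update_self]
      simp only [hf_add_left cardK, hf_add_right cardK, he, hvu, hvb, hbu, add_zero, zero_add]
      exact add_self cardK _
    · rw [Function.update_of_ne hi, hf_add_left cardK, hne (Ne.symm hi), hvb, add_zero]
  · by_cases hi : i = 0
    · subst hi; rw [Function.update_self, Phi_add, hbf, hu]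
    · rw [Function.update_of_ne hi, hbf]

theorem orth_basis {g : U6} (hg : g * sigU g = 1) {u : Fin 6 → K} (hu : Phi g u = u) (hq : hf u u = 1) :
    ∃ b : Fin 6 → Fin 6 → K, Gram b id ∧ ∀ i, Phi g (b i) = b i :=
  orth_step hg (by norm_num) (orth_step hg (by norm_num) (orth_step hg (by norm_num) (orth_step hg (by norm_num)
    (orth_step hg (by norm_num) ⟨![u], fun i j => by simp [Fin.fin_one_eq_zero i, Fin.fin_one_eq_zero j, hq],
      fun i => by simp [hu]⟩))))

theorem symp_basis {g : U6} (hg : g * sigU g = 1) (halt : ∀ u, Phi g u = u → hf u u = 0) :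
    ∃ b : Fin 6 → Fin 6 → K, Gram b ![1, 0, 3, 2, 5, 4] ∧ ∀ i, Phi g (b i) = b i := by
  have h0 : Gram (Fin.elim0 : Fin 0 → Fin 6 → K) id := fun i => i.elim0
  obtain ⟨u, hu0, hu, -⟩ := fixed_perp hg (by norm_num) h0 (fun i => i.elim0) (fun i => i.elim0)
  obtain ⟨v, hv, -, huv⟩ := partner hg h0 (fun i => i.elim0) (fun i => i.elim0) hu0 hu (fun i => i.elim0)
  have hs : ∀ {x y : Fin 6 → K}, hf x y = 1 → hf y x = 1 := fun h => hf_eq_one_symm cardK h
  have hz : ∀ {x y : Fin 6 → K}, hf x y = 0 → hf y x = 0 := fun h => (hf_eq_zero_symm cardK).1 h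
  have h2 : Gram ![u, v] ![1, 0] := by
    intro i j
    fin_cases i <;> fin_cases j <;> simp [halt u hu, halt v hv, huv, hs huv]
  have hp2 : ∀ i : Fin 2, ![1, 0] (![1, 0] i) = i := by decide
  have hf2 : ∀ i, Phi g (![u, v] i) = ![u, v] i := fun i => by fin_cases i <;> assumption
  obtain ⟨p, hp0, hp, hpb⟩ := fixed_perp hg (by norm_num) h2 hp2 hf2
  obtain ⟨q, hq, hqb, hpq⟩ := partner hg h2 hp2 hf2 hp0 hp hpb
  have pu : hf p u = 0 := hpb 0
  have pv : hf p v = 0 := hpb 1
  have qu : hf q u = 0 := hqb 0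
  have qv : hf q v = 0 := hqb 1
  have h4 : Gram ![u, v, p, q] ![1, 0, 3, 2] := by
    intro i j
    fin_cases i <;> fin_cases j <;>
      simp [halt u hu, halt v hv, halt p hp, halt q hq, huv, hs huv, hpq, hs hpq, pu, pv, qu, qv, hz pu, hz pv,
        hz qu, hz qv]
  have hp4 : ∀ i : Fin 4, ![1, 0, 3, 2] (![1, 0, 3, 2] i) = i := by decide
  have hf4 : ∀ i, Phi g (![u, v, p, q] i) = ![u, v, p, q] i := fun i => by fin_cases i <;> assumption
  obtain ⟨a, ha0, ha, hab⟩ := fixed_perp hg (by norm_num) h4 hp4 hf4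
  obtain ⟨c, hc, hcb, hac⟩ := partner hg h4 hp4 hf4 ha0 ha hab
  have au : hf a u = 0 := hab 0
  have av : hf a v = 0 := hab 1
  have ap : hf a p = 0 := hab 2
  have aq : hf a q = 0 := hab 3
  have cu : hf c u = 0 := hcb 0
  have cv : hf c v = 0 := hcb 1
  have cp : hf c p = 0 := hcb 2
  have cq : hf c q = 0 := hcb 3
  refine ⟨![u, v, p, q, a, c], fun i j => ?_, fun i => by fin_cases i <;> assumption⟩
  fin_cases i <;> fin_cases j <;>
    simp [halt u hu, halt v hv, halt p hp, halt q hq, halt a ha, halt c hc, huv, hs huv, hpq, hs hpq, hac, hs hac,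
      pu, pv, qu, qv, hz pu, hz pv, hz qu, hz qv, au, av, ap, aq, cu, cv, cp, cq, hz au, hz av, hz ap, hz aq,
      hz cu, hz cv, hz cp, hz cq]

theorem conj_of_bases {g g₀ : U6} {b B : Fin 6 → Fin 6 → K} {π : Fin 6 → Fin 6} (hπ : ∀ i, π (π i) = i)
    (hb : Gram b π) (hB : Gram B π) (hbf : ∀ i, Phi g (b i) = b i) (hBf : ∀ i, Phi g₀ (B i) = B i) :
    ∃ s : U6, g = s * g₀ * (sigU s)⁻¹ := by
  classical
  let S : (Fin 6 → K) →ₗ[K] (Fin 6 → K) :=
    { toFun := fun x => ∑ i, hf x (B (π i)) • b i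
      map_add' := fun x y => by simp only [hf_add_left cardK, add_smul, Finset.sum_add_distrib]
      map_smul' := fun c x => by simp only [hf_smul_left cardK, mul_smul, Finset.smul_sum, RingHom.id_apply] }
  have hSb : ∀ x j, hf (S x) (b j) = hf x (B j) := fun x j => by
    show hf (∑ i, hf x (B (π i)) • b i) (b j) = _
    rw [hf_sum_left, Finset.sum_eq_single (π j)]
    · rw [hf_smul_left cardK, hb, hπ, if_pos rfl, mul_one]
    · intro i _ hi
      rw [hf_smul_left cardK, hb, if_neg (fun e => hi (by rw [← e, hπ])), mul_zero]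
    · exact fun hh => absurd (Finset.mem_univ _) hh
  have hiso : ∀ x y, hf (S x) (S y) = hf x y := fun x y => by
    have e1 : ∀ z, hf (S x) z = hf (comb b π z) (S x) ^ 2 := fun z => by
      rw [hb.complete hπ, ← hf_symm cardK]
    rw [e1, hb.complete hπ, ← hf_symm cardK]
    calc hf (S x) (S y) = hf (∑ i, hf x (B (π i)) • b i) (S y) := rfl
      _ = ∑ i, hf x (B (π i)) * hf (b i) (S y) := by simp only [hf_sum_left, hf_smul_left cardK]
      _ = ∑ i, hf x (B (π i)) * hf (B i) y := Finset.sum_congr rfl fun i _ => by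
          rw [hf_symm cardK (S y) (b i), hSb, ← hf_symm cardK]
      _ = hf (comb B π x) y := by simp only [comb, hf_sum_left, hf_smul_left cardK]
      _ = hf x y := by rw [hB.complete hπ]
  have hsemi : ∀ x, Phi g (S x) = S (Phi g₀ x) := fun x => by
    have hsum : ∀ (t : Finset (Fin 6)) (f : Fin 6 → Fin 6 → K), Phi g (∑ i ∈ t, f i) = ∑ i ∈ t, Phi g (f i) := by
      intro t f
      induction t using Finset.induction_on with
      | empty => simp [Phi, cjv, act_zero, show cjv (0 : Fin 6 → K) = 0 from funext fun i => by simp [cjv]]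
      | insert a s ha ih => rw [Finset.sum_insert ha, Finset.sum_insert ha, Phi_add, ih]
    show Phi g (∑ i, hf x (B (π i)) • b i) = ∑ i, hf (Phi g₀ x) (B (π i)) • b i
    rw [hsum]
    refine Finset.sum_congr rfl fun i _ => ?_
    rw [Phi_smul, hbf, ← hf_Phi g₀, hBf]
  have hinj : Function.Injective S := by
    rw [← LinearMap.ker_eq_bot, LinearMap.ker_eq_bot']
    intro x hx
    rw [← hB.complete hπ x, comb]
    refine Finset.sum_eq_zero fun i _ => ?_
    rw [← hSb x (π i), hx, hf_zero_left cardK, zero_smul]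
  have hunit : IsUnit (LinearMap.toMatrix' S) := by
    rw [← Matrix.mulVec_injective_iff_isUnit]
    intro x y h
    rw [LinearMap.toMatrix'_mulVec, LinearMap.toMatrix'_mulVec] at h
    exact hinj h
  have hGU : hunit.unit ∈ Cfsg.GU 6 K 2 := by
    rw [Unitary.mem_GU_iff]
    intro x y
    show hf (LinearMap.toMatrix' S *ᵥ x) (LinearMap.toMatrix' S *ᵥ y) = hf x y
    rw [LinearMap.toMatrix'_mulVec, LinearMap.toMatrix'_mulVec, hiso]
  have hmat : mt g * (LinearMap.toMatrix' S).map frob = LinearMap.toMatrix' S * mt g₀ := by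
    refine Matrix.ext_iff_mulVec.2 fun y => ?_
    rw [← Matrix.mulVec_mulVec, ← Matrix.mulVec_mulVec, LinearMap.toMatrix'_mulVec]
    have hy : (LinearMap.toMatrix' S).map frob *ᵥ y = cjv (S (cjv y)) := by
      rw [← LinearMap.toMatrix'_mulVec]
      funext i
      show ∑ j, _ * y j = (∑ j, _ * (y j) ^ 2) ^ 2
      rw [show (∑ j, LinearMap.toMatrix' S i j * y j ^ 2) ^ 2
        = frob (∑ j, LinearMap.toMatrix' S i j * y j ^ 2) from rfl, map_sum]
      refine Finset.sum_congr rfl fun j _ => ?_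
      rw [map_mul, Matrix.map_apply, frob_apply (y j ^ 2), frob_facts.1]
    rw [hy]
    have := hsemi (cjv y)
    rw [Phi, Phi, cjv_cjv] at this
    exact this
  have hd0 : (LinearMap.toMatrix' S).det ≠ 0 := (hunit.map Matrix.detMonoidHom).ne_zero
  have hdet : (LinearMap.toMatrix' S).det = 1 := by
    have h := congrArg Matrix.det hmat
    rw [Matrix.det_mul, Matrix.det_mul, show (mt g).det = 1 from g.1.2, show (mt g₀).det = 1 from g₀.1.2,
      one_mul, mul_one] at h
    rw [show (LinearMap.toMatrix' S).map frob = frob.toRingHom.mapMatrix (LinearMap.toMatrix' S) from rfl,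
      ← RingHom.map_det] at h
    have : ∀ a : K, a ≠ 0 → a ^ 2 = a → a = 1 := by decide +kernel
    exact this _ hd0 h
  let s : U6 := Unitary.suOfUnitary _ hGU hdet
  refine ⟨s, ?_⟩
  have hs : g * sigU s = s * g₀ := by
    refine mt_injective ?_
    rw [mt_mul', mt_mul']
    refine Eq.trans ?_ hmat
    congr 1
    funext i j
    rw [mt_sigU]
    rfl
  rw [← hs, mul_inv_cancel_right]

/-- The basis of the symplectic case. -/
noncomputable def sympVec : Fin 6 → Fin 6 → K :=
  fun i => centre ([5, 14, 80, 224, 1280, 3584].getD i.val 0)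

theorem symp_facts : (∀ i j : Fin 6, form ([5, 14, 80, 224, 1280, 3584].getD i.val 0)
      ([5, 14, 80, 224, 1280, 3584].getD j.val 0) = if ![1, 0, 3, 2, 5, 4] i = j then 1 else 0) ∧
    ∀ i : Fin 6, toMat (wmat [5, 80, 1280]) *ᵥ (fun j => centre ([5, 14, 80, 224, 1280, 3584].getD i.val 0) j ^ 2)
      = centre ([5, 14, 80, 224, 1280, 3584].getD i.val 0) := by decide +kernel

/-- A semilinear involution is conjugate to one of the two standard ones. -/
theorem forms_class {g : U6} (hg : g * sigU g = 1) :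
    ∃ s : U6, g = s * (sigU s)⁻¹ ∨ g = s * invRep 2 * (sigU s)⁻¹ := by
  by_cases h : ∃ u, Phi g u = u ∧ hf u u = 1
  · obtain ⟨u, hu, hq⟩ := h
    obtain ⟨b, hb, hbf⟩ := orth_basis hg hu hq
    have hB : Gram (fun i => Pi.single i (1 : K)) id := by
      intro i j
      show ∑ l, (Pi.single i (1 : K) : Fin 6 → K) l * ((Pi.single j (1 : K) : Fin 6 → K) l) ^ 2 = _
      rw [Finset.sum_eq_single i]
      · by_cases hij : i = j
        · subst hij; simp
        · simp [hij]
      · intro l _ hl; simp [hl]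
      · exact fun hh => absurd (Finset.mem_univ _) hh
    obtain ⟨s, hs⟩ := conj_of_bases (g₀ := 1) (fun _ => rfl) hb hB hbf fun i => by
      rw [Phi, act_one]
      funext l
      show (Pi.single i (1 : K) : Fin 6 → K) l ^ 2 = _
      by_cases hl : l = i
      · subst hl; simp
      · simp [hl]
    exact ⟨s, Or.inl (by rw [hs, mul_one])⟩
  · obtain ⟨b, hb, hbf⟩ := symp_basis hg fun u hu => (fixed_value hu).resolve_right fun hq => h ⟨u, hu, hq⟩
    have hB : Gram sympVec ![1, 0, 3, 2, 5, 4] := fun i j => by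
      show hf (centre _) (centre _) = _
      rw [← form_spec, symp_facts.1 i j]
      split <;> rfl
    obtain ⟨s, hs⟩ := conj_of_bases (g₀ := invRep 2) (by decide) hb hB hbf fun i => by
      show mt (invRep 2) *ᵥ _ = _
      rw [show invRep 2 = wsu [5, 80, 1280] from rfl, mt_wsu (by decide +kernel)]
      exact symp_facts.2 i
    exact ⟨s, Or.inr hs⟩

end Cfsg.Agent.U62Module
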