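/-
The field automorphism on the module.

* `sig_wsu` : the automorphism on words;
* `Base.actsM_sig` : a map intertwining the action with its twist acts on coordinates by `sigC`.
-/
import Cfsg.Agent.Lib.U62Module.OuterAut
import Cfsg.Agent.Lib.U62Module.Inv

set_option autoImplicit false

namespace Cfsg.Agent.U62Module

open Data Cfsg.Agent.U62Cover

theorem sig_wsu {a b : List ℕ} (ha : a.all iso = true) (hb : b.all iso = true)
    (h : meq (cjm (wmat a)) (wmat b) = true) : sigU (wsu a) = wsu b := by
  refine mt_injective ?_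
  funext i j
  rw [mt_sigU, mt_wsu ha, mt_wsu hb, ← toMat_cjm, eq_of_beq h]

theorem ew_sig : ((List.range 243).all fun n => meq (cjm (wmat (ew n))) (wmat (ew n ++ ew n))) = true := by
  decide +kernel

theorem word_sig : ((List.range 10).all (fun i => meq (cjm (wmat (piW i))) (wmat (piW i))) &&
    meq (cjm (wmat s0w)) (wmat s0w)) = true := by decide +kernel

theorem c4_xor_all : ∀ a b : Fin 4, c4 (a.val ^^^ b.val) = c4 a.val ^^^ c4 b.val := by decide +kernel

theorem sigC_digit_all : ∀ i < 10, ∀ b < 20, g4 (ev sigC (2 ^ b)) i = c4 (g4 (2 ^ b) i) := by decide +kernel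

theorem sigC_digit {x i : ℕ} (hx : x < 2 ^ 20) (hi : i < 10) : g4 (ev sigC x) i = c4 (g4 x i) :=
  ext_unit (f := fun x => g4 (ev sigC x) i) (g := fun x => c4 (g4 x i))
    (fun a b => by show g4 (ev sigC (a ^^^ b)) i = g4 (ev sigC a) i ^^^ g4 (ev sigC b) i; rw [ev_xor, g4_xor])
    (fun a b => by
      show c4 (g4 (a ^^^ b) i) = c4 (g4 a i) ^^^ c4 (g4 b i)
      rw [g4_xor]; exact c4_xor_all ⟨_, g4_lt a i⟩ ⟨_, g4_lt b i⟩)
    (sigC_digit_all i hi) hx

namespace Base

variable {V : Type*} [CommGroup V] {R : Rep V} (B : Base R)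

/-- A map intertwining the action with its twist by the field automorphism. -/
def Twists (R : Rep V) (m : MulAut V) : Prop := ∀ (g : U6) (x : V), m (R.α g x) = R.α (sigU g) (m x)

theorem twists_op {m : MulAut V} (hm : Twists R m) {a b : List ℕ} (ha : a.all iso = true) (hb : b.all iso = true)
    (h : meq (cjm (wmat a)) (wmat b) = true) (x : V) : m (R.op a x) = R.op b (m x) := by
  show m (R.α (wsu a) x) = R.α (wsu b) (m x)
  rw [hm, sig_wsu ha hb h]

theorem twists_eop {m : MulAut V} (hm : Twists R m) {n : ℕ} (hn : n < 243) (x : V) :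
    m (R.eop n x) = R.eop n (R.eop n (m x)) := by
  have h := List.all_eq_true.1 ew_sig n (List.mem_range.2 hn)
  have hiso := Rep.ew_isoN hn
  rw [twists_op hm hiso (by simp [List.all_append, hiso]) h]
  exact R.op_append _ _ _

theorem twists_comp {m : MulAut V} (hm : Twists R m) (hm2 : ∀ x, m (m x) = x) {b : V}
    (hb : b ∈ R.comp wt0) : m b ∈ R.comp wt0 := by
  have hback : ∀ n < 243, R.eop n (m b) = m (R.eop n (R.eop n b)) := fun n hn => by
    have := congrArg m (twists_eop hm hn (m b))
    rw [hm2, hm2] at this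
    exact this
  intro n hn
  refine ⟨fun h => ?_, fun h => ?_⟩
  · rw [hback n hn, (hb n hn).1 h, (hb n hn).1 h]
  · have h3 := (hb n hn).2 h
    have h4 : R.eop n b * R.eop n (R.eop n b) * R.eop n (R.eop n (R.eop n b)) = 1 := by
      rw [← R.eop_mul, ← R.eop_mul, h3, R.eop_one]
    have e3 : R.eop n (R.eop n (R.eop n b)) = b := by
      have h7 : b * (R.eop n b * R.eop n (R.eop n b)) = 1 := by rw [← mul_assoc]; exact h3
      have h5 : R.eop n b * R.eop n (R.eop n b) = b := by
        rw [← inv_eq_of_mul_eq_one_right h7, R.inv_self]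
      rw [h5] at h4
      rw [← inv_eq_of_mul_eq_one_right h4, R.inv_self]
    have h6 : R.eop n (m (R.eop n (R.eop n b))) = m (R.eop n b) := by
      have := congrArg m (twists_eop hm hn (m (R.eop n (R.eop n b))))
      rw [hm2, hm2] at this
      exact this.trans (congrArg m (congrArg (R.eop n) e3))
    rw [hback n hn, h6, ← map_mul, ← map_mul]
    refine (congrArg m ?_).trans (map_one m)
    rw [mul_assoc, mul_comm (R.eop n (R.eop n b)), ← mul_assoc]
    exact h3

theorem el_surj [Finite V] {x : V} (hx : x ∈ R.comp wt0) : ∃ d < 4, B.el d = x := by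
  classical
  have := Fintype.ofFinite ↥(R.comp wt0)
  let f : Fin 4 → ↥(R.comp wt0) := fun d => ⟨B.el d.val, B.el_mem _⟩
  have hbij : Function.Bijective f := (Fintype.bijective_iff_injective_and_card f).2
    ⟨fun a b h => B.el_inj (congrArg Subtype.val h), by
      rw [Fintype.card_fin, ← Nat.card_eq_fintype_card, R.card_comp]⟩
  obtain ⟨d, hd⟩ := hbij.2 ⟨x, hx⟩
  exact ⟨d.val, d.isLt, congrArg Subtype.val hd⟩

theorem twists_v [Finite V] {m : MulAut V} (hm : Twists R m) (hm2 : ∀ x, m (m x) = x) : m B.v = B.v := by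
  have hs := s0_facts
  simp only [Bool.and_eq_true] at hs
  have hw := word_sig
  simp only [Bool.and_eq_true] at hw
  have hswap : R.op s0w (m B.v) = m B.v := by
    rw [← twists_op hm hs.1.1 hs.1.1 hw.2, B.swap]
  obtain ⟨d, hd, he⟩ := B.el_surj (twists_comp hm hm2 B.mem)
  rw [← he] at hswap
  have hinv : ∀ y, R.op s0w (R.op s0w y) = y := fun y => by
    rw [← R.op_append]
    exact R.op_of_mat (by simp [List.all_append, hs.1.1]) hs.2 y
  have h23 : R.op s0w (B.q B.v) = B.q (B.q B.v) := by
    have := B.s0_q B.v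
    rwa [B.swap] at this
  have hne : B.q B.v ≠ B.q (B.q B.v) := fun h => by
    have := B.el_inj (a₁ := (⟨2, by norm_num⟩ : Fin 4)) (a₂ := (⟨3, by norm_num⟩ : Fin 4)) (show B.el 2 = B.el 3 from h)
    simp at this
  interval_cases d
  · exact absurd (m.injective (he.symm.trans (map_one m).symm)) B.ne
  · exact he.symm
  · exact absurd (hswap.symm.trans h23) hne
  · refine absurd ?_ hne
    have := congrArg (R.op s0w) h23
    rw [hinv] at this
    exact this.trans hswap

theorem twists_el [Finite V] {m : MulAut V} (hm : Twists R m) (hm2 : ∀ x, m (m x) = x) :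
    ∀ d < 4, m (B.el d) = B.el (c4 d) := by
  have hv := B.twists_v hm hm2
  have h2 : m (B.q B.v) = B.q (B.q B.v) := by
    show m (R.eop qExp B.v) = _
    rw [twists_eop hm q_lt.1, hv]
    rfl
  intro d hd
  interval_cases d
  · exact map_one m
  · exact hv
  · exact h2
  · show m (B.q (B.q B.v)) = B.q B.v
    have := congrArg m h2
    rw [hm2] at this
    exact this.symm

theorem actsM_sig [Finite V] {m : MulAut V} (hm : Twists R m) (hm2 : ∀ x, m (m x) = x) : B.ActsM m sigC := by
  intro x hx
  have hw := word_sig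
  simp only [Bool.and_eq_true, List.all_eq_true] at hw
  rw [φ, φ, map_prod]
  refine Finset.prod_congr rfl fun i _ => ?_
  have hpi : (piW i.val).all iso = true := List.all_eq_true.1 pi_iso i.val (List.mem_range.2 i.isLt)
  rw [twists_op hm hpi hpi (hw.1 i.val (List.mem_range.2 i.isLt)), B.twists_el hm hm2 _ (g4_lt x _),
    sigC_digit hx i.isLt]

end Base

end Cfsg.Agent.U62Module
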