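/-
The module inside a group: `H = A ⋊ L` with `L` almost simple of type PSU(6,2).

* `Ctx` : the data;
* `Ctx.rep` : the action on `A`;
* `Ctx.rich_of`, `Ctx.rich_inner`, `Ctx.rich_outer` : involutions outside `A`;
* `Ctx.facts` : the facts needed for the fusion argument.
-/
import Cfsg.Agent.Lib.U62Module.Fusion
import Cfsg.Agent.Lib.U62Module.InnerConj
import Cfsg.Agent.Lib.U62Module.OuterForms
import Cfsg.Agent.Lib.U62Module.OuterModel
import Cfsg.Agent.Lib.U62Module.Orbit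
import Cfsg.Agent.Lib.U62Module.Irred

set_option autoImplicit false

namespace Cfsg.Agent.U62Module

open Data Cfsg.Agent.U62Cover Cfsg.Agent.ThreeTransSU
open scoped IsMulCommutative

variable {X : Type*} [Group X]

/-- The data of the configuration. -/
structure Ctx (A L : Subgroup X) where
  norm : L ≤ Subgroup.normalizer (A : Set X)
  disj : A ⊓ L = ⊥
  card : Nat.card A = 2 ^ 20
  sq : ∀ a ∈ A, a * a = 1
  L0 : Subgroup L
  e : L0 ≃* Cfsg.PSU 6 K 2
  faithful : ∀ k : L, (∀ a ∈ A, (k : X) * a * (k : X)⁻¹ = a) → k = 1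
  outer : (∀ k : L, k ∈ L0) ∨ ∃ y : L, y * y = 1 ∧ (∀ k : L, k ∈ L0 ∨ k * y ∈ L0) ∧
    ∀ x : L0, ∃ h : y * (x : L) * y⁻¹ ∈ L0, e ⟨_, h⟩ = sigP (e x)

namespace Ctx

variable {A L : Subgroup X} [IsMulCommutative ↥A] (C : Ctx A L)

/-- The action of the complement. -/
noncomputable def act' : L →* MulAut A := A.normalizerMonoidHom.comp (Subgroup.inclusion C.norm)

theorem act'_coe (k : L) (a : A) : ((C.act' k a : A) : X) = (k : X) * a * (k : X)⁻¹ := rfl

theorem act'_inj : Function.Injective C.act' := by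
  rw [injective_iff_map_eq_one]
  intro k hk
  refine C.faithful k fun a ha => ?_
  have := congrArg (fun m : MulAut A => ((m ⟨a, ha⟩ : A) : X)) hk
  exact this

/-- The lift of an element of SU(6,2). -/
noncomputable def lift : U6 →* L := (C.L0.subtype.comp C.e.symm.toMonoidHom).comp (toPSU 6 K)

theorem lift_mem (g : U6) : C.lift g ∈ C.L0 := (C.e.symm (toPSU 6 K g)).2

theorem lift_surj {k : L} (hk : k ∈ C.L0) : ∃ g : U6, C.lift g = k := by
  obtain ⟨g, hg⟩ := QuotientGroup.mk'_surjective _ (C.e ⟨k, hk⟩)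
  exact ⟨g, by
    show ((C.e.symm (toPSU 6 K g) : C.L0) : L) = k
    rw [show toPSU 6 K g = C.e ⟨k, hk⟩ from hg, MulEquiv.symm_apply_apply]⟩

theorem lift_eq_one {g : U6} : C.lift g = 1 ↔ g ∈ Subgroup.center U6 := by
  rw [← toPSU_eq_one]
  show ((C.e.symm (toPSU 6 K g) : C.L0) : L) = 1 ↔ _
  rw [OneMemClass.coe_eq_one]
  exact C.e.symm.map_eq_one_iff

/-- The action on `A`. -/
noncomputable def rep : Rep A where
  α := C.act'.comp C.lift
  sq a := Subtype.ext (C.sq a a.2)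
  card := C.card
  ker g := by
    show C.act' (C.lift g) = 1 ↔ _
    rw [← C.lift_eq_one]
    exact ⟨fun h => C.act'_inj (h.trans (map_one _).symm), fun h => by rw [h, map_one]⟩

theorem α_eq (g : U6) : C.rep.α g = C.act' (C.lift g) := rfl

include C in
theorem mem_H {H : Subgroup X} (hH : A ⊔ L = H) {t : X} (ht : t ∈ H) : ∃ (a : A) (k : L), t = a * k := by
  rw [← hH, Subgroup.sup_eq_closure] at ht
  induction ht using Subgroup.closure_induction with
  | mem x hx =>
    rcases hx with hx | hx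
    · exact ⟨⟨x, hx⟩, 1, by simp⟩
    · exact ⟨1, ⟨x, hx⟩, by simp⟩
  | one => exact ⟨1, 1, by simp⟩
  | mul x y _ _ hx hy =>
    obtain ⟨a, k, rfl⟩ := hx
    obtain ⟨b, l, rfl⟩ := hy
    refine ⟨a * C.act' k b, k * l, ?_⟩
    rw [Subgroup.coe_mul, Subgroup.coe_mul, C.act'_coe]
    group
  | inv x _ hx =>
    obtain ⟨a, k, rfl⟩ := hx
    refine ⟨C.act' k⁻¹ a⁻¹, k⁻¹, ?_⟩
    rw [C.act'_coe]
    simp only [Subgroup.coe_inv]
    group

theorem sq_form {a : A} {k : L} (h : (a : X) * k * (a * k) = 1) : k * k = 1 ∧ C.act' k a = a := by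
  have hmem : ((k : X) * k) ∈ A ⊓ L := by
    refine ⟨?_, L.mul_mem k.2 k.2⟩
    have e : (k : X) * k = ((a * C.act' k a)⁻¹ : A) := by
      rw [Subgroup.coe_inv, Subgroup.coe_mul, C.act'_coe, eq_inv_iff_mul_eq_one]
      have h2 : (a : X) * ((k : X) * a * (k : X)⁻¹) * ((k : X) * k) = 1 := by rw [← h]; group
      exact mul_eq_one_comm.1 h2
    rw [e]; exact SetLike.coe_mem _
  rw [C.disj, Subgroup.mem_bot] at hmem
  refine ⟨Subtype.ext hmem, Subtype.ext ?_⟩
  have h2 : (a : X) * (C.act' k a : A) = 1 := by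
    have h3 : (a : X) * ((k : X) * a * (k : X)⁻¹) * ((k : X) * k) = 1 := by rw [← h]; group
    rwa [hmem, mul_one, ← C.act'_coe] at h3
  rw [eq_inv_of_mul_eq_one_right h2]
  exact inv_eq_of_mul_eq_one_left (C.sq a a.2)

theorem shift (a v : A) (k : L) :
    (v : X) * (a * k) * (v : X)⁻¹ = ((a * (v * C.act' k v) : A) : X) * k := by
  have hv : v⁻¹ = v := inv_eq_of_mul_eq_one_left (Subtype.ext (C.sq v v.2))
  have h1 : ((a * (v * C.act' k v) : A) : X) = ((v * a * C.act' k v⁻¹ : A) : X) := by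
    rw [hv, ← mul_assoc, mul_comm a v]
  rw [h1, Subgroup.coe_mul, Subgroup.coe_mul, C.act'_coe, Subgroup.coe_inv]
  group

theorem lift_mul_comm {g : U6} {k : L} (h : Commute (C.rep.α g) (C.act' k)) : Commute (C.lift g) k := by
  refine C.act'_inj ?_
  rw [map_mul, map_mul]
  exact h

theorem order_three {g : U6} (h3 : C.rep.α g ^ 3 = 1) (h1 : C.rep.α g ≠ 1) :
    orderOf ((C.lift g : L) : X) = 3 := by
  haveI : Fact (Nat.Prime 3) := ⟨by norm_num⟩
  refine orderOf_eq_prime ?_ ?_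
  · rw [← Subgroup.coe_pow, OneMemClass.coe_eq_one]
    refine C.act'_inj ?_
    rw [map_pow, map_one]
    exact h3
  · rw [ne_eq, OneMemClass.coe_eq_one]
    exact fun e => h1 (by rw [C.α_eq, e, map_one])

variable {H : Subgroup X}

theorem A_le (hH : A ⊔ L = H) : A ≤ H := hH ▸ le_sup_left

theorem L_le (hH : A ⊔ L = H) : L ≤ H := hH ▸ le_sup_right

theorem rich_vec (hH : A ⊔ L = H) {a : A} (h : C.rep.Fix3 a) : Rich H (a : X) := by
  obtain ⟨g, hfix, h1, h3⟩ := h
  refine ⟨(C.lift g : L), L_le hH (C.lift g).2, C.order_three h3 h1, ?_⟩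
  have := congrArg Subtype.val hfix
  rw [C.α_eq, C.act'_coe] at this
  exact mul_inv_eq_iff_eq_mul.1 this

theorem rich_of (hH : A ⊔ L = H) {a : A} {k : L} (h : C.rep.Rich2 (C.act' k) a) : Rich H ((a : X) * k) := by
  obtain ⟨g, v, hc, h3, h1, hfix⟩ := h
  have hr : Rich H ((v : X) * (a * k) * (v : X)⁻¹) := by
    refine ⟨(C.lift g : L), L_le hH (C.lift g).2, C.order_three h3 h1, ?_⟩
    rw [C.shift]
    have e1 := congrArg Subtype.val hfix
    rw [C.α_eq, C.act'_coe] at e1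
    have e2 : ((C.lift g : L) : X) * (k : X) = (k : X) * (C.lift g : L) :=
      congrArg Subtype.val (C.lift_mul_comm hc).eq
    exact Commute.mul_right (mul_inv_eq_iff_eq_mul.1 e1) e2
  have := hr.conj (H.inv_mem (A_le hH v.2))
  rwa [inv_inv, show (v : X)⁻¹ * ((v : X) * (a * k) * (v : X)⁻¹) * v = (a : X) * k by group] at this

theorem conj_of (hH : A ⊔ L = H) {a b : A} {k : L} (h : C.rep.Conj2 (C.act' k) b a) :
    ∃ h ∈ H, (a : X) * k = h * ((b : X) * k) * h⁻¹ := by
  obtain ⟨g, v, hc, he⟩ := h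
  refine ⟨(v : X)⁻¹ * (C.lift g : L), H.mul_mem (H.inv_mem (A_le hH v.2)) (L_le hH (C.lift g).2), ?_⟩
  have e1 := congrArg Subtype.val he
  rw [C.α_eq, C.act'_coe] at e1
  have e2 : ((C.lift g : L) : X) * (k : X) = (k : X) * (C.lift g : L) :=
    congrArg Subtype.val (C.lift_mul_comm hc).eq
  calc (a : X) * k = (v : X)⁻¹ * (((a * (v * C.act' k v) : A) : X) * k) * v := by rw [← C.shift]; group
    _ = (v : X)⁻¹ * (((C.lift g : L) : X) * b * ((C.lift g : L) : X)⁻¹ * k) * v := by rw [e1]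
    _ = (v : X)⁻¹ * (((C.lift g : L) : X) * b * ((C.lift g : L) : X)⁻¹ *
        ((k : X) * (C.lift g : L) * ((C.lift g : L) : X)⁻¹)) * v := by rw [mul_inv_cancel_right]
    _ = _ := by rw [← e2]; group

/-- Conjugating the complement part to a representative. -/
theorem move_rep {a : A} {k k₀ s : L} (hk : k = s * k₀ * s⁻¹) (ha : C.act' k a = a) :
    ∃ b : A, C.act' k₀ b = b ∧ (a : X) * k = (s : X) * ((b : X) * k₀) * (s : X)⁻¹ := by
  refine ⟨C.act' s⁻¹ a, ?_, ?_⟩
  · rw [hk, map_mul, map_mul, map_inv, MulAut.mul_apply, MulAut.mul_apply] at ha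
    have := congrArg (fun x => (C.act' s)⁻¹ x) ha
    simp only [MulAut.inv_apply_self] at this
    rw [map_inv]
    exact this
  · rw [hk, C.act'_coe]
    simp only [Subgroup.coe_mul, Subgroup.coe_inv]
    group

variable [Finite X] (B : Base C.rep)

/-- The exceptional involution. -/
noncomputable def t₀ : X := (B.φ badRep : X) * (C.lift (invRep 1) : L)

theorem acts_invRep {n : ℕ} (hn : ∀ l ∈ caseWord n, l < 8) :
    B.ActsM (C.act' (C.lift (invRep n))) (colsT (caseWord n)) := B.actsM_word hn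

theorem classes_inner (hH : A ⊔ L = H) {a : A} {k : L} (hk : k ∈ C.L0) (hk2 : k * k = 1) (hk1 : k ≠ 1)
    (ha : C.act' k a = a) :
    Rich H ((a : X) * k) ∨ ∃ h ∈ H, (a : X) * k = h * C.t₀ B * h⁻¹ := by
  obtain ⟨g, rfl⟩ := C.lift_surj hk
  obtain ⟨n, hn, s, hs⟩ := C.rep.inner_class (g := g) (by rw [C.α_eq, ← map_mul, hk2, map_one])
    (fun e => hk1 (C.act'_inj (e.trans (map_one _).symm)))
  have hk' : C.lift g = C.lift s * C.lift (invRep n) * (C.lift s)⁻¹ := C.act'_inj (by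
    simp only [map_mul, map_inv]
    exact hs)
  obtain ⟨b, hb, hab⟩ := C.move_rep hk' ha
  have hs' : ((C.lift s : L) : X) ∈ H := L_le hH (C.lift s).2
  rw [hab]
  have hw : ∀ n < 3, ∀ l ∈ caseWord n, l < 8 := by decide +kernel
  have hacts := C.acts_invRep B (hw n hn)
  interval_cases n
  · rcases B.inv_cases hacts invA hb with h | ⟨e, he, -⟩
    · exact Or.inl ((C.rich_of hH h).conj hs')
    · exact absurd he List.not_mem_nil
  · rcases B.inv_cases hacts invB hb with h | ⟨e, he, v, hv⟩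
    · exact Or.inl ((C.rich_of hH h).conj hs')
    · have h := List.all_eq_true.1 bad_facts e he
      simp only [Bool.and_eq_true, List.all_eq_true, decide_eq_true_eq, Nat.beq_eq] at h
      obtain ⟨⟨hlt, hev⟩, hcomm⟩ := h
      have hsp := special_facts
      simp only [Bool.and_eq_true, decide_eq_true_eq] at hsp
      have hacts : B.ActsM (C.act' (C.lift (invRep 1))) colsCB := hacts
      have hbad : badRep < 2 ^ 20 := hsp.1.1.1.1.1.1.2
      have hC : ∀ c ∈ colsCB, c < 2 ^ 20 := fun c hc => by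
        rw [show colsCB = colsT (caseWord 1) from rfl, colsT_eq (hw 1 (by norm_num))] at hc
        exact colsA_small (hw 1 (by norm_num)) c hc
      obtain ⟨h1, h2, h3⟩ : ∃ g : U6, Commute (C.rep.α g) (C.act' (C.lift (invRep 1))) ∧
          C.rep.α g (B.φ badRep) = B.φ e.1 := by
        refine ⟨wsu (wordA e.2.1), ?_, ?_⟩
        · refine MulEquiv.ext fun z => ?_
          obtain ⟨y, hy, rfl⟩ := B.φ_surj z
          rw [MulAut.mul_apply, MulAut.mul_apply, hacts y hy, (B.evA_acts hlt hy).1,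
            (B.evA_acts hlt (ev_lt hC y)).1, hacts _ (B.evA_acts hlt hy).2]
          congr 1
          rw [evA_eq hlt (ev_lt hC y), evA_eq hlt hy]
          refine ext_unit (f := fun y => ev (colsA e.2.1) (ev colsCB y))
            (g := fun y => ev colsCB (ev (colsA e.2.1) y)) (fun _ _ => by simp only [ev_xor])
            (fun _ _ => by simp only [ev_xor]) (fun j hj => ?_) hy
          have := hcomm j (List.mem_range.2 hj)
          have hj2 : (2 : ℕ) ^ j < 2 ^ 20 := Nat.pow_lt_pow_right (by norm_num) hj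
          rwa [evA_eq hlt (ev_lt hC _), evA_eq hlt hj2] at this
        · rw [(B.evA_acts hlt hbad).1, hev]
      obtain ⟨h, hh, he'⟩ := C.conj_of hH (a := b) (b := B.φ badRep) ⟨h1, v, h2, h3.trans hv⟩
      refine Or.inr ⟨(C.lift s : L) * h, H.mul_mem hs' hh, ?_⟩
      rw [he', t₀]
      group
  · rcases B.inv_cases hacts invC hb with h | ⟨e, he, -⟩
    · exact Or.inl ((C.rich_of hH h).conj hs')
    · exact absurd he List.not_mem_nil

include B in
theorem classes_outer (hH : A ⊔ L = H) {y : L} (hy2 : y * y = 1)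
    (hy : ∀ x : C.L0, ∃ h : y * (x : L) * y⁻¹ ∈ C.L0, C.e ⟨_, h⟩ = sigP (C.e x))
    {a : A} {k : L} (hky : k * y ∈ C.L0) (hk2 : k * k = 1) (ha : C.act' k a = a) :
    Rich H ((a : X) * k) := by
  have hyc : ∀ g : U6, y * C.lift g * y⁻¹ = C.lift (sigU g) := fun g => by
    obtain ⟨h, he⟩ := hy (C.e.symm (toPSU 6 K g))
    rw [MulEquiv.apply_symm_apply, sigP_toPSU] at he
    have := congrArg (fun x : C.L0 => (x : L)) (congrArg C.e.symm he)
    rw [MulEquiv.symm_apply_apply] at this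
    exact this
  obtain ⟨g, hg⟩ := C.lift_surj hky
  have hk : k = C.lift g * y := by
    rw [hg, mul_assoc, hy2, mul_one]
  have hyinv : y⁻¹ = y := inv_eq_of_mul_eq_one_left hy2
  have hgg : C.lift (g * sigU g) = 1 := by
    rw [map_mul, ← hyc, hyinv, ← hk2, hk]
    group
  set z := g * sigU g with hz
  have hzc : z ∈ Subgroup.center U6 := C.lift_eq_one.1 hgg
  have hgσ : sigU g * g = z := by
    have : g⁻¹ * z * g = z := by
      rw [mul_assoc, ← (Subgroup.mem_center_iff.1 hzc g), inv_mul_cancel_left]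
    rw [← this, hz]; group
  have hσz : sigU z = z := by rw [hz, map_mul, sigU_sigU, hgσ]
  obtain ⟨g', hg', hlift⟩ : ∃ g' : U6, g' * sigU g' = 1 ∧ C.lift g' = C.lift g := by
    refine ⟨g * z, ?_, by rw [map_mul, hgg, mul_one]⟩
    have h3 := center_cube cardK (by norm_num) hzc
    rw [pow_succ, pow_two] at h3
    calc g * z * sigU (g * z) = g * (z * sigU g) * z := by rw [map_mul, hσz]; group
      _ = g * (sigU g * z) * z := by rw [← Subgroup.mem_center_iff.1 hzc (sigU g)]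
      _ = g * sigU g * z * z := by group
      _ = 1 := by rw [← hz]; exact h3
  obtain ⟨s, hs⟩ := forms_class hg'
  have hm : Base.Twists C.rep (C.act' y) := fun g x => by
    show C.act' y (C.act' (C.lift g) x) = C.act' (C.lift (sigU g)) (C.act' y x)
    rw [← MulAut.mul_apply, ← MulAut.mul_apply, ← map_mul, ← map_mul, ← hyc, inv_mul_cancel_right]
  have hm2 : ∀ x, C.act' y (C.act' y x) = x := fun x => by
    rw [← MulAut.mul_apply, ← map_mul, hy2, map_one, MulAut.one_apply]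
  have hmσ := B.actsM_sig hm hm2
  have hys : y * (C.lift s)⁻¹ = (C.lift (sigU s))⁻¹ * y := by
    rw [← hyc]; group
  rcases hs with hs | hs
  · have hk' : k = C.lift s * y * (C.lift s)⁻¹ := by
      rw [hk, ← hlift, hs, map_mul, map_inv, mul_assoc, mul_assoc, hys]
    obtain ⟨b, hb, hab⟩ := C.move_rep hk' ha
    rcases B.inv_cases hmσ invS hb with h | ⟨e, he, -⟩
    · rw [hab]; exact (C.rich_of hH h).conj (L_le hH (C.lift s).2)
    · exact absurd he List.not_mem_nil
  · have hk' : k = C.lift s * (C.lift (invRep 2) * y) * (C.lift s)⁻¹ := by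
      rw [hk, ← hlift, hs, map_mul, map_mul, map_inv]
      simp only [mul_assoc]
      rw [hys]
    obtain ⟨b, hb, hab⟩ := C.move_rep hk' ha
    have hw : ∀ l ∈ caseTWord, l < 8 := by decide +kernel
    have hacts : B.ActsM (C.act' (C.lift (invRep 2) * y)) colsCT := fun x hx => by
      have hsig : ∀ c ∈ sigC, c < 2 ^ 20 := by decide +kernel
      rw [map_mul, MulAut.mul_apply, hmσ x hx,
        (C.acts_invRep B (n := 2) hw) _ (ev_lt hsig x), colsCT, ev_comp]
      rfl
    rcases B.inv_cases hacts invT hb with h | ⟨e, he, -⟩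
    · rw [hab]; exact (C.rich_of hH h).conj (L_le hH (C.lift s).2)
    · exact absurd he List.not_mem_nil

include B in
theorem inOrb_conj {y : ℕ} (hy : y < 2 ^ 20) (ho : inOrb y = true) (k : L) :
    ∃ z < 2 ^ 20, inOrb z = true ∧ C.act' k (B.φ y) = B.φ z := by
  have inner : ∀ (g : U6) {y : ℕ}, y < 2 ^ 20 → inOrb y = true →
      ∃ z < 2 ^ 20, inOrb z = true ∧ C.act' (C.lift g) (B.φ y) = B.φ z := fun g y hy ho => by
    obtain ⟨w, hw, hact⟩ := B.exists_acts g
    exact ⟨_, ev_lt (colsA_small fun l hl => (hw l hl).trans (by norm_num)) y, inOrb_ev hw hy ho, hact y hy⟩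
  by_cases hk : k ∈ C.L0
  · obtain ⟨g, rfl⟩ := C.lift_surj hk
    exact inner g hy ho
  rcases C.outer with h | ⟨t, ht2, hcov, ht⟩
  · exact absurd (h k) hk
  obtain ⟨g, hg⟩ := C.lift_surj ((hcov k).resolve_left hk)
  have hk' : k = C.lift g * t := by rw [hg, mul_assoc, ht2, mul_one]
  have hm : Base.Twists C.rep (C.act' t) := fun g x => by
    obtain ⟨h, he⟩ := ht (C.e.symm (toPSU 6 K g))
    rw [MulEquiv.apply_symm_apply, sigP_toPSU] at he
    have e2 := congrArg (fun x : C.L0 => (x : L)) (congrArg C.e.symm he)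
    rw [MulEquiv.symm_apply_apply] at e2
    have e3 : t * C.lift g * t⁻¹ = C.lift (sigU g) := e2
    show C.act' t (C.act' (C.lift g) x) = C.act' (C.lift (sigU g)) (C.act' t x)
    rw [← MulAut.mul_apply, ← MulAut.mul_apply, ← map_mul, ← map_mul, ← e3, inv_mul_cancel_right]
  have hm2 : ∀ x, C.act' t (C.act' t x) = x := fun x => by
    rw [← MulAut.mul_apply, ← map_mul, ht2, map_one, MulAut.one_apply]
  have hsig : ∀ c ∈ sigC, c < 2 ^ 20 := by decide +kernel
  obtain ⟨z, hz, hzo, hze⟩ := inner g (ev_lt hsig y) (inOrb_sig ho)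
  exact ⟨z, hz, hzo, by rw [hk', map_mul, MulAut.mul_apply, B.actsM_sig hm hm2 y hy, hze]⟩

include C in
/-- The facts needed for the fusion argument. -/
theorem facts (hH : A ⊔ L = H) (hn : H = Subgroup.normalizer (A : Set X)) (hmeet : Meet H)
    (hirr : ∀ B : Subgroup X, B ≤ A → (∀ h ∈ H, ∀ b ∈ B, h * b * h⁻¹ ∈ B) → B = ⊥ ∨ B = A) :
    ∃ t₀, Facts A H t₀ := by
  obtain ⟨B⟩ := C.rep.exists_base
  have hsp := special_facts
  simp only [Bool.and_eq_true, decide_eq_true_eq, Nat.beq_eq, Bool.not_eq_true', ← Bool.not_eq_true] at hsp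
  obtain ⟨⟨⟨⟨⟨⟨⟨⟨⟨db, du⟩, dv⟩, lb⟩, lu⟩, lv⟩, nu⟩, nv⟩, wu⟩, wv⟩ := hsp
  have hw : ∀ l ∈ caseWord 1, l < 8 := by decide +kernel
  set k₀ : L := C.lift (invRep 1) with hk₀
  have hacts : B.ActsM (C.act' k₀) colsCB := C.acts_invRep B (n := 1) hw
  have hfix : ∀ x < 2 ^ 20, dlt colsCB x = 0 → C.act' k₀ (B.φ x) = B.φ x := fun x hx h => by
    rw [hacts x hx, Nat.xor_eq_zero_iff.1 h]
  have hcomm : ∀ a b : A, Commute (a : X) (b : X) := fun a b =>
    congrArg Subtype.val (mul_comm' a b)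
  have hk₀sq : k₀ * k₀ = 1 := by
    have : wsu (wordA (caseWord 1)) * wsu (wordA (caseWord 1)) = 1 := by
      rw [← wsu_append]
      exact wsu_eq_one (by decide +kernel) (by decide +kernel)
    rw [hk₀, ← map_mul, invRep, this, map_one]
  have hk₀1 : k₀ ≠ 1 := fun e => by
    have hmove : (List.range 20).any (fun b => !(Nat.beq (ev colsCB (2 ^ b)) (2 ^ b))) = true := by decide +kernel
    obtain ⟨b, hb, hne⟩ := List.any_eq_true.1 hmove
    have hb' : (2 : ℕ) ^ b < 2 ^ 20 := Nat.pow_lt_pow_right (by norm_num) (List.mem_range.1 hb)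
    have h1 := hacts _ hb'
    rw [e, map_one, MulAut.one_apply] at h1
    have hC : ∀ c ∈ colsCB, c < 2 ^ 20 := by decide +kernel
    simp only [Bool.not_eq_true', ← Bool.not_eq_true, Nat.beq_eq] at hne
    exact hne (B.φ_inj (ev_lt hC _) hb' h1.symm)
  have hct : ∀ x < 2 ^ 20, dlt colsCB x = 0 → Commute ((B.φ x : A) : X) (C.t₀ B) := fun x hx h => by
    have h1 : ((k₀ : L) : X) * (B.φ x : A) * ((k₀ : L) : X)⁻¹ = (B.φ x : A) :=
      congrArg Subtype.val (hfix x hx h)
    exact Commute.mul_right (hcomm _ _) (mul_inv_eq_iff_eq_mul.1 h1).symm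
  have hwit : ∀ x < 2 ^ 20, dlt colsCB x = 0 →
      caseBWit.any (fun e => Nat.beq e.1 (ev caseBP (badRep ^^^ x))) = true →
        Rich H (C.t₀ B * (B.φ x : A)) := fun x hx h hwx => by
    have hd : dlt colsCB (badRep ^^^ x) = 0 := by
      have e : dlt colsCB (badRep ^^^ x) = dlt colsCB badRep ^^^ dlt colsCB x := by
        simp only [dlt, ev_xor]; ac_rfl
      rw [e, db, h, Nat.xor_zero]
    have := C.rich_of hH (B.inv_wit hacts invB (Nat.xor_lt_two_pow lb hx) hd hwx)
    rw [B.φ_xor, Subgroup.coe_mul] at this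
    have h1 : ((k₀ : L) : X) * (B.φ x : A) = (B.φ x : A) * ((k₀ : L) : X) :=
      mul_inv_eq_iff_eq_mul.1 (congrArg Subtype.val (hfix x hx h))
    rwa [t₀, mul_assoc, h1, ← mul_assoc]
  refine ⟨C.t₀ B, hn, hmeet, fun a ha b hb => hcomm ⟨a, ha⟩ ⟨b, hb⟩, C.sq,
    fun a ha _ => C.rich_vec hH (B.fix3 ⟨a, ha⟩), H.mul_mem (A_le hH (SetLike.coe_mem _)) (L_le hH k₀.2),
    fun ht => ?_, ?_, fun t ht htA ht2 => ?_, ?_, hirr⟩
  · have : ((k₀ : L) : X) ∈ A ⊓ L := ⟨(A.mul_mem_cancel_left (SetLike.coe_mem _)).1 ht, k₀.2⟩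
    rw [C.disj, Subgroup.mem_bot, OneMemClass.coe_eq_one] at this
    exact hk₀1 this
  · have hc := hct badRep lb db
    have hsq : ((B.φ badRep : A) : X) * (B.φ badRep : A) = 1 := C.sq _ (SetLike.coe_mem _)
    have h1 : ((k₀ : L) : X) * (B.φ badRep : A) = (B.φ badRep : A) * ((k₀ : L) : X) :=
      mul_inv_eq_iff_eq_mul.1 (congrArg Subtype.val (hfix badRep lb db))
    have hks : ((k₀ : L) : X) * (k₀ : L) = 1 := congrArg Subtype.val hk₀sq
    rw [t₀, mul_assoc, ← mul_assoc ((k₀ : L) : X) ((B.φ badRep : A) : X), h1, mul_assoc, hks, mul_one]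
    exact hsq
  · obtain ⟨a, k, rfl⟩ := C.mem_H hH ht
    obtain ⟨hk2, ha⟩ := C.sq_form ht2
    have hk1 : k ≠ 1 := fun e => htA (by rw [e, Subgroup.coe_one, mul_one]; exact a.2)
    by_cases hk : k ∈ C.L0
    · exact C.classes_inner B hH hk hk2 hk1 ha
    rcases C.outer with h | ⟨y, hy2, hcov, hy⟩
    · exact absurd (h k) hk
    exact Or.inl (C.classes_outer B hH hy2 hy ((hcov k).resolve_left hk) hk2 ha)
  · refine ⟨(B.φ uVec : A), (B.φ vVec : A), SetLike.coe_mem _, SetLike.coe_mem _, hct _ lu du, hct _ lv dv,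
      hwit _ lu du wu, hwit _ lv dv wv, ?_, ?_, fun h hh he => ?_⟩
    · rw [Ne, OneMemClass.coe_eq_one, ← B.φ_zero]
      exact fun e => nu (B.φ_inj lu (by norm_num) e)
    · rw [Ne, OneMemClass.coe_eq_one, ← B.φ_zero]
      exact fun e => nv (B.φ_inj lv (by norm_num) e)
    · obtain ⟨a, k, rfl⟩ := C.mem_H hH hh
      obtain ⟨z, hz, hzo, hze⟩ := C.inOrb_conj B lu inOrb_u k
      have e1 : (a : X) * (k : X) * (B.φ uVec : A) * ((a : X) * (k : X))⁻¹ = (B.φ z : A) := by
        rw [show (a : X) * (k : X) * (B.φ uVec : A) * ((a : X) * (k : X))⁻¹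
          = (a : X) * ((k : X) * (B.φ uVec : A) * (k : X)⁻¹) * (a : X)⁻¹ by group,
          ← C.act'_coe, hze, (hcomm a (B.φ z)).eq, mul_inv_cancel_right]
      have e2 := B.φ_inj hz lv (Subtype.ext (e1.symm.trans he))
      rw [e2, inOrb_v] at hzo
      exact Bool.false_ne_true hzo

end Ctx

end Cfsg.Agent.U62Module
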